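import Cfsg.Agent.Lib.H16.G24M.ModTw

set_option autoImplicit false
set_option maxRecDepth 100000
set_option maxHeartbeats 0
set_option Elab.async false

/-! # The relations among the twist symbols (generated) -/

namespace Cfsg.Agent.Lib.H27.Co3M.C

theorem rel_alg_add {M : Type*} [AddCommGroup M] (a0 a1 a2 a3 a4 a5 a6 a7 a8 : M)
    (n0 : (30 : ℤ) • a0 = 0)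
    (n1 : (30 : ℤ) • a1 = 0)
    (n2 : (30 : ℤ) • a2 = 0)
    (n3 : (30 : ℤ) • a3 = 0)
    (n4 : (30 : ℤ) • a4 = 0)
    (n5 : (30 : ℤ) • a5 = 0)
    (n6 : (30 : ℤ) • a6 = 0)
    (n7 : (30 : ℤ) • a7 = 0)
    (n8 : (30 : ℤ) • a8 = 0)
    (h0 : (0 : ℤ) • a0 + ((0 : ℤ) • a1 + ((2 : ℤ) • a2 + ((0 : ℤ) • a3 + ((29 : ℤ) • a4 + ((0 : ℤ) • a5 + ((0 : ℤ) • a6 + ((0 : ℤ) • a7 + ((0 : ℤ) • a8 + 0)))))))) = 0)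
    (h1 : (0 : ℤ) • a0 + ((0 : ℤ) • a1 + ((0 : ℤ) • a2 + ((29 : ℤ) • a3 + ((29 : ℤ) • a4 + ((0 : ℤ) • a5 + ((1 : ℤ) • a6 + ((0 : ℤ) • a7 + ((0 : ℤ) • a8 + 0)))))))) = 0)
    (h2 : (0 : ℤ) • a0 + ((0 : ℤ) • a1 + ((27 : ℤ) • a2 + ((0 : ℤ) • a3 + ((0 : ℤ) • a4 + ((0 : ℤ) • a5 + ((1 : ℤ) • a6 + ((0 : ℤ) • a7 + ((0 : ℤ) • a8 + 0)))))))) = 0)
    (h3 : (0 : ℤ) • a0 + ((0 : ℤ) • a1 + ((1 : ℤ) • a2 + ((2 : ℤ) • a3 + ((29 : ℤ) • a4 + ((0 : ℤ) • a5 + ((1 : ℤ) • a6 + ((0 : ℤ) • a7 + ((0 : ℤ) • a8 + 0)))))))) = 0)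
    (h4 : (1 : ℤ) • a0 + ((0 : ℤ) • a1 + ((29 : ℤ) • a2 + ((25 : ℤ) • a3 + ((29 : ℤ) • a4 + ((1 : ℤ) • a5 + ((1 : ℤ) • a6 + ((0 : ℤ) • a7 + ((3 : ℤ) • a8 + 0)))))))) = 0)
    (h5 : (1 : ℤ) • a0 + ((29 : ℤ) • a1 + ((27 : ℤ) • a2 + ((1 : ℤ) • a3 + ((0 : ℤ) • a4 + ((2 : ℤ) • a5 + ((27 : ℤ) • a6 + ((28 : ℤ) • a7 + ((2 : ℤ) • a8 + 0)))))))) = 0)
    (h6 : (29 : ℤ) • a0 + ((0 : ℤ) • a1 + ((27 : ℤ) • a2 + ((5 : ℤ) • a3 + ((29 : ℤ) • a4 + ((1 : ℤ) • a5 + ((28 : ℤ) • a6 + ((29 : ℤ) • a7 + ((1 : ℤ) • a8 + 0)))))))) = 0)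
    (h7 : (27 : ℤ) • a0 + ((1 : ℤ) • a1 + ((0 : ℤ) • a2 + ((3 : ℤ) • a3 + ((29 : ℤ) • a4 + ((4 : ℤ) • a5 + ((2 : ℤ) • a6 + ((2 : ℤ) • a7 + ((1 : ℤ) • a8 + 0)))))))) = 0)
    (h8 : (28 : ℤ) • a0 + ((29 : ℤ) • a1 + ((24 : ℤ) • a2 + ((28 : ℤ) • a3 + ((1 : ℤ) • a4 + ((28 : ℤ) • a5 + ((28 : ℤ) • a6 + ((0 : ℤ) • a7 + ((29 : ℤ) • a8 + 0)))))))) = 0)
    (h9 : (27 : ℤ) • a0 + ((29 : ℤ) • a1 + ((28 : ℤ) • a2 + ((1 : ℤ) • a3 + ((29 : ℤ) • a4 + ((0 : ℤ) • a5 + ((23 : ℤ) • a6 + ((28 : ℤ) • a7 + ((1 : ℤ) • a8 + 0)))))))) = 0)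
    (h10 : (28 : ℤ) • a0 + ((24 : ℤ) • a1 + ((2 : ℤ) • a2 + ((1 : ℤ) • a3 + ((2 : ℤ) • a4 + ((29 : ℤ) • a5 + ((2 : ℤ) • a6 + ((0 : ℤ) • a7 + ((5 : ℤ) • a8 + 0)))))))) = 0)
    : a0 = 0 ∧ a1 = 0 ∧ a2 = 0 ∧ a3 = 0 ∧ a4 = 0 ∧ a5 = 0 ∧ a6 = 0 ∧ a7 = 0 ∧ a8 = 0 := by
  refine ⟨?_, ?_, ?_, ?_, ?_, ?_, ?_, ?_, ?_⟩
  · linear_combination (norm := module) (-14 : ℤ) • n0 + (-4 : ℤ) • n1 + (-24 : ℤ) • n2 + (-17 : ℤ) • n3 + (-45 : ℤ) • n4 + (-26 : ℤ) • n6 + (-19 : ℤ) • n7 + (-7 : ℤ) • n8 + (10 : ℤ) • h0 + (3 : ℤ) • h1 + (-3 : ℤ) • h2 + (13 : ℤ) • h3 + (4 : ℤ) • h4 + (14 : ℤ) • h5 + (14 : ℤ) • h6 + (12 : ℤ) • h7 + (7 : ℤ) • h8 + (-9 : ℤ) • h9 + (-10 : ℤ) • h10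
  · linear_combination (norm := module) (6 : ℤ) • n0 + (29 : ℤ) • n1 + (3 : ℤ) • n2 + (1 : ℤ) • n3 + (-25 : ℤ) • n4 + (21 : ℤ) • n5 + (14 : ℤ) • n6 + (2 : ℤ) • n7 + (14 : ℤ) • n8 + (-11 : ℤ) • h0 + (6 : ℤ) • h1 + (8 : ℤ) • h2 + (11 : ℤ) • h3 + (4 : ℤ) • h4 + (-11 : ℤ) • h5 + (6 : ℤ) • h6 + (9 : ℤ) • h7 + (-13 : ℤ) • h8 + (2 : ℤ) • h9 + (-10 : ℤ) • h10
  · linear_combination (norm := module) (27 : ℤ) • n0 + (15 : ℤ) • n1 + (25 : ℤ) • n2 + (-5 : ℤ) • n3 + (29 : ℤ) • n4 + (2 : ℤ) • n5 + (13 : ℤ) • n6 + (15 : ℤ) • n7 + (1 : ℤ) • n8 + (3 : ℤ) • h0 + (8 : ℤ) • h1 + (-12 : ℤ) • h2 + (-11 : ℤ) • h3 + (-15 : ℤ) • h7 + (-15 : ℤ) • h9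
  · linear_combination (norm := module) (27 : ℤ) • n0 + (15 : ℤ) • n1 + (24 : ℤ) • n2 + (-4 : ℤ) • n3 + (29 : ℤ) • n4 + (2 : ℤ) • n5 + (13 : ℤ) • n6 + (15 : ℤ) • n7 + (1 : ℤ) • n8 + (4 : ℤ) • h0 + (7 : ℤ) • h1 + (-11 : ℤ) • h2 + (-11 : ℤ) • h3 + (-15 : ℤ) • h7 + (-15 : ℤ) • h9
  · linear_combination (norm := module) (9 : ℤ) • n2 + (14 : ℤ) • n3 + (30 : ℤ) • n4 + (1 : ℤ) • n6 + (-10 : ℤ) • h0 + (-14 : ℤ) • h1 + (-9 : ℤ) • h2 + (-7 : ℤ) • h3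
  · linear_combination (norm := module) (16 : ℤ) • n0 + (-3 : ℤ) • n1 + (4 : ℤ) • n2 + (20 : ℤ) • n3 + (5 : ℤ) • n4 + (9 : ℤ) • n5 + (9 : ℤ) • n6 + (-4 : ℤ) • n7 + (12 : ℤ) • n8 + (12 : ℤ) • h0 + (-4 : ℤ) • h1 + (4 : ℤ) • h2 + (-2 : ℤ) • h3 + (-3 : ℤ) • h4 + (7 : ℤ) • h5 + (-8 : ℤ) • h6 + (-6 : ℤ) • h7 + (-13 : ℤ) • h8 + (6 : ℤ) • h9 + (4 : ℤ) • h10
  · linear_combination (norm := module) (27 : ℤ) • n0 + (15 : ℤ) • n1 + (5 : ℤ) • n2 + (7 : ℤ) • n3 + (29 : ℤ) • n4 + (2 : ℤ) • n5 + (12 : ℤ) • n6 + (15 : ℤ) • n7 + (1 : ℤ) • n8 + (-6 : ℤ) • h0 + (-6 : ℤ) • h1 + (10 : ℤ) • h2 + (12 : ℤ) • h3 + (-15 : ℤ) • h7 + (-15 : ℤ) • h9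
  · linear_combination (norm := module) (20 : ℤ) • n0 + (10 : ℤ) • n1 + (34 : ℤ) • n2 + (18 : ℤ) • n3 + (42 : ℤ) • n4 + (-7 : ℤ) • n5 + (23 : ℤ) • n6 + (29 : ℤ) • n7 + (-2 : ℤ) • n8 + (8 : ℤ) • h0 + (-8 : ℤ) • h1 + (2 : ℤ) • h2 + (-13 : ℤ) • h4 + (-8 : ℤ) • h5 + (-11 : ℤ) • h6 + (-9 : ℤ) • h7 + (4 : ℤ) • h8 + (-11 : ℤ) • h9 + (6 : ℤ) • h10
  · linear_combination (norm := module) (-1 : ℤ) • n0 + (7 : ℤ) • n1 + (17 : ℤ) • n2 + (2 : ℤ) • n3 + (-25 : ℤ) • n4 + (5 : ℤ) • n5 + (-7 : ℤ) • n7 + (8 : ℤ) • n8 + (9 : ℤ) • h0 + (12 : ℤ) • h1 + (-9 : ℤ) • h2 + (8 : ℤ) • h3 + (-10 : ℤ) • h4 + (3 : ℤ) • h5 + (8 : ℤ) • h6 + (3 : ℤ) • h7 + (-8 : ℤ) • h8 + (-4 : ℤ) • h9 + (2 : ℤ) • h10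

end Cfsg.Agent.Lib.H27.Co3M.C
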