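import Cfsg.Agent.Lib.H27.Co3M.C.Data

set_option autoImplicit false
set_option maxRecDepth 100000
set_option maxHeartbeats 0
set_option Elab.async false

/-! # Word lists of the monomial certificate (generated) -/

namespace Cfsg.Agent.Lib.H27.Co3M.C

open Cfsg.Agent.Lib.H17.CosetCert (BT WT)
open Cfsg.Agent.Lib.H17.MonoCert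
open Cfsg.Agent.Lib.H16.G24M
open Cfsg.Agent.Lib.H27.Co3M (lbeq lmem pmem lall nall lbeq_iff lmem_iff pmem_iff forall_of_all forall_lt_of_all)

/-- the exact relators -/
def exactL : List (List ℕ) := [[1, 1, 1, 1, 1, 1, 1], [1, 2, 1, 2, 1, 2, 1, 2, 1, 2], [1, 3, 1, 3, 1, 3, 1, 3, 1, 3, 1, 3, 1, 3], [1, 1, 1, 1, 1, 1, 3, 0, 3, 0, 3, 0, 3, 0, 3], [1, 1, 3, 0, 3, 3, 1, 3, 3, 1, 1, 3, 0, 3, 3, 1, 3, 3], [1, 1, 1, 1, 1, 1, 2, 0, 2, 0, 2, 0, 2, 0, 2, 0, 2, 0, 2], [1, 1, 1, 3, 3, 0, 3, 1, 3, 3, 0, 3, 0, 0, 2, 2, 0, 2, 2], [1, 3, 1, 3, 1, 2, 2, 0, 3, 0, 2, 1, 2, 1, 3, 1, 2, 2, 2], [1, 1, 1, 1, 3, 3, 1, 3, 3, 1, 1, 2, 1, 2, 2, 0,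 2, 1, 2, 2], [1, 1, 1, 2, 1, 1, 2, 0, 2, 1, 3, 3, 0, 0, 2, 2, 1, 3, 0, 3], [1, 1, 1, 2, 0, 3, 1, 1, 2, 2, 1, 1, 1, 2, 0, 3, 1, 1, 2, 2], [1, 1, 1, 2, 2, 1, 1, 3, 3, 3, 3, 0, 0, 3, 1, 2, 0, 2, 1, 2], [1, 1, 3, 3, 0, 2, 1, 1, 2, 2, 0, 2, 1, 2, 0, 2, 2, 2, 1, 2], [1, 3, 3, 3, 1, 3, 3, 3, 1, 3, 3, 3, 1, 3, 3, 3, 1, 3, 3, 3], [1, 1, 1, 1, 1, 2, 2, 0, 2, 2, 1, 2, 0, 0, 2, 2, 0, 2, 2, 1, 2], [1, 1, 1, 1, 3, 3, 0, 0, 2, 1, 3, 0, 0, 0, 3, 3, 0, 0, 2, 1, 3], [1, 1, 1, 1, 3, 0, 3, 1, 3, 0, 2, 1, 1, 2, 2, 2, 2, 0, 0, 3, 3], [1, 1, 1, 1, 2, 1, 2, 0, 3, 3, 1, 1, 2, 2, 0, 3, 1, 3, 0, 0, 3], [1, 1, 1, 3, 1, 1, 2, 0, 3, 3, 0, 2, 0, 2, 2,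 0, 3, 3, 1, 2, 2], [1, 1, 1, 3, 3, 0, 3, 1, 3, 1, 2, 1, 2, 1, 2, 0, 2, 2, 0, 2, 2], [1, 1, 1, 2, 1, 2, 0, 2, 1, 1, 3, 3, 0, 2, 0, 2, 0, 2, 1, 1, 2], [1, 1, 1, 2, 1, 2, 2, 0, 3, 3, 3, 0, 2, 2, 2, 0, 2, 0, 3, 0, 2], [1, 1, 1, 2, 0, 3, 3, 3, 1, 3, 3, 1, 2, 2, 1, 3, 0, 2, 2, 1, 2], [1, 1, 1, 2, 0, 3, 3, 0, 0, 2, 2, 1, 1, 3, 0, 3, 1, 3, 3, 0, 2], [1, 1, 3, 1, 1, 3, 3, 0, 3, 1, 3, 3, 0, 3, 3, 0, 3, 3, 1, 3, 3], [1, 1, 3, 1, 1, 2, 0, 3, 0, 0, 3, 3, 3, 1, 2, 2, 2, 0, 2, 0, 3], [1, 1, 3, 3, 1, 2, 0, 2, 2, 2, 1, 1, 2, 2, 2, 1, 3, 1, 2, 0, 3], [1, 1, 3, 3, 3, 0, 2, 2, 0, 3, 3, 3, 3, 3, 3, 0, 2, 0, 2, 2, 2], [1, 1, 3, 3, 3, 0, 2, 2,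 2, 1, 3, 1, 3, 1, 3, 1, 1, 3, 3, 0, 3], [1, 1, 3, 3, 3, 0, 2, 2, 2, 2, 0, 2, 0, 2, 0, 2, 1, 3, 3, 0, 3], [1, 1, 3, 0, 3, 3, 0, 0, 3, 0, 0, 2, 1, 3, 3, 3, 3, 0, 2, 0, 3], [1, 1, 3, 0, 3, 0, 2, 2, 0, 3, 1, 2, 2, 2, 0, 2, 2, 0, 3, 1, 3], [1, 1, 3, 0, 0, 2, 2, 2, 2, 2, 2, 1, 3, 1, 2, 0, 3, 3, 0, 2, 2], [1, 1, 2, 1, 3, 3, 0, 2, 0, 2, 0, 3, 3, 3, 0, 2, 2, 1, 2, 1, 2], [1, 1, 2, 0, 3, 3, 1, 2, 1, 3, 0, 3, 1, 2, 1, 3, 1, 3, 3, 3, 3], [1, 1, 1, 1, 1, 2, 2, 0, 2, 2, 1, 1, 1, 3, 3, 0, 3, 1, 3, 3, 0, 3], [1, 1, 1, 1, 3, 1, 2, 1, 3, 1, 3, 3, 3, 1, 2, 2, 2, 1, 3, 3, 0, 3], [1, 1, 1, 1, 3, 1, 2, 2, 0, 2, 1, 2, 0, 0, 3, 3, 1, 1, 2, 2,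 1, 3], [1, 1, 1, 1, 3, 3, 1, 3, 3, 1, 3, 0, 3, 0, 3, 0, 2, 0, 2, 1, 2, 2], [1, 1, 1, 1, 3, 3, 0, 0, 2, 1, 3, 1, 1, 1, 1, 3, 3, 0, 0, 2, 1, 3], [1, 1, 1, 1, 3, 3, 0, 2, 2, 1, 3, 3, 1, 3, 1, 2, 2, 1, 3, 0, 0, 2], [1, 1, 1, 1, 3, 0, 3, 3, 1, 2, 0, 3, 3, 0, 2, 2, 0, 2, 2, 2, 1, 3], [1, 1, 1, 1, 3, 0, 0, 3, 1, 3, 1, 3, 1, 2, 2, 0, 0, 3, 1, 3, 0, 3], [1, 1, 1, 3, 1, 3, 3, 3, 0, 2, 1, 3, 0, 0, 0, 2, 2, 2, 0, 2, 0, 3], [1, 1, 1, 3, 1, 3, 0, 3, 1, 1, 2, 0, 2, 2, 0, 2, 2, 2, 2, 0, 0, 2], [1, 1, 1, 3, 1, 2, 1, 3, 3, 1, 2, 0, 2, 2, 2, 1, 3, 3, 3, 0, 0, 2], [1, 1, 1, 3, 1, 2, 1, 3, 3, 3, 1, 2, 0, 0, 3, 0, 0, 3, 1, 2, 0, 3], [1, 1, 1,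 3, 1, 2, 0, 0, 0, 2, 1, 3, 1, 2, 2, 1, 1, 3, 1, 1, 2, 2], [1, 1, 1, 3, 3, 3, 1, 3, 3, 1, 2, 0, 0, 3, 3, 3, 0, 3, 0, 0, 0, 3], [1, 1, 1, 3, 3, 3, 1, 3, 3, 3, 0, 0, 0, 3, 0, 2, 2, 2, 1, 1, 3, 3], [1, 1, 1, 3, 3, 3, 0, 0, 2, 2, 1, 1, 2, 0, 3, 3, 1, 2, 2, 0, 0, 3], [1, 1, 1, 3, 3, 0, 3, 3, 1, 1, 1, 2, 1, 1, 2, 1, 2, 2, 0, 0, 0, 2], [1, 1, 1, 3, 3, 0, 2, 0, 3, 0, 2, 1, 3, 0, 0, 2, 1, 3, 3, 0, 0, 3], [1, 1, 1, 3, 0, 3, 0, 0, 0, 3, 3, 1, 3, 1, 2, 1, 1, 2, 1, 2, 2, 2], [1, 1, 1, 3, 0, 3, 0, 2, 0, 2, 2, 1, 2, 1, 3, 3, 3, 3, 1, 2, 1, 2], [1, 1, 1, 3, 0, 0, 0, 3, 1, 3, 3, 0, 3, 1, 2, 0, 3, 0, 0, 2, 1, 3], [1, 1, 1, 3, 0, 0, 2, 2,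 2, 2, 2, 0, 3, 0, 3, 1, 1, 2, 0, 3, 3, 3], [1, 1, 1, 3, 0, 2, 1, 1, 3, 0, 3, 3, 3, 3, 3, 3, 3, 0, 3, 1, 1, 2], [1, 1, 1, 3, 0, 2, 1, 2, 2, 2, 1, 1, 2, 1, 2, 0, 3, 3, 3, 0, 3, 3], [1, 1, 1, 2, 1, 1, 3, 1, 2, 2, 2, 1, 1, 1, 2, 1, 1, 3, 1, 2, 2, 2], [1, 1, 1, 2, 1, 2, 1, 2, 1, 3, 1, 3, 3, 1, 1, 3, 0, 3, 3, 1, 3, 3], [1, 1, 1, 2, 0, 3, 3, 0, 3, 1, 2, 1, 1, 2, 0, 2, 2, 1, 1, 2, 0, 3], [1, 1, 1, 2, 0, 3, 0, 0, 3, 1, 2, 1, 1, 1, 2, 0, 3, 0, 0, 3, 1, 2], [1, 1, 1, 2, 2, 1, 2, 0, 3, 3, 1, 1, 2, 1, 2, 2, 1, 3, 0, 2, 0, 3], [1, 1, 3, 1, 1, 3, 1, 3, 1, 1, 3, 3, 1, 1, 2, 1, 1, 2, 2, 2, 2, 2], [1, 1, 3, 1, 1, 3, 1, 3, 0, 3, 1, 1, 2,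 1, 1, 2, 1, 3, 0, 2, 1, 2], [1, 1, 3, 1, 1, 2, 1, 2, 0, 0, 3, 3, 3, 0, 2, 2, 0, 2, 2, 2, 2, 2], [1, 1, 3, 1, 3, 1, 3, 1, 3, 1, 3, 1, 3, 1, 1, 2, 1, 2, 1, 2, 1, 2], [1, 1, 3, 1, 3, 3, 1, 2, 1, 1, 2, 2, 0, 3, 3, 0, 3, 1, 1, 3, 3, 3], [1, 1, 3, 1, 3, 3, 0, 0, 3, 3, 1, 3, 1, 2, 2, 1, 2, 1, 3, 1, 1, 2], [1, 1, 3, 1, 3, 0, 0, 3, 1, 3, 3, 0, 2, 1, 1, 3, 3, 3, 1, 1, 3, 3], [1, 1, 3, 1, 2, 2, 2, 0, 2, 1, 2, 1, 1, 2, 2, 1, 1, 2, 0, 2, 1, 3], [1, 1, 3, 3, 1, 3, 3, 1, 3, 3, 3, 3, 3, 1, 3, 0, 0, 2, 1, 3, 0, 3], [1, 1, 3, 3, 1, 2, 0, 3, 3, 1, 3, 3, 0, 2, 0, 2, 1, 1, 3, 3, 0, 2], [1, 1, 3, 3, 1, 2, 2, 2, 1, 2, 0, 0, 3, 0, 2, 0, 3, 0,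 0, 2, 0, 2], [1, 1, 3, 3, 3, 3, 3, 0, 2, 0, 3, 3, 1, 2, 2, 0, 3, 3, 3, 0, 2, 2], [1, 1, 3, 3, 3, 3, 0, 0, 3, 1, 2, 0, 0, 3, 0, 3, 0, 3, 1, 1, 2, 2], [1, 1, 3, 0, 3, 0, 2, 0, 2, 2, 1, 2, 1, 3, 3, 3, 3, 3, 0, 3, 0, 3], [1, 1, 3, 0, 2, 0, 3, 1, 3, 3, 0, 2, 2, 2, 1, 2, 0, 3, 3, 0, 3, 3], [1, 1, 3, 0, 2, 0, 3, 3, 3, 0, 3, 1, 1, 3, 0, 2, 0, 3, 3, 3, 0, 3], [1, 1, 2, 1, 3, 0, 3, 1, 1, 2, 2, 2, 1, 1, 2, 2, 0, 3, 3, 3, 0, 2], [1, 1, 2, 1, 2, 2, 0, 3, 3, 3, 0, 3, 1, 1, 2, 0, 3, 3, 1, 2, 1, 3], [1, 1, 2, 1, 2, 2, 0, 2, 0, 3, 0, 3, 3, 0, 2, 2, 2, 2, 0, 2, 2, 2], [1, 1, 2, 1, 2, 2, 2, 1, 2, 0, 2, 1, 1, 2, 1, 2, 2, 2, 1, 2, 0, 2], [1,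 1, 2, 2, 1, 1, 2, 2, 1, 2, 0, 3, 3, 3, 3, 0, 2, 1, 2, 0, 2, 2], [1, 1, 2, 2, 1, 2, 0, 2, 0, 2, 1, 3, 3, 3, 0, 3, 1, 2, 2, 2, 1, 2], [1, 1, 2, 2, 0, 3, 0, 2, 1, 3, 0, 2, 2, 0, 2, 2, 2, 0, 3, 3, 1, 3], [1, 1, 2, 2, 0, 2, 1, 3, 1, 3, 1, 1, 2, 2, 2, 2, 0, 3, 1, 2, 0, 2], [1, 1, 2, 2, 0, 2, 1, 2, 0, 2, 2, 0, 3, 0, 3, 0, 3, 1, 3, 3, 0, 2], [1, 3, 1, 3, 0, 3, 1, 3, 1, 2, 1, 3, 0, 2, 0, 3, 0, 3, 0, 2, 2, 2], [1, 3, 1, 3, 0, 3, 1, 3, 1, 2, 1, 3, 0, 2, 2, 1, 2, 1, 2, 2, 2, 2], [1, 3, 1, 2, 2, 1, 2, 2, 2, 2, 2, 1, 3, 1, 2, 2, 1, 2, 2, 2, 2, 2], [1, 1, 1, 1, 1, 1, 3, 3, 1, 3, 3, 1, 1, 3, 0, 3, 3, 1, 3, 3, 1, 1, 3], [1, 1, 1, 1, 1,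 1, 2, 2, 1, 2, 0, 0, 2, 2, 0, 2, 2, 1, 2, 0, 0, 2, 2], [1, 1, 1, 1, 1, 3, 1, 2, 0, 2, 1, 2, 1, 1, 1, 2, 2, 1, 1, 3, 3, 3, 3], [1, 1, 1, 1, 1, 3, 1, 2, 2, 0, 0, 3, 0, 3, 3, 3, 1, 3, 0, 3, 1, 3, 3], [1, 1, 1, 1, 1, 3, 3, 0, 0, 0, 3, 0, 3, 1, 3, 0, 2, 1, 1, 2, 2, 2, 2], [1, 1, 1, 1, 1, 3, 0, 3, 3, 3, 1, 3, 0, 3, 1, 3, 3, 0, 0, 3, 1, 2, 2], [1, 1, 1, 1, 1, 3, 0, 0, 0, 2, 1, 2, 0, 3, 3, 1, 1, 2, 2, 0, 3, 1, 3], [1, 1, 1, 1, 1, 2, 1, 3, 0, 0, 0, 3, 3, 0, 0, 2, 1, 3, 0, 0, 0, 3, 3], [1, 1, 1, 1, 1, 2, 2, 1, 3, 0, 3, 1, 1, 1, 2, 1, 1, 2, 0, 2, 1, 3, 3], [1, 1, 1, 1, 1, 2, 2, 0, 2, 2, 0, 0, 0, 0, 3, 3, 0, 3, 1, 3, 3, 0, 3], [1,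 1, 1, 1, 3, 1, 1, 1, 3, 3, 3, 1, 3, 3, 1, 2, 0, 0, 3, 3, 3, 0, 3], [1, 1, 1, 1, 3, 1, 1, 1, 3, 3, 0, 3, 0, 0, 3, 0, 0, 0, 2, 2, 1, 2, 2], [1, 1, 1, 1, 3, 1, 1, 3, 3, 3, 3, 1, 3, 3, 1, 3, 0, 0, 2, 1, 2, 0, 2], [1, 1, 1, 1, 3, 1, 1, 2, 2, 2, 0, 3, 3, 3, 1, 3, 0, 2, 2, 0, 3, 0, 2], [1, 1, 1, 1, 3, 1, 3, 3, 0, 3, 1, 2, 0, 3, 0, 0, 2, 1, 3, 1, 1, 1, 3], [1, 1, 1, 1, 3, 3, 1, 3, 1, 2, 1, 1, 2, 1, 2, 2, 2, 1, 1, 1, 3, 0, 3], [1, 1, 1, 1, 3, 3, 3, 0, 3, 0, 0, 3, 0, 2, 0, 2, 2, 1, 1, 1, 2, 1, 2], [1, 1, 1, 1, 3, 3, 3, 0, 2, 0, 0, 3, 0, 0, 0, 3, 3, 3, 0, 2, 0, 0, 3], [1, 1, 1, 1, 3, 3, 0, 0, 2, 0, 0, 3, 3, 0, 2, 0, 3, 1, 1, 1, 3,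 0, 2], [1, 1, 1, 1, 3, 0, 3, 0, 2, 2, 2, 2, 0, 3, 0, 3, 3, 1, 3, 1, 2, 1, 2], [1, 1, 1, 1, 3, 0, 0, 2, 1, 2, 2, 2, 2, 2, 2, 2, 1, 2, 0, 0, 3, 1, 2], [1, 1, 1, 1, 3, 0, 2, 1, 1, 2, 1, 3, 0, 0, 0, 3, 0, 2, 1, 1, 2, 1, 3], [1, 1, 1, 1, 3, 0, 2, 2, 2, 1, 1, 3, 3, 1, 1, 1, 3, 3, 3, 1, 3, 3, 3], [1, 1, 1, 1, 2, 1, 1, 1, 3, 3, 0, 3, 3, 1, 1, 1, 2, 1, 1, 2, 1, 2, 2], [1, 1, 1, 1, 2, 1, 1, 1, 2, 1, 2, 2, 2, 1, 1, 3, 0, 2, 2, 0, 2, 2, 2], [1, 1, 1, 1, 2, 1, 1, 3, 3, 0, 2, 2, 1, 3, 0, 0, 3, 3, 1, 1, 2, 2, 2], [1, 1, 1, 1, 2, 1, 1, 2, 2, 0, 3, 1, 1, 2, 0, 3, 1, 2, 1, 3, 1, 2, 2], [1, 1, 1, 1, 2, 1, 3, 1, 3, 3, 3, 1, 1, 1, 2, 0, 3,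 1, 2, 2, 2, 0, 2], [1, 1, 1, 1, 2, 1, 3, 1, 2, 0, 3, 3, 0, 3, 0, 0, 2, 2, 1, 3, 0, 3, 3], [1, 1, 1, 1, 2, 1, 3, 1, 2, 2, 1, 1, 3, 1, 1, 2, 2, 1, 1, 1, 3, 1, 2], [1, 1, 1, 1, 2, 1, 3, 0, 0, 3, 3, 1, 3, 0, 0, 3, 0, 2, 1, 2, 2, 1, 3], [1, 1, 1, 1, 2, 1, 3, 0, 2, 1, 1, 2, 1, 1, 3, 0, 2, 2, 2, 0, 3, 0, 2], [1, 1, 1, 1, 2, 0, 3, 1, 1, 2, 1, 3, 0, 2, 1, 2, 2, 0, 2, 1, 1, 1, 2], [1, 1, 1, 1, 2, 2, 1, 2, 2, 0, 0, 0, 3, 1, 1, 1, 3, 3, 0, 3, 0, 0, 3], [1, 1, 1, 1, 2, 2, 1, 2, 2, 2, 1, 3, 0, 3, 0, 0, 3, 3, 3, 0, 3, 1, 2], [1, 1, 1, 1, 2, 2, 0, 0, 3, 3, 3, 1, 2, 1, 1, 1, 2, 2, 2, 0, 2, 2, 2], [1, 1, 1, 1, 2, 2, 0, 2, 2, 1, 2, 0, 0,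 2, 2, 0, 2, 0, 3, 0, 3, 0, 3], [1, 1, 1, 1, 2, 2, 2, 1, 3, 0, 0, 2, 1, 2, 1, 3, 3, 3, 3, 3, 1, 1, 2], [1, 1, 1, 1, 2, 2, 2, 0, 2, 0, 3, 1, 1, 1, 3, 1, 3, 3, 3, 0, 2, 1, 3], [1, 1, 1, 3, 1, 1, 1, 3, 0, 0, 3, 1, 2, 2, 1, 1, 2, 1, 3, 0, 3, 3, 3], [1, 1, 1, 3, 1, 1, 3, 3, 1, 3, 3, 0, 3, 1, 1, 3, 1, 1, 1, 3, 3, 1, 3], [1, 1, 1, 3, 1, 1, 3, 3, 0, 3, 3, 3, 0, 3, 3, 3, 1, 3, 0, 2, 0, 0, 2], [1, 1, 1, 3, 1, 1, 3, 3, 0, 0, 3, 0, 0, 2, 2, 1, 2, 0, 2, 2, 0, 3, 3], [1, 1, 1, 3, 1, 1, 2, 1, 1, 3, 0, 3, 3, 3, 1, 3, 3, 3, 0, 0, 3, 3, 3], [1, 1, 1, 3, 1, 1, 2, 1, 3, 3, 3, 1, 1, 3, 3, 0, 2, 1, 3, 0, 0, 2, 2], [1, 1, 1, 3, 1, 1, 2, 2, 1,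 2, 0, 3, 0, 3, 3, 1, 1, 1, 3, 0, 3, 1, 2], [1, 1, 1, 3, 1, 1, 2, 2, 0, 3, 1, 3, 0, 3, 3, 1, 2, 1, 1, 2, 2, 2, 2], [1, 1, 1, 3, 1, 1, 2, 2, 2, 0, 2, 2, 2, 2, 2, 1, 2, 1, 1, 1, 2, 2, 2], [1, 1, 1, 3, 1, 3, 1, 1, 2, 2, 2, 1, 1, 1, 2, 2, 1, 3, 0, 0, 3, 0, 3], [1, 1, 1, 3, 1, 3, 3, 1, 2, 2, 0, 0, 2, 2, 1, 3, 3, 0, 3, 1, 2, 0, 3], [1, 1, 1, 3, 1, 3, 3, 3, 1, 1, 3, 3, 3, 0, 0, 3, 1, 1, 1, 3, 0, 2, 2], [1, 1, 1, 3, 1, 3, 3, 3, 1, 3, 1, 3, 1, 2, 1, 2, 2, 1, 3, 0, 0, 3, 3], [1, 1, 1, 3, 1, 3, 3, 3, 1, 2, 2, 2, 2, 2, 1, 3, 0, 3, 3, 1, 3, 0, 3], [1, 1, 1, 3, 1, 3, 3, 3, 3, 0, 2, 0, 3, 3, 3, 3, 3, 3, 0, 3, 3, 0, 2], [1, 1, 1, 3, 1,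 2, 1, 3, 0, 0, 3, 0, 3, 3, 0, 0, 3, 1, 2, 0, 3, 0, 2], [1, 1, 1, 3, 1, 2, 1, 2, 1, 3, 3, 1, 3, 1, 2, 0, 3, 3, 1, 3, 0, 3, 3], [1, 1, 1, 3, 1, 2, 1, 2, 1, 2, 1, 1, 3, 3, 0, 3, 0, 0, 2, 2, 0, 2, 2], [1, 1, 1, 3, 1, 2, 0, 3, 0, 0, 2, 1, 2, 0, 3, 3, 3, 0, 0, 2, 0, 3, 3], [1, 1, 1, 3, 1, 2, 0, 2, 1, 3, 0, 2, 0, 3, 3, 3, 0, 3, 3, 3, 0, 0, 2], [1, 1, 1, 3, 3, 1, 1, 2, 2, 2, 2, 1, 3, 3, 0, 2, 1, 1, 2, 0, 3, 0, 2], [1, 1, 1, 3, 3, 1, 3, 1, 1, 2, 0, 2, 2, 2, 2, 1, 2, 2, 1, 1, 2, 1, 2], [1, 1, 1, 3, 3, 1, 3, 1, 3, 0, 3, 0, 0, 2, 0, 0, 2, 1, 1, 2, 1, 2, 2], [1, 1, 1, 3, 3, 1, 3, 3, 1, 3, 0, 0, 2, 2, 1, 1, 3, 3, 3, 1, 2, 0, 3], [1,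 1, 1, 3, 3, 1, 3, 3, 0, 3, 1, 3, 0, 3, 3, 3, 3, 1, 3, 1, 1, 2, 2], [1, 1, 1, 3, 3, 1, 3, 0, 3, 3, 1, 2, 0, 3, 3, 0, 0, 3, 1, 3, 0, 0, 3], [1, 1, 1, 3, 3, 1, 2, 1, 3, 3, 1, 3, 1, 2, 1, 2, 1, 1, 2, 0, 0, 3, 3], [1, 1, 1, 3, 3, 1, 2, 1, 3, 3, 1, 3, 3, 0, 3, 0, 3, 1, 2, 0, 0, 3, 3], [1, 1, 1, 3, 3, 1, 2, 2, 0, 3, 1, 1, 2, 2, 1, 3, 3, 0, 2, 2, 1, 3, 3], [1, 1, 1, 3, 3, 1, 2, 2, 0, 3, 3, 3, 1, 2, 2, 1, 1, 1, 2, 0, 2, 1, 3], [1, 1, 1, 3, 3, 3, 3, 3, 3, 1, 3, 3, 0, 3, 1, 2, 1, 2, 2, 0, 0, 3, 3], [1, 1, 1, 3, 3, 3, 0, 3, 0, 0, 3, 0, 2, 0, 2, 2, 1, 1, 3, 0, 3, 0, 3], [1, 1, 1, 3, 3, 3, 0, 3, 0, 2, 1, 3, 0, 0, 2, 2, 1, 3, 1, 2, 2,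 0, 2], [1, 1, 1, 3, 3, 3, 0, 2, 0, 2, 1, 2, 0, 3, 0, 3, 1, 1, 2, 1, 2, 0, 3], [1, 1, 1, 3, 3, 0, 3, 3, 0, 0, 3, 1, 1, 2, 1, 2, 0, 2, 0, 2, 2, 1, 2], [1, 1, 1, 3, 3, 0, 3, 0, 3, 3, 3, 1, 3, 1, 2, 0, 3, 3, 1, 3, 0, 3, 3], [1, 1, 1, 3, 3, 0, 0, 0, 2, 0, 3, 3, 3, 1, 3, 3, 0, 3, 1, 3, 0, 0, 3], [1, 1, 1, 3, 3, 0, 2, 0, 0, 2, 2, 1, 3, 0, 2, 0, 0, 2, 1, 1, 2, 0, 3], [1, 1, 1, 3, 3, 0, 2, 2, 1, 1, 2, 2, 2, 1, 1, 3, 3, 0, 2, 2, 0, 0, 2], [1, 1, 1, 3, 0, 3, 1, 1, 3, 1, 1, 2, 1, 3, 1, 3, 3, 3, 1, 1, 2, 0, 2], [1, 1, 1, 3, 0, 3, 3, 1, 1, 3, 3, 1, 3, 1, 3, 1, 2, 0, 3, 3, 3, 0, 2], [1, 1, 1, 3, 0, 3, 3, 3, 3, 1, 2, 2, 0, 3, 0, 0, 2,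 1, 3, 0, 3, 0, 2], [1, 1, 1, 3, 0, 3, 0, 3, 0, 0, 3, 3, 1, 1, 2, 2, 0, 3, 1, 3, 0, 0, 3], [1, 1, 1, 3, 0, 3, 0, 0, 3, 0, 3, 3, 3, 1, 2, 2, 1, 2, 1, 1, 3, 0, 2], [1, 1, 1, 3, 0, 3, 0, 0, 0, 3, 1, 3, 0, 0, 0, 3, 1, 3, 3, 0, 0, 0, 3], [1, 1, 1, 3, 0, 3, 0, 2, 2, 2, 2, 0, 3, 0, 3, 3, 1, 3, 3, 0, 3, 0, 3], [1, 1, 1, 3, 0, 2, 1, 1, 2, 1, 1, 3, 1, 2, 1, 2, 0, 3, 1, 3, 0, 3, 3], [1, 1, 1, 3, 0, 2, 0, 3, 0, 3, 3, 0, 2, 0, 3, 0, 2, 2, 2, 2, 0, 0, 3], [1, 1, 1, 3, 0, 2, 0, 0, 3, 3, 3, 1, 2, 1, 2, 0, 2, 1, 1, 1, 2, 2, 2], [1, 1, 1, 3, 0, 2, 0, 0, 2, 1, 3, 1, 2, 1, 2, 0, 0, 3, 0, 0, 3, 0, 2], [1, 1, 1, 3, 0, 2, 2, 1, 3, 3, 0, 2, 1,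 3, 3, 0, 0, 3, 3, 0, 2, 0, 2], [1, 1, 1, 3, 0, 2, 2, 0, 3, 1, 2, 1, 2, 2, 2, 0, 3, 0, 0, 3, 0, 0, 2], [1, 1, 1, 3, 0, 2, 2, 2, 1, 2, 2, 2, 2, 0, 3, 0, 0, 2, 1, 1, 1, 2, 2], [1, 1, 1, 2, 1, 1, 1, 2, 1, 2, 0, 2, 1, 1, 3, 3, 3, 1, 3, 1, 3, 1, 3], [1, 1, 1, 2, 1, 1, 1, 2, 2, 1, 1, 2, 1, 3, 0, 3, 0, 2, 0, 0, 3, 3, 3], [1, 1, 1, 2, 1, 3, 1, 2, 1, 3, 3, 1, 2, 2, 2, 1, 1, 3, 3, 1, 2, 0, 3], [1, 1, 1, 2, 1, 3, 3, 1, 3, 0, 3, 1, 3, 3, 1, 2, 0, 3, 3, 0, 0, 2, 2], [1, 1, 1, 2, 1, 3, 3, 1, 2, 1, 1, 2, 2, 2, 2, 1, 1, 1, 2, 1, 3, 0, 3], [1, 1, 1, 2, 1, 3, 3, 3, 1, 3, 3, 0, 2, 0, 2, 1, 3, 1, 1, 3, 3, 1, 2], [1, 1, 1, 2, 1, 2, 1, 2, 2,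 2, 0, 3, 1, 2, 2, 2, 0, 2, 2, 0, 3, 1, 3], [1, 1, 1, 2, 1, 2, 0, 3, 3, 1, 3, 3, 1, 1, 1, 2, 0, 3, 0, 2, 2, 2, 2], [1, 1, 1, 2, 1, 2, 0, 3, 3, 0, 3, 1, 3, 0, 2, 1, 2, 2, 0, 3, 0, 2, 2], [1, 1, 1, 2, 1, 2, 0, 2, 1, 3, 1, 1, 3, 0, 0, 3, 0, 3, 3, 0, 2, 0, 2], [1, 1, 1, 2, 1, 2, 2, 1, 1, 3, 1, 1, 2, 1, 3, 3, 3, 0, 2, 0, 2, 0, 3], [1, 1, 1, 2, 0, 3, 1, 3, 3, 3, 3, 3, 3, 0, 0, 2, 1, 2, 1, 1, 2, 1, 3], [1, 1, 1, 2, 0, 3, 3, 3, 3, 3, 1, 2, 1, 2, 2, 0, 3, 0, 3, 0, 0, 3, 3], [1, 1, 1, 2, 0, 3, 3, 3, 3, 3, 1, 2, 1, 2, 2, 2, 1, 2, 1, 2, 0, 3, 3], [1, 1, 1, 2, 0, 3, 3, 0, 3, 1, 3, 3, 1, 3, 3, 3, 0, 3, 0, 2, 2, 0, 2], [1, 1, 1, 2, 0,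 0, 2, 2, 1, 2, 2, 2, 0, 2, 1, 2, 2, 0, 0, 2, 2, 2, 2], [1, 1, 1, 2, 0, 2, 1, 3, 0, 3, 1, 2, 0, 2, 1, 2, 0, 3, 3, 0, 3, 1, 3], [1, 1, 1, 2, 0, 2, 1, 3, 0, 0, 3, 3, 1, 1, 3, 1, 1, 2, 2, 0, 2, 0, 3], [1, 1, 1, 2, 0, 2, 2, 1, 1, 3, 1, 2, 1, 3, 0, 3, 3, 3, 0, 2, 2, 2, 2], [1, 1, 1, 2, 2, 1, 3, 1, 2, 0, 0, 2, 0, 2, 2, 2, 0, 3, 3, 1, 3, 0, 3], [1, 1, 1, 2, 2, 1, 2, 0, 2, 2, 2, 2, 2, 0, 2, 1, 1, 3, 1, 1, 3, 1, 2], [1, 1, 1, 2, 2, 1, 2, 2, 0, 0, 3, 3, 1, 1, 2, 0, 3, 1, 3, 3, 0, 2, 2], [1, 1, 1, 2, 2, 0, 3, 1, 2, 0, 0, 3, 3, 1, 1, 3, 0, 2, 0, 2, 2, 1, 2], [1, 1, 1, 2, 2, 0, 2, 1, 2, 2, 0, 3, 1, 3, 1, 1, 2, 1, 3, 1, 1, 2, 2], [1,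 1, 1, 2, 2, 2, 1, 1, 2, 1, 3, 3, 1, 1, 2, 0, 3, 0, 0, 3, 3, 1, 3], [1, 1, 1, 2, 2, 2, 1, 3, 1, 2, 2, 2, 2, 2, 0, 0, 2, 0, 2, 0, 3, 0, 2], [1, 1, 1, 2, 2, 2, 2, 0, 2, 0, 2, 0, 3, 1, 1, 3, 3, 0, 3, 0, 2, 1, 3], [1, 1, 3, 1, 1, 3, 3, 1, 1, 2, 1, 2, 2, 1, 3, 3, 1, 2, 0, 3, 3, 0, 3], [1, 1, 3, 1, 1, 3, 3, 1, 3, 3, 3, 3, 1, 3, 3, 0, 2, 1, 3, 0, 2, 0, 2], [1, 1, 3, 1, 1, 3, 3, 0, 2, 0, 2, 0, 0, 2, 0, 3, 3, 0, 2, 1, 2, 1, 3], [1, 1, 3, 1, 1, 2, 1, 1, 3, 0, 3, 1, 3, 0, 0, 2, 1, 3, 1, 2, 0, 2, 2], [1, 1, 3, 1, 1, 2, 1, 3, 0, 0, 2, 2, 2, 1, 1, 3, 3, 0, 0, 3, 0, 0, 2], [1, 1, 3, 1, 3, 3, 1, 1, 3, 1, 2, 0, 0, 3, 3, 3, 0, 2, 0, 2, 0,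 2, 2], [1, 1, 3, 1, 3, 3, 1, 3, 3, 0, 2, 2, 2, 0, 2, 2, 2, 0, 3, 1, 2, 0, 2], [1, 1, 3, 1, 3, 3, 1, 2, 2, 1, 3, 1, 1, 2, 0, 2, 1, 1, 2, 1, 2, 0, 2], [1, 1, 3, 1, 3, 3, 3, 0, 2, 0, 2, 1, 1, 3, 1, 2, 0, 0, 3, 1, 2, 0, 3], [1, 1, 3, 1, 3, 3, 0, 3, 1, 1, 2, 1, 2, 0, 3, 1, 3, 0, 3, 1, 3, 3, 3], [1, 1, 3, 1, 3, 3, 0, 0, 2, 0, 2, 2, 2, 0, 3, 1, 2, 2, 1, 3, 0, 2, 2], [1, 1, 3, 1, 3, 0, 3, 1, 3, 1, 2, 0, 2, 2, 1, 3, 3, 1, 1, 2, 0, 0, 3], [1, 1, 3, 1, 3, 0, 2, 2, 1, 1, 3, 0, 2, 1, 3, 1, 1, 2, 1, 2, 0, 3, 3], [1, 1, 3, 1, 2, 1, 1, 3, 1, 2, 0, 2, 1, 2, 1, 3, 0, 3, 1, 2, 0, 3, 3], [1, 1, 3, 1, 2, 1, 2, 0, 3, 1, 2, 2, 1, 3, 0, 3, 0,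 0, 3, 3, 3, 1, 2], [1, 1, 3, 1, 2, 0, 2, 0, 2, 2, 2, 1, 1, 2, 2, 1, 2, 2, 1, 2, 1, 3, 3], [1, 1, 3, 1, 2, 2, 1, 1, 2, 2, 1, 3, 3, 0, 0, 3, 3, 3, 1, 3, 0, 0, 2], [1, 1, 3, 1, 2, 2, 2, 1, 2, 2, 2, 2, 0, 2, 0, 2, 0, 3, 3, 1, 1, 3, 3], [1, 1, 3, 1, 2, 2, 2, 2, 0, 2, 1, 3, 3, 3, 3, 1, 2, 1, 2, 2, 0, 3, 3], [1, 1, 3, 3, 1, 1, 3, 3, 3, 1, 1, 3, 0, 0, 3, 3, 3, 1, 2, 2, 0, 3, 3], [1, 1, 3, 3, 1, 1, 3, 3, 0, 0, 2, 0, 2, 1, 3, 1, 3, 1, 1, 3, 3, 1, 2], [1, 1, 3, 3, 1, 1, 2, 1, 2, 0, 2, 1, 2, 2, 0, 0, 2, 1, 3, 0, 2, 1, 3], [1, 1, 3, 3, 1, 3, 1, 1, 2, 0, 2, 2, 2, 2, 1, 2, 2, 1, 3, 0, 3, 0, 3], [1, 1, 3, 3, 1, 3, 3, 3, 3, 1, 2, 0, 2,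 1, 1, 2, 0, 0, 2, 1, 2, 0, 3], [1, 1, 3, 3, 1, 3, 3, 3, 0, 2, 0, 3, 3, 3, 1, 2, 1, 1, 2, 2, 0, 0, 2], [1, 1, 3, 3, 1, 3, 0, 2, 0, 2, 1, 2, 2, 0, 3, 1, 2, 0, 2, 1, 3, 0, 2], [1, 1, 3, 3, 3, 1, 3, 3, 3, 1, 3, 0, 3, 0, 0, 3, 0, 2, 2, 2, 0, 2, 2], [1, 1, 3, 3, 3, 1, 2, 0, 3, 0, 3, 3, 0, 3, 1, 3, 1, 2, 1, 2, 0, 2, 2], [1, 1, 3, 3, 3, 1, 2, 0, 3, 0, 2, 1, 3, 1, 2, 2, 1, 2, 1, 3, 3, 3, 3], [1, 1, 3, 3, 3, 1, 2, 2, 0, 3, 3, 3, 3, 0, 3, 3, 0, 2, 1, 2, 0, 3, 3], [1, 1, 3, 3, 3, 1, 2, 2, 0, 0, 3, 3, 3, 1, 1, 2, 2, 2, 0, 0, 3, 1, 3], [1, 1, 3, 3, 3, 0, 3, 3, 3, 1, 3, 1, 2, 0, 3, 1, 1, 3, 0, 0, 3, 3, 3], [1, 1, 3, 3, 0, 2, 0, 3, 0,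 2, 2, 2, 0, 3, 1, 3, 1, 2, 2, 0, 2, 0, 3], [1, 1, 3, 3, 0, 2, 0, 2, 0, 2, 1, 1, 2, 1, 1, 3, 0, 3, 0, 3, 0, 0, 2], [1, 1, 3, 3, 0, 2, 2, 2, 1, 3, 3, 3, 1, 2, 0, 0, 3, 0, 2, 2, 0, 3, 3], [1, 1, 3, 0, 3, 1, 3, 3, 3, 1, 1, 3, 0, 3, 3, 3, 3, 3, 1, 3, 0, 0, 3], [1, 1, 3, 0, 3, 1, 3, 0, 2, 0, 3, 3, 3, 3, 3, 1, 3, 0, 3, 0, 0, 3, 3], [1, 1, 3, 0, 3, 1, 2, 0, 3, 1, 2, 1, 2, 0, 3, 3, 1, 3, 1, 3, 3, 0, 2], [1, 1, 3, 0, 3, 3, 1, 1, 2, 0, 0, 2, 1, 2, 0, 2, 1, 3, 1, 2, 0, 0, 3], [1, 1, 3, 0, 3, 0, 3, 0, 2, 0, 3, 3, 3, 0, 2, 2, 2, 0, 2, 0, 3, 0, 2], [1, 1, 3, 0, 2, 1, 3, 0, 0, 2, 1, 3, 0, 2, 2, 1, 3, 1, 2, 2, 2, 0, 2], [1, 1, 3, 0, 2,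 1, 3, 0, 2, 0, 3, 3, 1, 2, 2, 1, 3, 1, 2, 0, 3, 0, 2], [1, 1, 3, 0, 2, 1, 2, 2, 2, 2, 1, 3, 3, 3, 3, 1, 2, 0, 2, 0, 3, 1, 3], [1, 1, 3, 0, 2, 2, 0, 2, 0, 3, 1, 2, 2, 1, 2, 0, 3, 3, 3, 1, 3, 0, 3], [1, 1, 2, 1, 1, 2, 0, 3, 0, 0, 2, 1, 2, 2, 2, 0, 2, 1, 2, 0, 2, 1, 2], [1, 1, 2, 1, 1, 2, 2, 2, 2, 0, 3, 1, 3, 3, 0, 3, 0, 2, 1, 3, 3, 1, 3], [1, 1, 2, 1, 3, 1, 3, 1, 2, 2, 1, 2, 0, 3, 0, 0, 3, 0, 3, 3, 0, 0, 3], [1, 1, 2, 1, 3, 3, 1, 3, 3, 3, 1, 3, 3, 3, 0, 3, 3, 1, 3, 3, 3, 1, 2], [1, 1, 2, 1, 3, 3, 3, 1, 2, 2, 0, 2, 2, 0, 2, 2, 2, 0, 2, 1, 3, 1, 3], [1, 1, 2, 1, 3, 3, 3, 3, 1, 3, 0, 2, 0, 2, 1, 2, 2, 1, 2, 0, 3, 1, 2], [1,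 1, 2, 1, 2, 1, 3, 3, 0, 2, 0, 3, 1, 2, 1, 3, 0, 3, 3, 1, 2, 0, 3], [1, 1, 2, 1, 2, 2, 2, 0, 3, 3, 0, 2, 0, 3, 1, 2, 0, 3, 1, 3, 3, 1, 2], [1, 1, 2, 0, 3, 3, 3, 1, 3, 3, 1, 2, 2, 1, 3, 0, 2, 0, 3, 0, 3, 0, 3], [1, 1, 2, 0, 3, 3, 3, 1, 2, 2, 0, 2, 1, 2, 1, 3, 3, 0, 3, 1, 2, 2, 2], [1, 1, 2, 0, 2, 1, 3, 3, 3, 3, 0, 0, 2, 2, 2, 1, 3, 0, 2, 1, 3, 0, 2], [1, 1, 2, 0, 2, 0, 2, 1, 2, 0, 3, 3, 3, 1, 3, 0, 3, 3, 1, 2, 1, 2, 2], [1, 1, 2, 0, 2, 0, 2, 0, 3, 3, 0, 2, 2, 0, 2, 1, 3, 3, 0, 3, 1, 2, 2], [1, 1, 2, 2, 1, 3, 1, 2, 0, 3, 3, 1, 3, 3, 3, 0, 2, 0, 3, 1, 3, 1, 3], [1, 1, 2, 2, 0, 3, 3, 3, 3, 0, 2, 1, 3, 1, 2, 0, 3, 3, 1, 3, 3,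 1, 3], [1, 1, 2, 2, 2, 2, 1, 2, 1, 3, 0, 3, 1, 2, 0, 2, 1, 3, 3, 3, 1, 3, 3], [1, 1, 2, 2, 2, 2, 1, 2, 2, 2, 1, 3, 1, 3, 1, 3, 0, 3, 1, 2, 2, 0, 2], [1, 3, 1, 3, 1, 3, 1, 3, 3, 3, 3, 0, 2, 0, 3, 0, 3, 1, 2, 1, 3, 3, 3], [1, 3, 1, 3, 1, 2, 2, 2, 1, 2, 1, 2, 1, 2, 2, 1, 2, 1, 3, 1, 2, 2, 2], [1, 3, 1, 3, 3, 0, 2, 2, 0, 2, 2, 2, 2, 1, 3, 3, 3, 0, 3, 1, 3, 1, 2], [1, 3, 1, 3, 0, 2, 0, 3, 0, 2, 0, 2, 2, 1, 3, 3, 1, 2, 2, 2, 2, 1, 2], [1, 3, 1, 2, 2, 2, 1, 2, 1, 2, 0, 2, 1, 3, 0, 2, 2, 1, 2, 0, 3, 0, 2], [1, 3, 1, 2, 2, 2, 0, 3, 1, 2, 0, 2, 2, 2, 0, 3, 1, 3, 0, 3, 0, 2, 2], [3, 3, 3, 3, 3, 3, 3, 3, 3, 3, 3, 3, 3, 3, 3, 3, 3,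 3, 3, 3, 3, 3, 3], [1, 1, 1, 1, 1, 1, 3, 1, 3, 3, 0, 3, 0, 0, 2, 2, 0, 2, 2, 1, 1, 1, 3, 3], [1, 1, 1, 1, 1, 1, 3, 1, 2, 1, 3, 3, 0, 2, 0, 2, 0, 3, 3, 3, 0, 2, 0, 3], [1, 1, 1, 1, 1, 1, 3, 3, 3, 0, 2, 0, 3, 0, 3, 1, 2, 1, 3, 3, 0, 2, 0, 2], [1, 1, 1, 1, 1, 1, 3, 0, 3, 1, 2, 1, 3, 3, 0, 2, 0, 2, 0, 3, 3, 3, 0, 2], [1, 1, 1, 1, 1, 1, 3, 0, 0, 2, 2, 0, 2, 2, 1, 1, 1, 3, 3, 0, 3, 1, 3, 3], [1, 1, 1, 1, 1, 1, 3, 0, 2, 1, 2, 1, 3, 1, 2, 2, 2, 1, 3, 1, 3, 1, 2, 2], [1, 1, 1, 1, 1, 1, 2, 1, 2, 1, 3, 1, 2, 2, 2, 1, 3, 1, 3, 1, 2, 2, 0, 3], [1, 1, 1, 1, 1, 1, 2, 1, 2, 2, 0, 0, 0, 3, 3, 1, 3, 3, 1, 1, 2, 1, 2, 2], [1, 1, 1, 1, 1,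 1, 2, 0, 3, 3, 3, 0, 2, 0, 3, 0, 3, 1, 2, 1, 3, 3, 0, 2], [1, 1, 1, 1, 1, 1, 2, 0, 3, 0, 3, 1, 2, 1, 3, 3, 0, 2, 0, 2, 0, 3, 3, 3], [1, 1, 1, 1, 1, 1, 2, 0, 2, 0, 3, 3, 3, 0, 2, 0, 3, 0, 3, 1, 2, 1, 3, 3], [1, 1, 1, 1, 1, 1, 2, 2, 1, 1, 1, 3, 3, 0, 3, 1, 3, 3, 0, 3, 0, 0, 2, 2], [1, 1, 1, 1, 1, 3, 1, 3, 1, 3, 1, 2, 2, 0, 0, 3, 1, 3, 0, 3, 0, 0, 0, 3], [1, 1, 1, 1, 1, 3, 1, 3, 0, 3, 0, 0, 0, 3, 0, 0, 3, 1, 3, 1, 3, 1, 2, 2], [1, 1, 1, 1, 1, 3, 1, 2, 0, 2, 1, 2, 0, 0, 0, 0, 2, 2, 1, 1, 3, 3, 3, 3], [1, 1, 1, 1, 1, 3, 3, 1, 1, 2, 2, 1, 3, 0, 0, 0, 3, 1, 2, 2, 0, 2, 1, 2], [1, 1, 1, 1, 1, 3, 3, 1, 2, 2, 1, 3, 0, 2, 0, 3, 3,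 3, 3, 3, 3, 1, 1, 2], [1, 1, 1, 1, 1, 3, 3, 3, 1, 3, 1, 2, 2, 2, 2, 2, 2, 1, 3, 3, 1, 2, 2, 2], [1, 1, 1, 1, 1, 3, 3, 3, 1, 3, 0, 2, 2, 0, 0, 2, 1, 3, 0, 2, 0, 3, 3, 3], [1, 1, 1, 1, 1, 3, 3, 3, 1, 2, 2, 2, 0, 2, 0, 3, 1, 1, 3, 1, 1, 2, 0, 3], [1, 1, 1, 1, 1, 3, 0, 0, 2, 1, 3, 3, 3, 3, 0, 2, 0, 3, 1, 1, 3, 0, 3, 3], [1, 1, 1, 1, 1, 2, 1, 3, 1, 3, 3, 3, 0, 2, 2, 2, 1, 1, 2, 1, 3, 0, 0, 2], [1, 1, 1, 1, 1, 2, 1, 3, 1, 2, 2, 2, 2, 0, 3, 1, 1, 2, 1, 1, 2, 2, 1, 2], [1, 1, 1, 1, 1, 2, 1, 3, 3, 3, 3, 0, 2, 0, 3, 1, 1, 3, 0, 3, 3, 0, 0, 3], [1, 1, 1, 1, 1, 2, 1, 3, 0, 2, 0, 3, 3, 3, 0, 0, 3, 3, 3, 1, 3, 0, 2, 2], [1, 1, 1, 1,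 1, 2, 1, 2, 2, 0, 3, 1, 3, 1, 3, 1, 3, 3, 3, 3, 1, 2, 2, 2], [1, 1, 1, 1, 1, 2, 1, 2, 2, 0, 0, 2, 0, 2, 0, 2, 0, 3, 3, 3, 1, 2, 2, 2], [1, 1, 1, 1, 1, 2, 0, 0, 0, 3, 3, 0, 2, 2, 1, 3, 3, 1, 3, 1, 2, 2, 1, 3], [1, 1, 1, 1, 1, 2, 0, 0, 2, 1, 3, 1, 3, 3, 3, 0, 2, 2, 2, 1, 1, 2, 1, 3], [1, 1, 1, 1, 1, 2, 0, 2, 1, 3, 3, 1, 3, 3, 3, 0, 2, 1, 3, 3, 1, 2, 1, 2], [1, 1, 1, 1, 1, 2, 0, 2, 0, 2, 0, 3, 3, 3, 1, 2, 2, 2, 0, 0, 2, 1, 2, 2], [1, 1, 1, 1, 1, 2, 2, 1, 1, 3, 0, 3, 1, 3, 3, 0, 2, 1, 1, 1, 2, 0, 3, 3], [1, 1, 1, 1, 1, 2, 2, 1, 3, 0, 3, 0, 0, 0, 0, 2, 1, 1, 2, 0, 2, 1, 3, 3], [1, 1, 1, 1, 1, 2, 2, 0, 2, 2, 1, 2, 1, 1, 1, 1,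 1, 2, 2, 0, 2, 2, 1, 2], [1, 1, 1, 1, 1, 2, 2, 0, 2, 2, 1, 2, 2, 1, 2, 2, 0, 2, 1, 2, 2, 0, 0, 2], [1, 1, 1, 1, 1, 2, 2, 2, 2, 0, 2, 0, 3, 0, 2, 1, 2, 0, 3, 0, 2, 2, 1, 3], [1, 1, 1, 1, 1, 2, 2, 2, 2, 2, 2, 1, 3, 1, 2, 0, 3, 3, 0, 2, 2, 1, 1, 3], [1, 1, 1, 1, 3, 1, 1, 1, 3, 3, 0, 3, 0, 0, 3, 1, 1, 1, 1, 2, 2, 1, 2, 2], [1, 1, 1, 1, 3, 1, 1, 1, 3, 0, 3, 0, 0, 0, 3, 1, 3, 0, 0, 0, 3, 1, 3, 3], [1, 1, 1, 1, 3, 1, 1, 3, 1, 2, 0, 2, 2, 2, 1, 2, 2, 2, 1, 2, 2, 0, 0, 2], [1, 1, 1, 1, 3, 1, 1, 3, 3, 1, 2, 2, 0, 0, 3, 3, 3, 0, 0, 3, 3, 1, 2, 2], [1, 1, 1, 1, 3, 1, 1, 2, 1, 1, 2, 1, 3, 3, 3, 0, 3, 0, 2, 1, 3, 3, 1, 2], [1, 1, 1,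 1, 3, 1, 1, 2, 1, 3, 3, 3, 3, 0, 3, 3, 3, 1, 2, 0, 0, 0, 3, 3], [1, 1, 1, 1, 3, 1, 1, 2, 2, 2, 1, 2, 2, 2, 1, 3, 1, 2, 0, 3, 1, 3, 0, 2], [1, 1, 1, 1, 3, 1, 3, 1, 2, 2, 1, 1, 2, 2, 0, 3, 1, 2, 2, 0, 3, 3, 1, 2], [1, 1, 1, 1, 3, 1, 3, 1, 2, 2, 1, 2, 1, 1, 2, 0, 0, 2, 0, 3, 1, 3, 0, 3], [1, 1, 1, 1, 3, 1, 3, 3, 1, 2, 1, 2, 2, 2, 0, 2, 2, 0, 2, 1, 2, 2, 1, 3], [1, 1, 1, 1, 3, 1, 3, 3, 0, 0, 0, 3, 1, 1, 1, 3, 0, 3, 0, 0, 0, 3, 1, 3], [1, 1, 1, 1, 3, 1, 3, 3, 0, 2, 0, 3, 3, 1, 1, 2, 0, 3, 1, 2, 1, 2, 2, 2], [1, 1, 1, 1, 3, 1, 3, 0, 3, 0, 2, 2, 2, 1, 1, 3, 1, 2, 0, 0, 0, 3, 3, 3], [1, 1, 1, 1, 3, 1, 3, 0, 0, 0, 3, 1, 3, 3, 0,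 0, 0, 3, 1, 1, 1, 3, 0, 3], [1, 1, 1, 1, 3, 1, 3, 0, 0, 2, 2, 2, 0, 2, 0, 3, 0, 0, 2, 0, 0, 2, 1, 2], [1, 1, 1, 1, 3, 1, 2, 1, 1, 2, 1, 1, 3, 0, 3, 0, 2, 0, 3, 1, 1, 3, 1, 2], [1, 1, 1, 1, 3, 1, 2, 1, 3, 1, 3, 1, 1, 3, 3, 3, 3, 3, 0, 2, 0, 3, 3, 3], [1, 1, 1, 1, 3, 1, 2, 1, 3, 0, 0, 3, 1, 2, 2, 0, 3, 3, 3, 3, 0, 0, 2, 2], [1, 1, 1, 1, 3, 1, 2, 1, 3, 0, 2, 1, 1, 2, 2, 1, 2, 1, 1, 2, 0, 3, 0, 2], [1, 1, 1, 1, 3, 1, 2, 1, 2, 0, 3, 1, 1, 2, 1, 3, 3, 0, 2, 2, 2, 2, 1, 2], [1, 1, 1, 1, 3, 1, 2, 0, 0, 3, 0, 3, 3, 0, 2, 2, 2, 1, 2, 1, 1, 2, 1, 2], [1, 1, 1, 1, 3, 1, 2, 2, 1, 2, 2, 2, 2, 2, 2, 1, 3, 1, 2, 2, 2, 2, 0, 2], [1, 1,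 1, 1, 3, 1, 2, 2, 2, 1, 3, 0, 2, 0, 2, 0, 2, 2, 0, 0, 2, 2, 1, 2], [1, 1, 1, 1, 3, 3, 1, 1, 2, 0, 3, 1, 2, 2, 0, 0, 2, 2, 2, 0, 3, 0, 0, 2], [1, 1, 1, 1, 3, 3, 1, 1, 2, 2, 1, 3, 0, 2, 2, 0, 2, 1, 2, 0, 2, 2, 0, 3], [1, 1, 1, 1, 3, 3, 1, 2, 1, 3, 3, 0, 3, 1, 2, 0, 2, 1, 2, 2, 1, 3, 0, 3], [1, 1, 1, 1, 3, 3, 1, 2, 0, 0, 0, 2, 1, 1, 2, 2, 2, 0, 0, 2, 2, 2, 0, 2], [1, 1, 1, 1, 3, 3, 1, 2, 2, 0, 2, 1, 3, 0, 0, 2, 2, 1, 1, 3, 3, 0, 3, 3], [1, 1, 1, 1, 3, 3, 3, 3, 1, 1, 3, 3, 0, 3, 1, 3, 3, 3, 0, 3, 3, 1, 1, 3], [1, 1, 1, 1, 3, 3, 3, 3, 1, 2, 1, 3, 0, 0, 0, 2, 2, 0, 2, 2, 1, 3, 0, 3], [1, 1, 1, 1, 3, 3, 3, 3, 1, 2, 2, 2, 1, 2,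 0, 3, 0, 2, 0, 0, 3, 3, 1, 3], [1, 1, 1, 1, 3, 3, 3, 3, 0, 0, 3, 0, 2, 2, 1, 2, 0, 2, 1, 3, 3, 0, 0, 2], [1, 1, 1, 1, 3, 3, 3, 3, 0, 0, 3, 0, 2, 2, 0, 3, 0, 0, 0, 2, 1, 2, 0, 3], [1, 1, 1, 1, 3, 3, 3, 0, 0, 0, 3, 1, 3, 0, 3, 0, 2, 2, 2, 1, 1, 3, 1, 2], [1, 1, 1, 1, 3, 3, 3, 0, 0, 0, 3, 0, 3, 3, 3, 3, 3, 1, 3, 3, 3, 0, 0, 2], [1, 1, 1, 1, 3, 3, 3, 0, 0, 2, 0, 2, 0, 0, 0, 2, 1, 2, 1, 1, 2, 0, 3, 3], [1, 1, 1, 1, 3, 3, 3, 0, 2, 0, 0, 3, 1, 1, 1, 1, 3, 3, 3, 0, 2, 0, 0, 3], [1, 1, 1, 1, 3, 3, 0, 3, 0, 0, 3, 1, 1, 3, 1, 1, 2, 1, 2, 0, 2, 0, 2, 2], [1, 1, 1, 1, 3, 3, 0, 0, 0, 3, 1, 1, 2, 1, 3, 3, 3, 3, 0, 3, 3, 3, 1, 2], [1,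 1, 1, 1, 3, 3, 0, 0, 2, 0, 3, 0, 0, 2, 0, 2, 1, 3, 3, 0, 3, 1, 3, 3], [1, 1, 1, 1, 3, 3, 0, 0, 2, 0, 2, 2, 2, 2, 1, 2, 0, 2, 1, 2, 2, 0, 2, 2], [1, 1, 1, 1, 3, 3, 0, 2, 2, 2, 1, 3, 3, 0, 2, 2, 0, 0, 0, 2, 0, 3, 1, 3], [1, 1, 1, 1, 3, 0, 3, 3, 1, 3, 1, 3, 0, 3, 0, 0, 2, 1, 1, 2, 2, 1, 2, 2], [1, 1, 1, 1, 3, 0, 3, 3, 1, 3, 1, 2, 0, 0, 2, 2, 1, 1, 3, 0, 2, 1, 3, 3], [1, 1, 1, 1, 3, 0, 3, 3, 3, 3, 3, 1, 3, 3, 3, 0, 0, 2, 0, 0, 0, 3, 3, 3], [1, 1, 1, 1, 3, 0, 3, 0, 0, 3, 3, 0, 3, 3, 3, 3, 1, 3, 0, 0, 2, 0, 2, 2], [1, 1, 1, 1, 3, 0, 0, 0, 2, 0, 2, 0, 2, 0, 2, 2, 2, 0, 0, 3, 1, 3, 0, 3], [1, 1, 1, 1, 3, 0, 0, 0, 2, 2, 2, 1, 1,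 3, 1, 2, 1, 2, 0, 3, 0, 0, 3, 3], [1, 1, 1, 1, 3, 0, 2, 1, 1, 2, 1, 3, 1, 1, 1, 1, 3, 0, 2, 1, 1, 2, 1, 3], [1, 1, 1, 1, 3, 0, 2, 1, 2, 0, 0, 0, 2, 2, 1, 2, 1, 3, 0, 3, 3, 0, 0, 2], [1, 1, 1, 1, 3, 0, 2, 0, 0, 2, 0, 0, 3, 1, 3, 3, 3, 3, 3, 1, 3, 0, 3, 3], [1, 1, 1, 1, 3, 0, 2, 2, 0, 0, 2, 0, 3, 1, 3, 1, 2, 2, 0, 2, 2, 2, 0, 3], [1, 1, 1, 1, 3, 0, 2, 2, 2, 1, 1, 3, 3, 0, 0, 0, 0, 3, 3, 3, 1, 3, 3, 3], [1, 1, 1, 1, 2, 1, 1, 1, 3, 3, 0, 3, 3, 0, 0, 0, 0, 2, 1, 1, 2, 1, 2, 2], [1, 1, 1, 1, 2, 1, 1, 1, 2, 2, 0, 2, 1, 1, 1, 2, 0, 2, 1, 1, 1, 2, 1, 2], [1, 1, 1, 1, 2, 1, 1, 3, 3, 3, 3, 1, 2, 1, 3, 1, 2, 2, 1, 2, 1, 3, 1, 2], [1,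 1, 1, 1, 2, 1, 1, 2, 0, 2, 1, 1, 2, 2, 1, 3, 0, 2, 2, 1, 2, 0, 2, 2], [1, 1, 1, 1, 2, 1, 1, 2, 0, 2, 1, 2, 2, 0, 2, 2, 2, 1, 3, 1, 1, 1, 2, 2], [1, 1, 1, 1, 2, 1, 1, 2, 2, 2, 0, 0, 2, 2, 2, 0, 2, 0, 0, 0, 3, 3, 1, 2], [1, 1, 1, 1, 2, 1, 3, 1, 3, 1, 2, 2, 2, 0, 3, 0, 0, 2, 0, 0, 3, 3, 0, 3], [1, 1, 1, 1, 2, 1, 3, 1, 3, 3, 3, 0, 0, 0, 0, 2, 0, 3, 1, 2, 2, 2, 0, 2], [1, 1, 1, 1, 2, 1, 3, 1, 3, 3, 0, 0, 2, 0, 0, 2, 2, 1, 1, 2, 0, 3, 1, 3], [1, 1, 1, 1, 2, 1, 3, 0, 3, 0, 0, 2, 1, 2, 1, 3, 0, 3, 1, 3, 1, 2, 2, 2], [1, 1, 1, 1, 2, 1, 3, 0, 0, 3, 1, 1, 3, 1, 2, 0, 3, 3, 1, 1, 3, 1, 2, 2], [1, 1, 1, 1, 2, 1, 3, 0, 2, 1, 2, 2, 0,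 3, 3, 1, 1, 3, 3, 0, 2, 2, 0, 2], [1, 1, 1, 1, 2, 1, 3, 0, 2, 2, 0, 0, 3, 3, 3, 0, 2, 2, 0, 3, 0, 2, 0, 3], [1, 1, 1, 1, 2, 1, 3, 0, 2, 2, 2, 0, 0, 3, 3, 1, 1, 2, 0, 2, 2, 0, 2, 2], [1, 1, 1, 1, 2, 1, 2, 1, 1, 2, 0, 3, 3, 0, 0, 0, 3, 3, 3, 0, 0, 2, 0, 2], [1, 1, 1, 1, 2, 1, 2, 0, 3, 0, 0, 0, 3, 3, 3, 3, 0, 0, 3, 0, 2, 2, 0, 3], [1, 1, 1, 1, 2, 1, 2, 0, 2, 2, 1, 3, 3, 3, 1, 3, 1, 1, 3, 0, 2, 0, 3, 3], [1, 1, 1, 1, 2, 1, 2, 0, 2, 2, 1, 2, 0, 3, 3, 3, 3, 3, 0, 2, 2, 2, 0, 2], [1, 1, 1, 1, 2, 0, 3, 1, 3, 0, 0, 0, 3, 3, 0, 2, 2, 2, 1, 3, 3, 0, 2, 2], [1, 1, 1, 1, 2, 0, 3, 1, 2, 1, 2, 2, 0, 0, 2, 1, 3, 1, 3, 1, 3, 3, 3, 3], [1,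 1, 1, 1, 2, 0, 3, 3, 3, 1, 3, 3, 0, 3, 1, 3, 0, 0, 3, 1, 1, 1, 3, 3], [1, 1, 1, 1, 2, 0, 3, 0, 0, 3, 0, 3, 1, 1, 2, 2, 2, 2, 2, 2, 0, 2, 1, 3], [1, 1, 1, 1, 2, 0, 0, 0, 2, 2, 2, 1, 2, 0, 3, 0, 0, 3, 3, 0, 2, 1, 1, 2], [1, 1, 1, 1, 2, 0, 0, 2, 1, 2, 2, 0, 2, 2, 0, 0, 2, 0, 0, 0, 2, 0, 2, 2], [1, 1, 1, 1, 2, 0, 2, 1, 3, 3, 1, 3, 3, 3, 0, 2, 1, 3, 3, 3, 0, 3, 0, 3], [1, 1, 1, 1, 2, 0, 2, 1, 2, 2, 1, 3, 0, 3, 1, 3, 0, 2, 1, 2, 0, 3, 1, 3], [1, 1, 1, 1, 2, 0, 2, 0, 2, 0, 2, 2, 2, 0, 0, 3, 1, 3, 0, 3, 0, 0, 0, 3], [1, 1, 1, 1, 2, 0, 2, 2, 1, 1, 2, 1, 3, 0, 0, 2, 2, 0, 3, 0, 0, 3, 3, 3], [1, 1, 1, 1, 2, 0, 2, 2, 0, 0, 0, 2, 0,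 0, 2, 1, 2, 2, 0, 2, 2, 0, 0, 2], [1, 1, 1, 1, 2, 2, 1, 1, 3, 3, 0, 3, 0, 2, 1, 2, 2, 0, 2, 2, 2, 2, 2, 2], [1, 1, 1, 1, 2, 2, 1, 1, 3, 0, 0, 3, 0, 3, 0, 2, 0, 2, 2, 0, 3, 0, 2, 2], [1, 1, 1, 1, 2, 2, 1, 1, 3, 0, 2, 1, 2, 1, 2, 2, 0, 2, 2, 0, 3, 0, 2, 2], [1, 1, 1, 1, 2, 2, 1, 1, 2, 1, 2, 1, 3, 3, 0, 3, 0, 2, 2, 2, 2, 2, 1, 3], [1, 1, 1, 1, 2, 2, 1, 1, 2, 0, 3, 3, 0, 3, 0, 2, 0, 2, 0, 2, 2, 2, 0, 2], [1, 1, 1, 1, 2, 2, 1, 3, 1, 1, 2, 2, 2, 1, 3, 0, 3, 1, 1, 2, 1, 3, 0, 2], [1, 1, 1, 1, 2, 2, 1, 3, 3, 1, 3, 0, 3, 3, 1, 1, 2, 1, 1, 2, 2, 0, 0, 2], [1, 1, 1, 1, 2, 2, 1, 2, 1, 3, 0, 3, 3, 0, 0, 2, 0, 0, 0, 3, 0, 2, 1, 2], [1,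 1, 1, 1, 2, 2, 1, 2, 0, 2, 1, 3, 0, 3, 0, 2, 0, 0, 3, 0, 0, 3, 1, 2], [1, 1, 1, 1, 2, 2, 1, 2, 0, 2, 2, 1, 3, 0, 2, 0, 2, 2, 0, 3, 0, 3, 0, 2], [1, 1, 1, 1, 2, 2, 0, 3, 3, 1, 2, 2, 0, 3, 3, 0, 0, 2, 1, 3, 3, 0, 2, 2], [1, 1, 1, 1, 2, 2, 0, 2, 2, 1, 3, 0, 3, 0, 0, 0, 3, 3, 3, 3, 1, 2, 1, 3], [1, 1, 1, 1, 2, 2, 2, 1, 1, 3, 1, 2, 1, 2, 0, 3, 0, 0, 3, 3, 0, 0, 0, 3], [1, 1, 1, 1, 2, 2, 2, 1, 1, 2, 2, 2, 0, 2, 2, 2, 1, 2, 0, 0, 3, 0, 0, 2], [1, 1, 1, 1, 2, 2, 2, 1, 2, 0, 3, 0, 0, 3, 3, 0, 2, 1, 1, 2, 0, 0, 0, 2], [1, 1, 1, 3, 1, 1, 1, 2, 1, 1, 2, 2, 1, 1, 2, 0, 0, 0, 3, 1, 1, 2, 0, 3], [1, 1, 1, 3, 1, 1, 1, 2, 0, 2, 2, 2, 0,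 0, 2, 0, 0, 2, 0, 0, 3, 3, 1, 3], [1, 1, 1, 3, 1, 1, 3, 1, 3, 0, 2, 0, 0, 0, 2, 0, 0, 3, 1, 3, 1, 3, 3, 3], [1, 1, 1, 3, 1, 1, 3, 1, 2, 1, 2, 0, 2, 2, 2, 2, 2, 0, 0, 2, 0, 2, 1, 2], [1, 1, 1, 3, 1, 1, 3, 1, 2, 0, 0, 2, 0, 0, 0, 2, 1, 2, 0, 0, 3, 1, 1, 3], [1, 1, 1, 3, 1, 1, 3, 1, 2, 0, 2, 1, 2, 1, 3, 0, 0, 0, 2, 1, 1, 2, 0, 3], [1, 1, 1, 3, 1, 1, 3, 3, 1, 2, 0, 3, 3, 1, 1, 3, 3, 3, 0, 3, 1, 1, 2, 2], [1, 1, 1, 3, 1, 1, 3, 0, 3, 3, 0, 3, 1, 3, 0, 0, 3, 3, 3, 3, 3, 0, 0, 2], [1, 1, 1, 3, 1, 1, 3, 0, 0, 3, 3, 3, 3, 0, 0, 3, 0, 0, 3, 1, 1, 3, 1, 2], [1, 1, 1, 3, 1, 1, 2, 1, 3, 1, 1, 3, 1, 3, 0, 0, 0, 2, 2, 1, 1, 2, 0, 2], [1,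 1, 1, 3, 1, 1, 2, 1, 3, 0, 3, 3, 0, 2, 0, 2, 2, 0, 2, 0, 2, 2, 1, 2], [1, 1, 1, 3, 1, 1, 2, 1, 2, 2, 1, 3, 1, 2, 0, 2, 0, 0, 2, 1, 3, 3, 0, 2], [1, 1, 1, 3, 1, 1, 2, 0, 0, 0, 2, 1, 1, 1, 3, 1, 2, 0, 0, 3, 0, 2, 1, 3], [1, 1, 1, 3, 1, 1, 2, 2, 2, 1, 3, 3, 0, 0, 0, 3, 1, 1, 3, 1, 3, 0, 2, 2], [1, 1, 1, 3, 1, 1, 2, 2, 2, 0, 3, 0, 2, 0, 3, 0, 0, 3, 1, 2, 1, 2, 1, 3], [1, 1, 1, 3, 1, 1, 2, 2, 2, 0, 3, 0, 2, 0, 3, 0, 0, 3, 3, 0, 3, 0, 3, 3], [1, 1, 1, 3, 1, 3, 1, 1, 1, 3, 0, 3, 0, 0, 2, 2, 1, 3, 1, 1, 2, 0, 0, 3], [1, 1, 1, 3, 1, 3, 1, 1, 2, 2, 1, 1, 3, 1, 1, 1, 3, 1, 3, 3, 1, 1, 3, 3], [1, 1, 1, 3, 1, 3, 1, 3, 0, 0, 0, 3, 1,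 2, 1, 3, 3, 3, 0, 0, 0, 2, 2, 2], [1, 1, 1, 3, 1, 3, 1, 2, 0, 0, 2, 0, 3, 0, 0, 3, 0, 0, 2, 0, 0, 2, 1, 3], [1, 1, 1, 3, 1, 3, 3, 1, 3, 3, 3, 1, 2, 0, 0, 0, 3, 1, 3, 1, 3, 3, 1, 3], [1, 1, 1, 3, 1, 3, 3, 1, 3, 0, 0, 3, 3, 1, 2, 1, 3, 1, 3, 0, 2, 2, 1, 3], [1, 1, 1, 3, 1, 3, 3, 3, 1, 2, 1, 1, 3, 0, 0, 0, 2, 0, 2, 1, 2, 0, 0, 2], [1, 1, 1, 3, 1, 3, 3, 3, 0, 3, 3, 0, 2, 2, 1, 1, 3, 0, 0, 0, 3, 3, 0, 2], [1, 1, 1, 3, 1, 3, 3, 0, 0, 0, 2, 0, 0, 2, 2, 0, 3, 0, 0, 0, 2, 1, 3, 3], [1, 1, 1, 3, 1, 3, 0, 0, 3, 3, 3, 0, 3, 0, 0, 2, 1, 1, 1, 2, 1, 1, 2, 2], [1, 1, 1, 3, 1, 3, 0, 0, 3, 0, 0, 3, 3, 1, 1, 2, 2, 2, 2, 2, 0, 3, 1, 2], [1,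 1, 1, 3, 1, 3, 0, 0, 3, 0, 2, 0, 2, 0, 3, 0, 3, 3, 0, 0, 2, 0, 2, 2], [1, 1, 1, 3, 1, 3, 0, 0, 2, 1, 3, 3, 1, 3, 1, 2, 1, 2, 2, 1, 1, 2, 0, 3], [1, 1, 1, 3, 1, 3, 0, 0, 2, 0, 3, 0, 3, 1, 3, 1, 3, 0, 3, 1, 2, 1, 1, 3], [1, 1, 1, 3, 1, 3, 0, 2, 1, 3, 0, 0, 0, 2, 0, 3, 3, 3, 1, 2, 0, 3, 1, 2], [1, 1, 1, 3, 1, 3, 0, 2, 1, 2, 0, 3, 3, 3, 1, 3, 3, 3, 3, 0, 2, 0, 2, 2], [1, 1, 1, 3, 1, 3, 0, 2, 0, 3, 1, 2, 0, 2, 0, 0, 2, 1, 3, 1, 1, 2, 0, 2], [1, 1, 1, 3, 1, 3, 0, 2, 2, 1, 3, 0, 3, 3, 0, 3, 0, 2, 2, 1, 3, 1, 1, 2], [1, 1, 1, 3, 1, 2, 1, 1, 3, 0, 3, 3, 0, 2, 0, 2, 0, 3, 0, 2, 0, 3, 0, 2], [1, 1, 1, 3, 1, 2, 1, 3, 3, 1, 2, 2, 0,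 2, 0, 0, 2, 2, 2, 0, 3, 1, 1, 3], [1, 1, 1, 3, 1, 2, 1, 2, 1, 2, 0, 3, 0, 0, 0, 2, 2, 1, 2, 2, 0, 0, 0, 3], [1, 1, 1, 3, 1, 2, 1, 2, 2, 1, 2, 0, 0, 2, 2, 1, 2, 0, 3, 0, 0, 3, 1, 3], [1, 1, 1, 3, 1, 2, 1, 2, 2, 0, 0, 3, 3, 3, 3, 0, 3, 3, 1, 3, 3, 3, 1, 3], [1, 1, 1, 3, 1, 2, 0, 0, 3, 0, 3, 3, 0, 2, 2, 2, 1, 2, 1, 3, 0, 3, 0, 3], [1, 1, 1, 3, 1, 2, 0, 0, 2, 2, 2, 1, 1, 2, 2, 1, 1, 3, 0, 0, 2, 2, 0, 3], [1, 1, 1, 3, 1, 2, 0, 0, 2, 2, 2, 2, 0, 3, 0, 0, 2, 0, 2, 0, 0, 3, 3, 3], [1, 1, 1, 3, 1, 2, 0, 2, 0, 2, 2, 0, 3, 0, 3, 3, 1, 3, 3, 1, 2, 2, 0, 3], [1, 1, 1, 3, 1, 2, 0, 2, 2, 0, 3, 0, 2, 1, 3, 1, 1, 2, 0, 3, 1, 3, 0, 2], [1,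 1, 1, 3, 1, 2, 2, 1, 2, 1, 1, 2, 0, 0, 2, 1, 3, 3, 0, 2, 0, 2, 0, 2], [1, 1, 1, 3, 3, 1, 1, 1, 3, 0, 0, 3, 0, 0, 2, 0, 2, 2, 1, 2, 2, 2, 0, 3], [1, 1, 1, 3, 3, 1, 1, 2, 0, 2, 1, 2, 1, 3, 1, 1, 1, 3, 0, 2, 2, 2, 1, 3], [1, 1, 1, 3, 3, 1, 3, 1, 1, 2, 1, 3, 1, 2, 2, 0, 2, 1, 3, 0, 3, 1, 3, 3], [1, 1, 1, 3, 3, 1, 3, 0, 3, 0, 0, 2, 1, 2, 1, 1, 1, 2, 1, 1, 3, 1, 1, 2], [1, 1, 1, 3, 3, 1, 2, 1, 3, 3, 0, 3, 0, 0, 0, 2, 0, 2, 1, 3, 0, 3, 1, 2], [1, 1, 1, 3, 3, 1, 2, 0, 3, 1, 1, 3, 3, 3, 0, 0, 3, 0, 0, 2, 0, 0, 2, 2], [1, 1, 1, 3, 3, 1, 2, 2, 2, 1, 1, 3, 0, 3, 3, 1, 3, 1, 1, 3, 3, 1, 1, 2], [1, 1, 1, 3, 3, 1, 2, 2, 2, 1, 3, 3, 1,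 3, 3, 3, 3, 0, 0, 3, 0, 0, 0, 3], [1, 1, 1, 3, 3, 3, 1, 1, 3, 3, 3, 3, 3, 0, 3, 1, 3, 1, 3, 3, 3, 3, 3, 3], [1, 1, 1, 3, 3, 3, 1, 1, 3, 0, 2, 0, 0, 3, 0, 3, 0, 2, 1, 1, 3, 3, 0, 2], [1, 1, 1, 3, 3, 3, 1, 1, 3, 0, 2, 0, 2, 1, 2, 1, 2, 2, 1, 1, 3, 3, 0, 2], [1, 1, 1, 3, 3, 3, 1, 3, 3, 1, 2, 0, 0, 3, 3, 1, 2, 1, 2, 1, 2, 0, 0, 3], [1, 1, 1, 3, 3, 3, 1, 2, 1, 3, 0, 0, 3, 1, 3, 1, 3, 0, 3, 1, 2, 2, 2, 2], [1, 1, 1, 3, 3, 3, 3, 1, 2, 1, 1, 3, 1, 1, 2, 1, 3, 1, 2, 0, 0, 2, 0, 3], [1, 1, 1, 3, 3, 3, 3, 3, 3, 3, 0, 0, 2, 1, 3, 0, 0, 2, 2, 2, 2, 1, 3, 3], [1, 1, 1, 3, 3, 3, 3, 3, 0, 3, 3, 0, 2, 0, 2, 1, 3, 1, 2, 2, 2, 2, 0, 2], [1,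 1, 1, 3, 3, 3, 3, 3, 0, 0, 0, 2, 0, 3, 0, 3, 1, 1, 3, 3, 1, 3, 0, 3], [1, 1, 1, 3, 3, 3, 3, 0, 3, 1, 3, 3, 1, 2, 0, 3, 3, 1, 3, 1, 1, 3, 0, 2], [1, 1, 1, 3, 3, 3, 3, 0, 2, 1, 3, 1, 3, 0, 0, 3, 3, 1, 1, 2, 1, 2, 0, 2], [1, 1, 1, 3, 3, 3, 0, 3, 1, 2, 2, 1, 1, 2, 2, 2, 2, 0, 3, 1, 3, 0, 2, 2], [1, 1, 1, 3, 3, 3, 0, 3, 3, 1, 1, 2, 0, 0, 3, 1, 2, 2, 0, 3, 3, 3, 1, 3], [1, 1, 1, 3, 3, 3, 0, 0, 2, 1, 2, 0, 2, 2, 0, 2, 2, 0, 2, 0, 0, 3, 1, 2], [1, 1, 1, 3, 3, 3, 0, 2, 1, 3, 1, 3, 1, 3, 3, 3, 0, 2, 1, 2, 1, 3, 3, 3], [1, 1, 1, 3, 3, 0, 3, 1, 1, 3, 3, 1, 2, 0, 3, 3, 0, 3, 1, 1, 3, 1, 2, 2], [1, 1, 1, 3, 3, 0, 3, 3, 0, 2, 0, 2, 2,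 1, 2, 0, 2, 2, 0, 2, 0, 3, 1, 3], [1, 1, 1, 3, 3, 0, 0, 2, 0, 2, 2, 0, 3, 0, 0, 0, 3, 3, 0, 2, 1, 3, 0, 2], [1, 1, 1, 3, 3, 0, 2, 1, 1, 3, 0, 2, 0, 2, 2, 1, 1, 1, 3, 0, 0, 2, 1, 3], [1, 1, 1, 3, 3, 0, 2, 1, 2, 2, 2, 1, 1, 1, 2, 1, 2, 2, 1, 3, 1, 2, 1, 3], [1, 1, 1, 3, 3, 0, 2, 1, 2, 2, 2, 0, 3, 1, 2, 2, 0, 3, 0, 0, 3, 3, 0, 2], [1, 1, 1, 3, 3, 0, 2, 0, 3, 1, 2, 0, 3, 1, 3, 0, 2, 2, 1, 1, 1, 2, 1, 2], [1, 1, 1, 3, 3, 0, 2, 2, 0, 3, 3, 1, 1, 2, 1, 3, 3, 3, 3, 3, 3, 3, 1, 2], [1, 1, 1, 3, 3, 0, 2, 2, 0, 0, 2, 2, 2, 1, 1, 2, 0, 0, 3, 1, 3, 0, 3, 3], [1, 1, 1, 3, 3, 0, 2, 2, 2, 0, 2, 2, 0, 2, 1, 2, 0, 3, 1, 2, 1, 3, 3, 3], [1,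 1, 1, 3, 0, 3, 1, 1, 3, 3, 3, 3, 3, 3, 3, 0, 2, 2, 1, 1, 2, 1, 1, 2], [1, 1, 1, 3, 0, 3, 1, 1, 3, 0, 0, 3, 1, 3, 3, 3, 0, 2, 1, 3, 0, 2, 0, 2], [1, 1, 1, 3, 0, 3, 1, 1, 2, 1, 2, 1, 1, 2, 2, 0, 3, 0, 3, 3, 3, 1, 1, 2], [1, 1, 1, 3, 0, 3, 1, 3, 1, 2, 1, 3, 3, 1, 1, 1, 2, 0, 2, 2, 2, 1, 3, 3], [1, 1, 1, 3, 0, 3, 1, 3, 0, 3, 0, 3, 1, 2, 2, 0, 3, 0, 3, 3, 3, 1, 1, 2], [1, 1, 1, 3, 0, 3, 1, 2, 0, 2, 0, 2, 2, 2, 1, 3, 3, 3, 1, 1, 3, 0, 2, 2], [1, 1, 1, 3, 0, 3, 1, 2, 2, 1, 3, 0, 3, 3, 0, 3, 1, 2, 0, 3, 3, 3, 3, 3], [1, 1, 1, 3, 0, 3, 3, 1, 2, 1, 3, 0, 2, 0, 3, 1, 3, 1, 1, 2, 2, 2, 2, 2], [1, 1, 1, 3, 0, 3, 3, 3, 3, 0, 0, 3, 3,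 3, 0, 3, 1, 2, 1, 2, 0, 0, 3, 3], [1, 1, 1, 3, 0, 3, 3, 3, 0, 2, 2, 1, 2, 2, 2, 2, 0, 3, 0, 3, 0, 2, 0, 2], [1, 1, 1, 3, 0, 3, 3, 3, 0, 2, 2, 1, 2, 2, 2, 2, 2, 1, 2, 1, 2, 2, 0, 2], [1, 1, 1, 3, 0, 3, 0, 3, 1, 2, 0, 3, 3, 0, 0, 0, 3, 3, 3, 0, 0, 2, 0, 2], [1, 1, 1, 3, 0, 3, 0, 0, 3, 0, 0, 2, 2, 0, 0, 2, 2, 0, 0, 3, 1, 3, 3, 3], [1, 1, 1, 3, 0, 3, 0, 0, 0, 3, 3, 1, 3, 1, 2, 1, 3, 0, 3, 0, 3, 0, 2, 2], [1, 1, 1, 3, 0, 3, 0, 2, 0, 2, 0, 3, 0, 3, 0, 3, 3, 3, 3, 3, 1, 2, 1, 2], [1, 1, 1, 3, 0, 0, 3, 3, 1, 1, 2, 1, 1, 2, 2, 1, 1, 1, 2, 0, 2, 0, 2, 2], [1, 1, 1, 3, 0, 0, 3, 3, 1, 2, 1, 1, 3, 3, 0, 3, 3, 1, 1, 3, 0, 2, 1, 2], [1,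 1, 1, 3, 0, 0, 3, 0, 2, 2, 1, 1, 1, 2, 2, 2, 2, 2, 2, 2, 1, 2, 0, 3], [1, 1, 1, 3, 0, 0, 3, 0, 2, 2, 1, 1, 3, 1, 1, 2, 1, 1, 1, 3, 0, 2, 1, 3], [1, 1, 1, 3, 0, 0, 3, 0, 2, 2, 1, 2, 0, 2, 1, 2, 0, 2, 2, 2, 2, 2, 1, 2], [1, 1, 1, 3, 0, 0, 0, 3, 3, 3, 1, 1, 3, 3, 0, 2, 2, 0, 2, 1, 1, 2, 1, 3], [1, 1, 1, 3, 0, 0, 0, 3, 0, 2, 1, 1, 3, 1, 1, 3, 1, 1, 3, 3, 0, 3, 0, 2], [1, 1, 1, 3, 0, 0, 0, 2, 1, 3, 3, 0, 0, 0, 2, 1, 3, 3, 3, 1, 3, 0, 0, 3], [1, 1, 1, 3, 0, 0, 2, 1, 2, 2, 0, 2, 0, 2, 2, 0, 0, 3, 3, 1, 3, 1, 1, 2], [1, 1, 1, 3, 0, 0, 2, 0, 3, 3, 3, 1, 3, 3, 0, 2, 1, 3, 1, 2, 2, 2, 0, 2], [1, 1, 1, 3, 0, 0, 2, 0, 2, 0, 2, 2, 1,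 1, 1, 3, 0, 2, 0, 2, 2, 0, 3, 3], [1, 1, 1, 3, 0, 0, 2, 2, 0, 0, 3, 0, 3, 0, 0, 0, 3, 3, 3, 3, 0, 2, 1, 3], [1, 1, 1, 3, 0, 0, 2, 2, 0, 2, 1, 2, 1, 2, 0, 0, 3, 3, 3, 3, 0, 2, 1, 3], [1, 1, 1, 3, 0, 0, 2, 2, 2, 2, 2, 2, 1, 2, 1, 2, 1, 1, 1, 2, 0, 3, 3, 3], [1, 1, 1, 3, 0, 2, 1, 1, 1, 2, 0, 3, 1, 3, 0, 2, 1, 2, 0, 2, 2, 2, 2, 2], [1, 1, 1, 3, 0, 2, 1, 1, 3, 3, 0, 0, 2, 1, 3, 3, 3, 3, 0, 3, 3, 3, 3, 3], [1, 1, 1, 3, 0, 2, 1, 2, 2, 2, 1, 3, 0, 3, 0, 3, 0, 0, 3, 3, 3, 0, 3, 3], [1, 1, 1, 3, 0, 2, 0, 2, 0, 2, 2, 0, 3, 1, 2, 2, 0, 2, 2, 0, 3, 1, 1, 3], [1, 1, 1, 3, 0, 2, 2, 0, 3, 3, 1, 3, 0, 3, 1, 2, 2, 1, 3, 3, 0, 2, 2, 2], [1,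 1, 1, 3, 0, 2, 2, 2, 2, 1, 1, 3, 1, 1, 3, 1, 2, 0, 0, 3, 1, 3, 3, 3], [1, 1, 1, 3, 0, 2, 2, 2, 2, 1, 3, 0, 3, 1, 3, 0, 3, 3, 3, 1, 2, 2, 0, 3], [1, 1, 1, 2, 1, 1, 1, 2, 1, 1, 3, 3, 0, 0, 3, 0, 2, 1, 2, 2, 0, 2, 0, 2], [1, 1, 1, 2, 1, 1, 1, 2, 1, 1, 2, 0, 2, 1, 3, 1, 2, 2, 1, 3, 0, 2, 0, 3], [1, 1, 1, 2, 1, 1, 1, 2, 2, 0, 2, 1, 1, 1, 2, 0, 2, 1, 1, 3, 0, 3, 0, 3], [1, 1, 1, 2, 1, 1, 3, 3, 0, 0, 2, 0, 0, 2, 1, 2, 2, 0, 0, 3, 0, 2, 0, 2], [1, 1, 1, 2, 1, 3, 1, 1, 3, 1, 3, 3, 3, 1, 3, 0, 2, 1, 1, 2, 1, 1, 2, 2], [1, 1, 1, 2, 1, 3, 1, 1, 2, 1, 2, 1, 3, 3, 0, 3, 1, 1, 3, 0, 0, 0, 2, 2], [1, 1, 1, 2, 1, 3, 1, 3, 0, 3, 0, 3, 3,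 3, 0, 3, 1, 1, 3, 0, 0, 0, 2, 2], [1, 1, 1, 2, 1, 3, 1, 2, 2, 1, 2, 0, 2, 2, 0, 3, 3, 3, 0, 3, 3, 0, 3, 3], [1, 1, 1, 2, 1, 3, 1, 2, 2, 0, 3, 3, 0, 2, 2, 0, 3, 3, 3, 0, 3, 1, 1, 3], [1, 1, 1, 2, 1, 3, 3, 1, 1, 3, 3, 0, 2, 0, 3, 0, 3, 0, 2, 2, 1, 3, 1, 3], [1, 1, 1, 2, 1, 3, 3, 1, 1, 3, 3, 0, 2, 2, 1, 2, 1, 2, 2, 2, 1, 3, 1, 3], [1, 1, 1, 2, 1, 3, 3, 3, 3, 1, 2, 0, 2, 0, 2, 0, 3, 1, 2, 1, 2, 0, 2, 2], [1, 1, 1, 2, 1, 3, 3, 3, 3, 3, 0, 2, 1, 1, 1, 2, 1, 3, 3, 3, 3, 3, 0, 2], [1, 1, 1, 2, 1, 3, 3, 0, 3, 1, 2, 0, 0, 3, 3, 0, 2, 0, 3, 1, 3, 0, 3, 3], [1, 1, 1, 2, 1, 3, 0, 3, 0, 2, 2, 2, 1, 2, 0, 0, 3, 1, 2, 2, 2, 0, 2, 2], [1,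 1, 1, 2, 1, 3, 0, 0, 3, 1, 3, 0, 0, 3, 0, 2, 1, 1, 2, 1, 2, 1, 1, 3], [1, 1, 1, 2, 1, 3, 0, 0, 3, 1, 3, 0, 0, 3, 0, 2, 1, 3, 0, 3, 0, 3, 1, 3], [1, 1, 1, 2, 1, 3, 0, 2, 1, 3, 0, 3, 1, 2, 1, 2, 0, 2, 0, 2, 0, 0, 3, 3], [1, 1, 1, 2, 1, 3, 0, 2, 1, 2, 1, 1, 3, 0, 3, 1, 1, 3, 3, 3, 3, 1, 3, 3], [1, 1, 1, 2, 1, 3, 0, 2, 2, 1, 3, 1, 3, 3, 0, 2, 1, 2, 0, 3, 1, 2, 1, 2], [1, 1, 1, 2, 1, 2, 1, 1, 2, 2, 1, 2, 0, 2, 2, 2, 0, 3, 0, 0, 3, 3, 0, 2], [1, 1, 1, 2, 1, 2, 1, 3, 1, 1, 3, 1, 2, 1, 3, 3, 0, 0, 0, 2, 2, 1, 3, 3], [1, 1, 1, 2, 1, 2, 1, 3, 3, 0, 2, 1, 1, 2, 1, 2, 2, 2, 1, 3, 3, 3, 3, 3], [1, 1, 1, 2, 1, 2, 1, 3, 0, 3, 0, 0, 2,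 0, 3, 1, 3, 0, 0, 0, 2, 2, 0, 2], [1, 1, 1, 2, 1, 2, 1, 2, 0, 2, 0, 0, 3, 3, 3, 3, 3, 1, 3, 3, 1, 2, 2, 2], [1, 1, 1, 2, 1, 2, 1, 2, 2, 0, 2, 2, 1, 2, 1, 3, 3, 3, 3, 3, 0, 3, 0, 3], [1, 1, 1, 2, 1, 2, 0, 3, 1, 3, 3, 1, 2, 2, 0, 2, 0, 3, 3, 0, 0, 3, 3, 3], [1, 1, 1, 2, 1, 2, 0, 3, 3, 1, 1, 3, 3, 0, 0, 2, 2, 2, 1, 3, 0, 2, 1, 3], [1, 1, 1, 2, 1, 2, 0, 3, 0, 2, 1, 1, 2, 2, 1, 3, 3, 1, 1, 3, 3, 1, 3, 3], [1, 1, 1, 2, 1, 2, 0, 0, 3, 3, 3, 0, 3, 0, 0, 0, 2, 0, 0, 3, 3, 3, 1, 2], [1, 1, 1, 2, 1, 2, 0, 2, 1, 3, 0, 2, 1, 2, 1, 3, 1, 2, 2, 2, 2, 1, 1, 2], [1, 1, 1, 2, 1, 2, 0, 2, 0, 3, 0, 2, 2, 1, 3, 3, 0, 2, 0, 3, 3, 3, 0, 3], [1,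 1, 1, 2, 1, 2, 2, 0, 0, 2, 1, 2, 0, 3, 0, 0, 3, 0, 0, 3, 1, 1, 3, 3], [1, 1, 1, 2, 1, 2, 2, 0, 2, 2, 1, 3, 0, 3, 3, 1, 3, 0, 3, 1, 1, 3, 0, 2], [1, 1, 1, 2, 1, 2, 2, 2, 1, 3, 1, 2, 1, 3, 3, 0, 0, 2, 0, 2, 2, 0, 0, 2], [1, 1, 1, 2, 1, 2, 2, 2, 2, 2, 2, 1, 2, 0, 3, 3, 3, 1, 1, 3, 1, 3, 1, 2], [1, 1, 1, 2, 0, 3, 1, 1, 1, 2, 2, 0, 3, 0, 0, 2, 2, 1, 3, 0, 2, 2, 0, 3], [1, 1, 1, 2, 0, 3, 1, 3, 1, 1, 2, 1, 2, 2, 0, 0, 3, 3, 0, 3, 3, 3, 3, 3], [1, 1, 1, 2, 0, 3, 3, 3, 1, 3, 1, 3, 3, 3, 1, 3, 1, 1, 2, 2, 0, 2, 0, 2], [1, 1, 1, 2, 0, 3, 3, 0, 2, 2, 0, 0, 2, 1, 1, 2, 2, 1, 2, 2, 1, 2, 0, 2], [1, 1, 1, 2, 0, 3, 0, 3, 1, 3, 3, 3, 3,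 0, 2, 0, 0, 2, 0, 3, 0, 0, 3, 3], [1, 1, 1, 2, 0, 3, 0, 3, 0, 0, 3, 3, 1, 1, 2, 2, 2, 2, 0, 2, 2, 2, 1, 3], [1, 1, 1, 2, 0, 3, 0, 2, 0, 3, 1, 2, 2, 0, 3, 0, 3, 3, 3, 0, 0, 2, 1, 2], [1, 1, 1, 2, 0, 3, 0, 2, 2, 1, 2, 1, 3, 3, 0, 3, 1, 2, 0, 2, 1, 1, 3, 3], [1, 1, 1, 2, 0, 3, 0, 2, 2, 2, 2, 0, 2, 1, 1, 2, 0, 2, 1, 3, 3, 0, 3, 3], [1, 1, 1, 2, 0, 0, 3, 1, 2, 2, 0, 2, 1, 3, 1, 2, 0, 3, 3, 1, 1, 2, 2, 2], [1, 1, 1, 2, 0, 0, 3, 3, 1, 3, 1, 2, 0, 2, 0, 3, 3, 3, 0, 0, 2, 2, 1, 2], [1, 1, 1, 2, 0, 0, 3, 3, 0, 0, 2, 1, 1, 2, 1, 1, 3, 1, 3, 3, 0, 2, 1, 3], [1, 1, 1, 2, 0, 0, 2, 1, 1, 3, 0, 0, 3, 0, 3, 3, 1, 1, 2, 0, 3, 1, 1, 3], [1,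 1, 1, 2, 0, 0, 2, 1, 3, 0, 0, 3, 0, 2, 0, 3, 3, 0, 2, 2, 0, 0, 2, 2], [1, 1, 1, 2, 0, 0, 2, 2, 1, 2, 0, 3, 3, 0, 3, 3, 1, 3, 3, 1, 1, 2, 2, 2], [1, 1, 1, 2, 0, 0, 2, 2, 1, 2, 0, 3, 0, 0, 2, 2, 0, 2, 2, 1, 2, 2, 2, 2], [1, 1, 1, 2, 0, 0, 2, 2, 0, 2, 0, 3, 0, 0, 3, 0, 2, 1, 1, 2, 2, 1, 3, 3], [1, 1, 1, 2, 0, 2, 1, 1, 3, 3, 3, 0, 2, 1, 2, 0, 0, 3, 3, 0, 0, 0, 2, 2], [1, 1, 1, 2, 0, 2, 1, 3, 1, 1, 2, 1, 2, 2, 1, 2, 1, 2, 0, 0, 3, 1, 3, 3], [1, 1, 1, 2, 0, 2, 1, 3, 1, 2, 1, 2, 0, 2, 0, 3, 1, 1, 3, 1, 3, 0, 0, 3], [1, 1, 1, 2, 0, 2, 1, 2, 0, 3, 3, 1, 2, 2, 0, 3, 3, 0, 0, 3, 3, 1, 2, 2], [1, 1, 1, 2, 0, 2, 0, 3, 0, 2, 1, 3, 3,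 1, 3, 3, 3, 1, 3, 1, 3, 3, 1, 2], [1, 1, 1, 2, 0, 2, 0, 0, 2, 0, 3, 3, 3, 1, 3, 0, 3, 1, 3, 0, 0, 2, 0, 2], [1, 1, 1, 2, 0, 2, 0, 0, 2, 2, 1, 1, 3, 3, 0, 2, 1, 1, 2, 0, 0, 2, 0, 2], [1, 1, 1, 2, 0, 2, 2, 1, 1, 1, 2, 2, 1, 2, 1, 3, 3, 0, 3, 3, 3, 0, 0, 3], [1, 1, 1, 2, 0, 2, 2, 1, 1, 2, 0, 2, 2, 2, 0, 3, 0, 2, 2, 1, 2, 0, 0, 2], [1, 1, 1, 2, 0, 2, 2, 1, 3, 3, 0, 0, 2, 1, 2, 2, 1, 1, 3, 1, 2, 0, 0, 3], [1, 1, 1, 2, 0, 2, 2, 1, 2, 1, 3, 3, 0, 0, 2, 0, 0, 2, 2, 2, 1, 2, 0, 2], [1, 1, 1, 2, 0, 2, 2, 0, 3, 3, 3, 0, 2, 0, 2, 0, 2, 2, 2, 2, 0, 3, 1, 3], [1, 1, 1, 2, 0, 2, 2, 0, 0, 2, 2, 0, 3, 0, 2, 0, 3, 3, 1, 3, 3, 3, 1, 3], [1,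 1, 1, 2, 2, 1, 3, 1, 1, 2, 1, 3, 3, 1, 1, 3, 0, 3, 1, 1, 2, 1, 1, 2], [1, 1, 1, 2, 2, 1, 3, 1, 3, 0, 3, 3, 1, 3, 1, 3, 1, 1, 3, 0, 2, 0, 2, 2], [1, 1, 1, 2, 2, 1, 3, 3, 3, 0, 2, 2, 2, 2, 0, 2, 1, 2, 1, 3, 1, 1, 2, 2], [1, 1, 1, 2, 2, 1, 2, 1, 2, 0, 3, 3, 1, 1, 2, 2, 2, 2, 0, 2, 2, 2, 1, 3], [1, 1, 1, 2, 2, 1, 2, 0, 3, 3, 1, 3, 0, 3, 0, 3, 0, 2, 1, 3, 0, 2, 0, 3], [1, 1, 1, 2, 2, 1, 2, 2, 0, 2, 0, 3, 3, 0, 2, 2, 2, 0, 3, 0, 0, 3, 0, 2], [1, 1, 1, 2, 2, 0, 3, 1, 3, 1, 3, 3, 3, 0, 2, 0, 2, 1, 3, 3, 0, 0, 0, 2], [1, 1, 1, 2, 2, 0, 3, 3, 1, 2, 1, 3, 1, 2, 0, 2, 0, 3, 3, 3, 3, 1, 1, 3], [1, 1, 1, 2, 2, 0, 3, 0, 2, 0, 0, 2, 2,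 1, 2, 1, 2, 0, 0, 2, 2, 0, 3, 3], [1, 1, 1, 2, 2, 0, 0, 3, 0, 2, 0, 2, 0, 2, 2, 0, 2, 0, 2, 2, 2, 0, 3, 3], [1, 1, 1, 2, 2, 0, 0, 2, 0, 3, 0, 0, 3, 3, 3, 3, 3, 3, 0, 0, 2, 2, 0, 2], [1, 1, 1, 2, 2, 0, 0, 2, 2, 1, 1, 2, 2, 2, 2, 1, 1, 2, 0, 3, 3, 3, 0, 2], [1, 1, 1, 2, 2, 0, 2, 1, 2, 2, 1, 3, 0, 0, 2, 2, 2, 2, 2, 1, 3, 1, 3, 3], [1, 1, 1, 2, 2, 0, 2, 0, 3, 3, 3, 3, 3, 0, 3, 1, 3, 3, 1, 2, 1, 2, 2, 2], [1, 1, 1, 2, 2, 2, 1, 1, 2, 1, 3, 0, 0, 2, 1, 3, 1, 3, 3, 3, 0, 2, 1, 3], [1, 1, 1, 2, 2, 2, 1, 3, 3, 0, 0, 2, 0, 0, 3, 0, 3, 0, 2, 2, 1, 1, 2, 2], [1, 1, 1, 2, 2, 2, 1, 3, 3, 0, 0, 2, 0, 2, 1, 2, 1, 2, 2, 2, 1, 1, 2, 2], [1,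 1, 1, 2, 2, 2, 1, 2, 2, 1, 2, 1, 1, 2, 0, 3, 3, 0, 2, 2, 2, 2, 1, 3], [1, 1, 1, 2, 2, 2, 0, 3, 3, 1, 3, 3, 3, 1, 1, 3, 3, 3, 3, 1, 1, 2, 0, 3], [1, 1, 1, 2, 2, 2, 0, 2, 2, 2, 2, 2, 1, 1, 3, 0, 3, 0, 2, 2, 2, 1, 1, 3], [1, 1, 1, 2, 2, 2, 2, 2, 1, 2, 1, 3, 0, 3, 0, 2, 0, 2, 2, 0, 0, 2, 0, 3], [1, 1, 3, 1, 1, 3, 3, 1, 1, 2, 0, 2, 2, 2, 1, 3, 1, 2, 0, 0, 3, 3, 1, 2], [1, 1, 3, 1, 1, 3, 3, 3, 1, 3, 0, 3, 3, 1, 3, 3, 0, 3, 1, 1, 3, 0, 0, 3], [1, 1, 3, 1, 1, 3, 3, 0, 2, 0, 0, 3, 3, 0, 3, 3, 3, 0, 2, 0, 3, 1, 2, 2], [1, 1, 3, 1, 1, 3, 0, 3, 3, 0, 3, 3, 1, 1, 2, 2, 1, 2, 2, 0, 0, 3, 1, 3], [1, 1, 3, 1, 1, 3, 0, 0, 2, 2, 1, 2, 2,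 1, 2, 0, 0, 3, 3, 0, 3, 0, 0, 2], [1, 1, 3, 1, 1, 3, 0, 2, 2, 0, 3, 0, 0, 2, 0, 3, 3, 0, 0, 3, 0, 2, 1, 2], [1, 1, 3, 1, 1, 2, 1, 3, 3, 1, 1, 2, 0, 2, 1, 1, 2, 0, 0, 3, 0, 2, 0, 3], [1, 1, 3, 1, 1, 2, 1, 2, 2, 0, 0, 3, 1, 3, 1, 1, 3, 3, 3, 0, 3, 0, 0, 2], [1, 1, 3, 1, 1, 2, 0, 3, 0, 3, 1, 3, 1, 3, 1, 1, 3, 3, 0, 3, 1, 2, 0, 3], [1, 1, 3, 1, 1, 2, 0, 2, 2, 1, 2, 2, 0, 3, 0, 0, 3, 1, 3, 0, 2, 2, 0, 2], [1, 1, 3, 1, 1, 2, 2, 1, 2, 1, 3, 3, 1, 2, 1, 2, 2, 2, 1, 3, 3, 3, 1, 3], [1, 1, 3, 1, 3, 1, 1, 2, 1, 3, 1, 1, 2, 2, 1, 1, 3, 0, 0, 2, 2, 0, 2, 2], [1, 1, 3, 1, 3, 1, 1, 2, 0, 2, 1, 2, 2, 0, 2, 1, 3, 3, 3, 0, 0, 3, 0, 2], [1,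 1, 3, 1, 3, 1, 1, 2, 2, 2, 2, 1, 3, 0, 3, 0, 2, 1, 2, 2, 2, 0, 0, 3], [1, 1, 3, 1, 3, 1, 3, 3, 3, 3, 0, 0, 2, 1, 3, 1, 2, 0, 2, 0, 0, 3, 0, 3], [1, 1, 3, 1, 3, 1, 3, 3, 0, 0, 2, 2, 2, 2, 2, 2, 2, 2, 1, 3, 1, 3, 3, 3], [1, 1, 3, 1, 3, 1, 3, 0, 3, 1, 3, 1, 2, 2, 2, 0, 0, 3, 0, 3, 1, 3, 3, 3], [1, 1, 3, 1, 3, 1, 2, 0, 3, 0, 0, 3, 3, 1, 1, 2, 0, 2, 2, 0, 0, 3, 1, 3], [1, 1, 3, 1, 3, 3, 1, 3, 3, 0, 0, 2, 1, 3, 0, 3, 3, 0, 0, 3, 1, 3, 1, 2], [1, 1, 3, 1, 3, 3, 1, 2, 1, 2, 1, 1, 2, 0, 3, 0, 3, 3, 3, 3, 3, 0, 0, 2], [1, 1, 3, 1, 3, 3, 1, 2, 1, 2, 1, 3, 0, 2, 0, 2, 2, 0, 0, 2, 0, 3, 1, 2], [1, 1, 3, 1, 3, 3, 1, 2, 2, 0, 2, 2, 2,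 2, 2, 0, 2, 0, 3, 1, 2, 0, 2, 2], [1, 1, 3, 1, 3, 3, 1, 2, 2, 2, 2, 0, 2, 1, 2, 2, 2, 0, 3, 0, 2, 2, 1, 2], [1, 1, 3, 1, 3, 3, 3, 1, 2, 0, 2, 0, 3, 0, 3, 3, 3, 1, 2, 2, 1, 1, 2, 2], [1, 1, 3, 1, 3, 3, 3, 3, 3, 3, 1, 1, 2, 1, 2, 1, 1, 3, 3, 1, 3, 0, 2, 2], [1, 1, 3, 1, 3, 3, 3, 3, 3, 3, 1, 3, 0, 3, 0, 3, 1, 3, 3, 1, 3, 0, 2, 2], [1, 1, 3, 1, 3, 3, 3, 3, 3, 3, 0, 3, 1, 3, 3, 0, 2, 0, 0, 2, 0, 3, 0, 3], [1, 1, 3, 1, 3, 3, 3, 0, 3, 0, 3, 1, 2, 0, 3, 0, 3, 3, 3, 3, 3, 0, 0, 2], [1, 1, 3, 1, 3, 3, 3, 0, 3, 0, 3, 3, 0, 2, 0, 2, 2, 0, 0, 2, 0, 3, 1, 2], [1, 1, 3, 1, 3, 3, 0, 3, 1, 3, 3, 3, 0, 3, 1, 1, 3, 0, 2, 2, 1, 3, 0, 3], [1,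 1, 3, 1, 3, 3, 0, 0, 3, 3, 1, 3, 1, 2, 0, 3, 0, 3, 0, 3, 3, 1, 1, 2], [1, 1, 3, 1, 3, 3, 0, 2, 1, 3, 3, 1, 1, 2, 2, 0, 0, 2, 2, 2, 0, 0, 3, 3], [1, 1, 3, 1, 3, 3, 0, 2, 2, 1, 1, 2, 0, 3, 1, 2, 0, 2, 2, 1, 1, 3, 0, 2], [1, 1, 3, 1, 3, 0, 3, 1, 1, 2, 1, 1, 2, 1, 3, 0, 0, 3, 0, 3, 0, 3, 1, 3], [1, 1, 3, 1, 3, 0, 3, 1, 3, 1, 1, 3, 0, 2, 0, 3, 3, 3, 3, 1, 1, 3, 3, 3], [1, 1, 3, 1, 3, 0, 3, 1, 3, 0, 0, 2, 1, 3, 0, 0, 3, 0, 3, 3, 1, 2, 0, 2], [1, 1, 3, 1, 3, 0, 3, 3, 1, 3, 0, 2, 0, 3, 3, 1, 1, 2, 1, 1, 3, 0, 3, 3], [1, 1, 3, 1, 3, 0, 3, 3, 1, 2, 2, 2, 1, 2, 2, 1, 2, 0, 3, 1, 2, 2, 2, 2], [1, 1, 3, 1, 3, 0, 3, 0, 2, 0, 3, 3, 1,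 3, 0, 3, 0, 2, 0, 2, 2, 0, 3, 3], [1, 1, 3, 1, 3, 0, 0, 2, 2, 1, 2, 1, 3, 3, 3, 3, 0, 2, 1, 3, 3, 3, 3, 3], [1, 1, 3, 1, 3, 0, 2, 0, 3, 3, 1, 2, 2, 0, 2, 1, 3, 0, 2, 2, 2, 2, 0, 2], [1, 1, 3, 1, 3, 0, 2, 0, 2, 2, 2, 2, 2, 1, 2, 1, 3, 0, 3, 1, 3, 1, 3, 3], [1, 1, 3, 1, 3, 0, 2, 2, 2, 1, 3, 3, 3, 0, 0, 2, 2, 0, 0, 2, 1, 3, 3, 3], [1, 1, 3, 1, 2, 1, 1, 3, 3, 3, 0, 0, 2, 1, 2, 0, 3, 1, 2, 2, 1, 2, 1, 3], [1, 1, 3, 1, 2, 1, 1, 3, 0, 2, 0, 0, 2, 2, 1, 2, 2, 1, 2, 2, 2, 0, 2, 2], [1, 1, 3, 1, 2, 1, 3, 0, 2, 1, 3, 1, 2, 1, 2, 0, 3, 0, 2, 0, 3, 1, 3, 3], [1, 1, 3, 1, 2, 1, 2, 0, 3, 0, 3, 0, 0, 2, 1, 1, 3, 0, 2, 2, 0, 3, 0, 3], [1,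 1, 3, 1, 2, 1, 2, 2, 1, 2, 1, 2, 0, 2, 1, 1, 3, 0, 2, 2, 0, 3, 0, 3], [1, 1, 3, 1, 2, 0, 3, 1, 2, 2, 2, 1, 3, 3, 1, 3, 0, 2, 0, 2, 1, 1, 2, 2], [1, 1, 3, 1, 2, 0, 3, 3, 1, 2, 0, 3, 1, 2, 2, 1, 2, 2, 1, 3, 3, 0, 2, 2], [1, 1, 3, 1, 2, 0, 3, 3, 3, 1, 2, 1, 3, 0, 3, 1, 2, 0, 0, 2, 2, 0, 0, 3], [1, 1, 3, 1, 2, 0, 3, 0, 0, 3, 1, 2, 1, 2, 0, 3, 0, 0, 3, 1, 3, 1, 3, 3], [1, 1, 3, 1, 2, 2, 1, 1, 2, 2, 1, 2, 1, 3, 1, 2, 0, 3, 1, 1, 3, 3, 0, 2], [1, 1, 3, 1, 2, 2, 1, 3, 0, 3, 0, 2, 1, 2, 0, 3, 3, 1, 3, 3, 3, 3, 1, 2], [1, 1, 3, 1, 2, 2, 1, 2, 2, 0, 0, 3, 1, 2, 1, 2, 1, 3, 3, 3, 0, 2, 2, 2], [1, 1, 3, 1, 2, 2, 1, 2, 2, 0, 0, 3, 3,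 0, 3, 0, 3, 3, 3, 3, 0, 2, 2, 2], [1, 1, 3, 1, 2, 2, 0, 2, 2, 1, 3, 0, 2, 2, 2, 2, 0, 2, 1, 2, 0, 2, 2, 2], [1, 1, 3, 1, 2, 2, 2, 0, 3, 0, 0, 2, 2, 1, 3, 1, 3, 3, 3, 3, 0, 3, 1, 3], [1, 1, 3, 1, 2, 2, 2, 0, 3, 0, 2, 0, 2, 2, 2, 0, 0, 2, 1, 2, 2, 2, 0, 3], [1, 1, 3, 1, 2, 2, 2, 0, 0, 3, 0, 3, 0, 3, 1, 2, 2, 1, 1, 2, 0, 2, 1, 3], [1, 1, 3, 1, 2, 2, 2, 0, 0, 2, 0, 3, 1, 2, 1, 2, 2, 0, 0, 3, 1, 1, 3, 3], [1, 1, 3, 3, 1, 1, 3, 3, 3, 0, 0, 3, 1, 3, 1, 1, 2, 2, 2, 1, 3, 0, 0, 2], [1, 1, 3, 3, 1, 1, 3, 0, 2, 1, 1, 2, 1, 1, 3, 3, 1, 1, 3, 0, 2, 1, 1, 2], [1, 1, 3, 3, 1, 1, 2, 2, 2, 0, 0, 3, 3, 3, 3, 3, 0, 2, 2, 2, 0, 3, 1, 3], [1,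 1, 3, 3, 1, 3, 1, 1, 2, 2, 1, 3, 1, 1, 3, 3, 1, 3, 1, 1, 2, 2, 1, 3], [1, 1, 3, 3, 1, 3, 3, 1, 2, 1, 2, 2, 0, 0, 3, 3, 3, 3, 3, 1, 2, 1, 3, 3], [1, 1, 3, 3, 1, 3, 3, 1, 2, 2, 1, 2, 2, 0, 2, 0, 3, 1, 1, 3, 0, 3, 0, 2], [1, 1, 3, 3, 1, 3, 3, 3, 3, 0, 0, 2, 1, 1, 3, 0, 3, 3, 0, 0, 3, 3, 3, 3], [1, 1, 3, 3, 1, 3, 3, 3, 0, 0, 2, 0, 2, 1, 3, 0, 3, 3, 0, 3, 3, 0, 2, 2], [1, 1, 3, 3, 1, 3, 3, 0, 2, 0, 3, 0, 3, 3, 0, 3, 1, 3, 1, 1, 2, 2, 1, 2], [1, 1, 3, 3, 1, 3, 0, 2, 1, 3, 3, 3, 3, 1, 1, 3, 0, 0, 3, 3, 3, 0, 0, 2], [1, 1, 3, 3, 1, 2, 1, 3, 1, 2, 0, 0, 3, 1, 2, 2, 0, 2, 2, 2, 2, 0, 0, 3], [1, 1, 3, 3, 1, 2, 0, 3, 1, 2, 0, 2, 1,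 3, 1, 2, 0, 0, 2, 1, 3, 3, 3, 3], [1, 1, 3, 3, 1, 2, 0, 2, 2, 2, 1, 1, 3, 3, 3, 1, 1, 2, 0, 0, 3, 3, 1, 2], [1, 1, 3, 3, 1, 2, 2, 0, 3, 0, 3, 1, 3, 3, 1, 2, 2, 0, 3, 3, 1, 1, 2, 2], [1, 1, 3, 3, 1, 2, 2, 0, 0, 3, 1, 3, 3, 0, 2, 2, 1, 3, 0, 3, 1, 3, 1, 3], [1, 1, 3, 3, 1, 2, 2, 2, 0, 2, 2, 2, 0, 0, 2, 1, 2, 0, 0, 2, 0, 2, 0, 3], [1, 1, 3, 3, 1, 2, 2, 2, 2, 2, 1, 2, 0, 3, 1, 1, 2, 1, 3, 3, 3, 3, 3, 3], [1, 1, 3, 3, 3, 1, 2, 1, 3, 0, 0, 3, 1, 2, 1, 1, 2, 2, 1, 1, 2, 2, 1, 2], [1, 1, 3, 3, 3, 1, 2, 0, 0, 2, 0, 2, 1, 2, 2, 0, 3, 1, 2, 1, 1, 2, 1, 2], [1, 1, 3, 3, 3, 1, 2, 0, 2, 1, 2, 1, 1, 3, 0, 0, 3, 0, 2, 2, 1, 3, 0, 2], [1,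 1, 3, 3, 3, 1, 2, 2, 2, 1, 2, 1, 3, 3, 3, 3, 3, 1, 2, 1, 3, 0, 2, 2], [1, 1, 3, 3, 3, 3, 1, 1, 3, 3, 3, 3, 1, 1, 3, 3, 3, 3, 1, 1, 3, 3, 3, 3], [1, 1, 3, 3, 3, 3, 3, 1, 2, 0, 3, 1, 1, 2, 1, 2, 1, 1, 2, 1, 3, 3, 3, 3], [1, 1, 3, 3, 3, 3, 3, 1, 2, 0, 3, 1, 3, 0, 3, 0, 3, 1, 2, 1, 3, 3, 3, 3], [1, 1, 3, 3, 3, 3, 0, 2, 2, 2, 2, 1, 2, 2, 2, 0, 3, 3, 1, 3, 1, 2, 2, 2], [1, 1, 3, 3, 3, 0, 3, 3, 0, 2, 2, 0, 2, 2, 0, 3, 1, 1, 3, 0, 0, 2, 2, 2], [1, 1, 3, 3, 3, 0, 0, 2, 0, 3, 3, 1, 3, 1, 3, 3, 0, 2, 2, 1, 2, 1, 3, 3], [1, 1, 3, 3, 3, 0, 0, 2, 0, 3, 0, 3, 1, 2, 1, 3, 3, 3, 1, 1, 3, 3, 0, 3], [1, 1, 3, 3, 3, 0, 0, 2, 2, 1, 1, 3, 3,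 0, 3, 0, 0, 2, 2, 1, 2, 0, 3, 3], [1, 1, 3, 3, 3, 0, 2, 1, 3, 3, 3, 3, 0, 0, 2, 0, 2, 2, 0, 2, 2, 2, 1, 2], [1, 1, 3, 3, 3, 0, 2, 1, 3, 0, 2, 2, 0, 3, 1, 3, 1, 1, 2, 0, 2, 2, 1, 3], [1, 1, 3, 3, 3, 0, 2, 0, 2, 1, 3, 0, 0, 2, 2, 2, 2, 2, 2, 2, 2, 1, 1, 2], [1, 1, 3, 3, 3, 0, 2, 2, 1, 2, 2, 2, 0, 2, 1, 1, 2, 1, 1, 3, 0, 3, 1, 3], [1, 1, 3, 3, 0, 3, 1, 1, 2, 1, 3, 0, 2, 1, 3, 0, 0, 3, 0, 0, 3, 1, 3, 3], [1, 1, 3, 3, 0, 3, 1, 1, 2, 1, 2, 0, 3, 0, 2, 1, 1, 2, 0, 2, 2, 2, 2, 2], [1, 1, 3, 3, 0, 3, 1, 3, 1, 3, 0, 2, 1, 2, 2, 2, 1, 2, 1, 3, 0, 2, 0, 2], [1, 1, 3, 3, 0, 3, 1, 3, 1, 2, 2, 0, 0, 2, 1, 1, 3, 0, 0, 3, 1, 3, 3, 3], [1,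 1, 3, 3, 0, 3, 1, 3, 3, 0, 3, 3, 1, 1, 3, 3, 0, 3, 1, 3, 3, 0, 3, 3], [1, 1, 3, 3, 0, 3, 1, 2, 1, 3, 3, 1, 2, 0, 3, 3, 0, 3, 1, 3, 1, 2, 0, 3], [1, 1, 3, 3, 0, 3, 3, 1, 3, 1, 2, 0, 3, 1, 3, 0, 3, 3, 1, 3, 3, 3, 0, 2], [1, 1, 3, 3, 0, 3, 3, 0, 3, 3, 0, 3, 1, 1, 3, 3, 0, 3, 3, 0, 3, 3, 0, 3], [1, 1, 3, 3, 0, 0, 3, 1, 2, 2, 0, 0, 3, 0, 3, 3, 3, 1, 1, 2, 1, 2, 1, 2], [1, 1, 3, 3, 0, 0, 3, 0, 3, 1, 2, 0, 2, 0, 2, 1, 3, 1, 2, 2, 1, 3, 1, 2], [1, 1, 3, 3, 0, 0, 3, 0, 0, 2, 2, 2, 0, 2, 2, 0, 2, 2, 1, 1, 2, 0, 0, 2], [1, 1, 3, 3, 0, 2, 1, 3, 3, 0, 3, 1, 2, 1, 3, 1, 3, 3, 1, 3, 0, 2, 0, 3], [1, 1, 3, 3, 0, 2, 1, 2, 0, 3, 1, 3, 3,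 1, 2, 0, 2, 2, 1, 1, 2, 0, 2, 2], [1, 1, 3, 3, 0, 2, 0, 3, 1, 1, 3, 0, 2, 1, 3, 3, 1, 3, 1, 3, 3, 3, 3, 3], [1, 1, 3, 3, 0, 2, 0, 3, 1, 2, 0, 3, 1, 3, 0, 2, 2, 1, 1, 3, 0, 3, 0, 3], [1, 1, 3, 3, 0, 2, 0, 2, 2, 2, 2, 1, 2, 1, 1, 2, 1, 3, 1, 2, 1, 1, 2, 2], [1, 1, 3, 3, 0, 2, 2, 1, 3, 3, 3, 0, 3, 0, 0, 2, 2, 1, 2, 0, 3, 3, 0, 2], [1, 1, 3, 3, 0, 2, 2, 0, 2, 0, 2, 1, 3, 0, 2, 1, 3, 0, 2, 1, 3, 0, 0, 2], [1, 1, 3, 0, 3, 1, 3, 1, 2, 0, 3, 0, 2, 1, 2, 0, 3, 1, 3, 0, 3, 3, 0, 3], [1, 1, 3, 0, 3, 1, 3, 3, 3, 3, 1, 2, 1, 2, 2, 2, 0, 2, 2, 0, 2, 0, 2, 2], [1, 1, 3, 0, 3, 1, 3, 3, 3, 0, 0, 3, 0, 0, 3, 0, 2, 2, 1, 2, 0, 2, 0, 3], [1,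 1, 3, 0, 3, 1, 3, 3, 0, 3, 1, 3, 1, 1, 3, 0, 3, 1, 3, 3, 0, 3, 1, 3], [1, 1, 3, 0, 3, 1, 3, 0, 0, 2, 0, 3, 1, 1, 2, 1, 3, 1, 2, 0, 0, 2, 2, 2], [1, 1, 3, 0, 3, 1, 2, 1, 2, 2, 1, 1, 3, 0, 0, 3, 1, 3, 3, 1, 2, 0, 0, 3], [1, 1, 3, 0, 3, 1, 2, 2, 1, 3, 0, 0, 2, 2, 1, 1, 2, 0, 2, 2, 2, 2, 2, 2], [1, 1, 3, 0, 3, 1, 2, 2, 1, 2, 0, 0, 2, 2, 2, 2, 2, 1, 2, 0, 3, 0, 0, 3], [1, 1, 3, 0, 3, 3, 3, 1, 2, 0, 2, 0, 2, 2, 1, 3, 3, 1, 3, 3, 3, 3, 3, 3], [1, 1, 3, 0, 3, 3, 3, 3, 1, 1, 3, 0, 0, 3, 0, 3, 1, 3, 3, 3, 3, 1, 1, 2], [1, 1, 3, 0, 3, 3, 3, 0, 2, 2, 1, 1, 3, 0, 0, 2, 1, 3, 0, 3, 0, 0, 3, 3], [1, 1, 3, 0, 3, 0, 3, 1, 2, 2, 1, 2, 0,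 2, 2, 2, 0, 3, 0, 0, 3, 3, 0, 2], [1, 1, 3, 0, 3, 0, 3, 3, 3, 0, 2, 1, 1, 2, 1, 2, 2, 2, 1, 3, 3, 3, 3, 3], [1, 1, 3, 0, 3, 0, 3, 0, 3, 1, 2, 0, 2, 1, 3, 3, 0, 0, 2, 2, 1, 3, 0, 3], [1, 1, 3, 0, 3, 0, 2, 1, 3, 1, 1, 3, 0, 0, 2, 2, 2, 1, 1, 3, 0, 2, 0, 3], [1, 1, 3, 0, 3, 0, 2, 1, 3, 3, 3, 0, 3, 1, 2, 1, 3, 0, 2, 1, 1, 2, 1, 2], [1, 1, 3, 0, 3, 0, 2, 1, 3, 0, 3, 3, 3, 0, 2, 2, 2, 0, 3, 3, 1, 2, 0, 2], [1, 1, 3, 0, 3, 0, 2, 1, 2, 2, 1, 3, 0, 2, 0, 3, 0, 3, 3, 1, 2, 2, 1, 3], [1, 1, 3, 0, 3, 0, 2, 0, 2, 1, 2, 1, 3, 0, 2, 0, 3, 1, 3, 1, 2, 0, 0, 2], [1, 1, 3, 0, 3, 0, 2, 0, 2, 0, 3, 0, 3, 0, 3, 3, 3, 3, 3, 3, 0, 3, 0, 3], [1,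 1, 3, 0, 0, 3, 1, 3, 1, 3, 3, 3, 0, 0, 2, 1, 3, 0, 0, 3, 3, 3, 3, 3], [1, 1, 3, 0, 0, 3, 3, 1, 2, 0, 0, 2, 0, 2, 0, 3, 1, 3, 3, 3, 3, 3, 0, 3], [1, 1, 3, 0, 0, 3, 3, 3, 1, 2, 1, 3, 1, 3, 3, 3, 3, 0, 3, 3, 3, 0, 3, 3], [1, 1, 3, 0, 0, 3, 3, 3, 0, 2, 0, 3, 1, 3, 3, 1, 3, 1, 3, 3, 3, 3, 1, 3], [1, 1, 3, 0, 0, 3, 0, 2, 1, 3, 0, 3, 3, 1, 3, 3, 0, 0, 2, 2, 2, 1, 1, 2], [1, 1, 3, 0, 0, 3, 0, 2, 0, 2, 2, 0, 3, 3, 3, 1, 3, 3, 3, 0, 0, 2, 0, 2], [1, 1, 3, 0, 0, 2, 0, 2, 2, 2, 1, 2, 2, 2, 2, 0, 3, 1, 3, 0, 2, 0, 3, 3], [1, 1, 3, 0, 2, 1, 1, 3, 0, 2, 2, 0, 2, 1, 2, 1, 3, 1, 3, 0, 2, 1, 3, 3], [1, 1, 3, 0, 2, 1, 1, 2, 0, 2, 0, 3, 3,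 3, 3, 3, 3, 3, 0, 3, 3, 0, 0, 3], [1, 1, 3, 0, 2, 1, 3, 3, 1, 2, 0, 3, 0, 0, 2, 2, 2, 2, 2, 1, 3, 0, 0, 2], [1, 1, 3, 0, 2, 1, 3, 0, 0, 2, 1, 1, 2, 0, 2, 1, 3, 3, 3, 1, 3, 0, 2, 2], [1, 1, 3, 0, 2, 1, 2, 0, 3, 3, 3, 3, 0, 3, 1, 1, 2, 0, 3, 1, 3, 3, 1, 3], [1, 1, 3, 0, 2, 1, 2, 2, 2, 2, 2, 2, 0, 3, 0, 2, 1, 3, 3, 3, 0, 0, 2, 2], [1, 1, 3, 0, 2, 0, 3, 3, 1, 3, 3, 3, 0, 2, 2, 1, 3, 1, 3, 1, 2, 0, 0, 3], [1, 1, 3, 0, 2, 0, 3, 3, 3, 1, 2, 2, 1, 3, 3, 0, 0, 3, 0, 2, 0, 3, 1, 3], [1, 1, 3, 0, 2, 0, 3, 0, 0, 3, 0, 3, 3, 1, 1, 2, 1, 3, 3, 3, 3, 1, 2, 2], [1, 1, 3, 0, 2, 0, 2, 1, 3, 1, 3, 3, 0, 3, 1, 2, 2, 0, 2, 1, 3, 0, 3, 3], [1,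 1, 3, 0, 2, 0, 2, 1, 3, 3, 0, 2, 2, 2, 1, 3, 1, 1, 2, 2, 1, 3, 0, 3], [1, 1, 3, 0, 2, 0, 2, 2, 0, 2, 2, 0, 2, 2, 2, 1, 1, 2, 1, 3, 0, 2, 2, 2], [1, 1, 3, 0, 2, 2, 0, 3, 1, 2, 0, 3, 0, 0, 3, 0, 2, 2, 1, 2, 2, 2, 2, 2], [1, 1, 3, 0, 2, 2, 0, 2, 1, 2, 2, 2, 1, 3, 3, 1, 3, 3, 3, 3, 0, 2, 2, 2], [1, 1, 3, 0, 2, 2, 0, 2, 0, 3, 1, 2, 1, 3, 1, 3, 0, 0, 3, 3, 0, 3, 0, 2], [1, 1, 3, 0, 2, 2, 2, 0, 2, 1, 2, 1, 2, 0, 3, 0, 2, 1, 3, 3, 0, 3, 1, 3], [1, 1, 3, 0, 2, 2, 2, 2, 2, 1, 3, 3, 1, 3, 3, 1, 2, 2, 2, 2, 1, 3, 1, 2], [1, 1, 2, 1, 1, 2, 1, 1, 2, 1, 1, 2, 1, 1, 2, 1, 1, 2, 1, 1, 2, 1, 1, 2], [1, 1, 2, 1, 1, 2, 1, 3, 3, 0, 2, 2, 2,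 2, 0, 2, 2, 1, 1, 2, 2, 1, 3, 3], [1, 1, 2, 1, 1, 2, 0, 3, 0, 3, 1, 3, 3, 1, 2, 1, 2, 0, 3, 1, 3, 3, 1, 3], [1, 1, 2, 1, 1, 2, 0, 2, 0, 3, 3, 0, 0, 2, 1, 1, 2, 2, 0, 2, 0, 3, 0, 2], [1, 1, 2, 1, 3, 1, 3, 0, 0, 2, 0, 3, 3, 0, 2, 2, 0, 3, 0, 2, 0, 2, 0, 2], [1, 1, 2, 1, 3, 1, 2, 1, 2, 1, 1, 2, 2, 2, 1, 2, 1, 3, 1, 3, 0, 2, 1, 2], [1, 1, 2, 1, 3, 3, 1, 3, 1, 2, 1, 1, 2, 0, 3, 0, 3, 3, 0, 3, 3, 0, 2, 2], [1, 1, 2, 1, 3, 3, 3, 3, 1, 3, 3, 3, 3, 1, 3, 3, 0, 3, 1, 2, 2, 0, 2, 2], [1, 1, 2, 1, 3, 3, 0, 3, 0, 3, 1, 2, 2, 2, 1, 2, 1, 3, 1, 3, 0, 2, 1, 2], [1, 1, 2, 1, 3, 3, 0, 0, 3, 1, 3, 1, 2, 1, 2, 2, 2, 2, 1, 1, 2, 2, 0, 3], [1,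 1, 2, 1, 3, 3, 0, 0, 3, 1, 2, 0, 3, 1, 3, 0, 2, 1, 1, 2, 0, 3, 1, 2], [1, 1, 2, 1, 3, 3, 0, 0, 2, 1, 3, 3, 0, 3, 1, 3, 0, 2, 0, 2, 1, 3, 1, 2], [1, 1, 2, 1, 3, 3, 0, 2, 1, 2, 0, 3, 3, 3, 0, 2, 0, 2, 2, 2, 2, 2, 1, 3], [1, 1, 2, 1, 3, 0, 3, 0, 2, 2, 2, 1, 3, 0, 3, 3, 1, 3, 1, 2, 0, 3, 1, 3], [1, 1, 2, 1, 3, 0, 2, 1, 2, 1, 3, 0, 2, 0, 3, 3, 0, 2, 1, 2, 0, 3, 3, 3], [1, 1, 2, 1, 3, 0, 2, 2, 1, 3, 1, 3, 3, 0, 2, 1, 2, 0, 3, 3, 0, 3, 0, 3], [1, 1, 2, 1, 2, 1, 3, 1, 3, 0, 3, 3, 1, 2, 0, 3, 3, 0, 3, 3, 0, 0, 2, 2], [1, 1, 2, 1, 2, 0, 2, 0, 3, 1, 3, 0, 2, 1, 2, 2, 2, 2, 0, 2, 2, 1, 3, 3], [1, 1, 2, 1, 2, 2, 0, 2, 2, 1, 2, 1, 2,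 1, 3, 0, 2, 2, 2, 2, 0, 2, 2, 2], [1, 1, 2, 1, 2, 2, 2, 1, 2, 0, 2, 1, 3, 0, 3, 0, 3, 0, 2, 2, 1, 2, 0, 2], [1, 1, 2, 1, 2, 2, 2, 1, 2, 2, 2, 2, 1, 3, 3, 1, 2, 0, 2, 0, 2, 2, 1, 3], [1, 1, 2, 1, 2, 2, 2, 2, 1, 3, 3, 0, 0, 2, 0, 3, 0, 2, 0, 3, 1, 3, 1, 3], [1, 1, 2, 1, 2, 2, 2, 2, 2, 1, 3, 0, 3, 3, 3, 0, 3, 0, 2, 2, 2, 0, 3, 3], [1, 1, 2, 0, 3, 3, 1, 3, 1, 3, 1, 2, 2, 0, 3, 1, 2, 0, 2, 0, 2, 2, 0, 2], [1, 1, 2, 0, 3, 3, 1, 3, 3, 3, 0, 0, 3, 3, 3, 1, 3, 3, 1, 3, 0, 2, 0, 3], [1, 1, 2, 0, 3, 3, 1, 2, 1, 3, 1, 3, 0, 3, 0, 3, 0, 2, 0, 3, 3, 3, 0, 3], [1, 1, 2, 0, 3, 3, 3, 1, 3, 1, 3, 0, 3, 3, 3, 0, 2, 1, 2, 1, 3, 0, 3, 3], [1,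 1, 2, 0, 3, 3, 3, 3, 0, 3, 1, 3, 3, 3, 3, 3, 3, 0, 2, 2, 1, 3, 1, 2], [1, 1, 2, 0, 3, 0, 2, 0, 3, 3, 0, 3, 1, 3, 3, 1, 2, 0, 2, 1, 3, 3, 3, 3], [1, 1, 2, 0, 2, 1, 1, 2, 2, 1, 3, 3, 3, 1, 3, 3, 3, 1, 2, 2, 2, 2, 1, 3], [1, 1, 2, 0, 2, 1, 1, 2, 2, 2, 1, 3, 3, 1, 3, 3, 0, 3, 0, 2, 1, 2, 0, 3], [1, 1, 2, 0, 2, 1, 3, 0, 3, 3, 0, 0, 3, 0, 2, 2, 0, 2, 1, 3, 3, 0, 2, 2], [1, 1, 2, 0, 2, 1, 2, 2, 1, 2, 0, 2, 1, 3, 3, 1, 2, 0, 2, 2, 2, 1, 2, 2], [1, 1, 2, 0, 2, 0, 2, 0, 3, 0, 2, 1, 2, 0, 2, 1, 3, 0, 3, 3, 3, 0, 3, 3], [1, 1, 2, 0, 2, 0, 2, 2, 2, 0, 3, 0, 2, 1, 3, 3, 3, 3, 3, 0, 3, 3, 0, 2], [1, 1, 2, 0, 2, 2, 0, 3, 3, 3, 1, 2, 1,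 1, 2, 0, 2, 2, 0, 3, 3, 3, 1, 2], [1, 1, 2, 2, 1, 1, 2, 2, 1, 3, 3, 3, 0, 3, 0, 2, 0, 3, 3, 0, 2, 2, 1, 2], [1, 1, 2, 2, 1, 3, 1, 1, 2, 2, 2, 0, 3, 1, 1, 2, 2, 0, 2, 1, 3, 1, 3, 3], [1, 1, 2, 2, 1, 2, 2, 1, 3, 0, 2, 2, 1, 2, 0, 2, 2, 1, 2, 1, 2, 0, 3, 3], [1, 1, 2, 2, 0, 3, 3, 3, 3, 3, 1, 2, 2, 2, 2, 2, 1, 3, 3, 3, 1, 3, 1, 2], [1, 1, 2, 2, 0, 2, 2, 2, 2, 1, 2, 0, 2, 1, 3, 1, 3, 0, 3, 3, 1, 2, 0, 2], [1, 1, 2, 2, 2, 1, 3, 3, 1, 3, 3, 0, 3, 1, 3, 3, 1, 3, 3, 1, 3, 3, 3, 3], [1, 1, 2, 2, 2, 1, 3, 3, 3, 3, 0, 0, 2, 2, 0, 2, 1, 3, 3, 3, 0, 3, 0, 2], [1, 1, 2, 2, 2, 0, 2, 2, 1, 3, 3, 3, 0, 2, 1, 3, 3, 0, 3, 1, 2, 1, 2, 2], [1,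 1, 2, 2, 2, 2, 0, 2, 1, 2, 0, 2, 0, 3, 1, 3, 0, 3, 3, 3, 1, 3, 1, 3], [1, 1, 2, 2, 2, 2, 2, 0, 3, 3, 1, 2, 2, 1, 3, 3, 3, 3, 3, 3, 1, 3, 3, 3], [1, 1, 2, 2, 2, 2, 2, 0, 3, 0, 3, 1, 2, 1, 3, 3, 3, 0, 3, 1, 2, 2, 0, 2], [1, 3, 1, 3, 1, 3, 0, 2, 1, 3, 1, 2, 2, 2, 1, 2, 0, 2, 1, 2, 2, 1, 2, 2], [1, 3, 1, 3, 1, 2, 1, 2, 1, 2, 0, 3, 3, 3, 1, 3, 3, 3, 3, 1, 2, 2, 1, 2], [1, 3, 1, 3, 3, 3, 3, 0, 3, 0, 2, 2, 0, 2, 2, 2, 2, 0, 3, 3, 1, 3, 3, 3], [1, 3, 1, 3, 3, 0, 3, 0, 2, 0, 2, 1, 3, 0, 2, 1, 2, 2, 2, 2, 0, 3, 0, 2], [1, 3, 1, 3, 0, 3, 3, 0, 3, 1, 3, 3, 3, 0, 3, 1, 2, 0, 2, 2, 2, 0, 3, 3], [1, 3, 1, 3, 0, 3, 3, 0, 2, 1, 2, 1, 2,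 1, 3, 3, 0, 2, 1, 2, 2, 2, 0, 3], [1, 3, 1, 3, 0, 3, 0, 2, 0, 2, 2, 2, 2, 1, 2, 2, 1, 2, 1, 3, 3, 1, 3, 3], [1, 3, 1, 3, 0, 2, 2, 0, 2, 2, 1, 2, 2, 1, 2, 2, 1, 3, 3, 3, 0, 2, 2, 2], [1, 3, 1, 2, 1, 2, 1, 3, 0, 3, 1, 3, 3, 3, 0, 3, 1, 3, 1, 2, 0, 3, 1, 2], [1, 3, 1, 2, 0, 3, 1, 2, 1, 3, 3, 0, 3, 0, 3, 3, 0, 3, 1, 3, 3, 3, 0, 3], [1, 3, 3, 1, 2, 0, 3, 0, 2, 1, 2, 2, 1, 3, 3, 1, 2, 0, 3, 0, 2, 1, 2, 2], [1, 3, 3, 1, 2, 2, 0, 3, 1, 3, 0, 3, 1, 3, 3, 1, 2, 2, 0, 3, 1, 3, 0, 3], [1, 3, 3, 1, 2, 2, 2, 0, 3, 3, 0, 2, 1, 3, 3, 1, 2, 2, 2, 0, 3, 3, 0, 2], [1, 3, 3, 3, 1, 2, 1, 2, 2, 0, 2, 2, 2, 2, 1, 2, 0, 3, 1, 3, 3, 3, 0, 2], [1,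 3, 3, 3, 3, 3, 3, 3, 3, 1, 3, 3, 0, 3, 0, 2, 1, 2, 2, 1, 2, 2, 2, 2], [1, 3, 3, 3, 0, 3, 1, 2, 1, 3, 0, 2, 1, 3, 0, 3, 0, 3, 1, 3, 0, 3, 0, 2], [1, 3, 3, 0, 2, 2, 1, 2, 1, 3, 3, 0, 2, 2, 1, 2, 1, 3, 3, 0, 2, 2, 1, 2], [2, 2, 2, 2, 2, 2, 2, 2, 2, 2, 2, 2, 2, 2, 2, 2, 2, 2, 2, 2, 2, 2, 2], [4, 4, 4, 4, 4, 4, 4, 4, 4, 4, 4], [4, 0, 5, 2, 2, 1, 1, 1, 3, 3], [4, 1, 5, 2, 2, 0, 0, 0, 3, 3], [4, 3, 3, 3, 3, 1, 2, 2, 1, 2, 5, 2, 0, 2, 1, 3, 1, 3, 0, 0, 0, 2, 0, 3], [4, 3, 0, 3, 3, 0, 2, 2, 2, 2, 5, 2, 1, 3, 1, 1, 1, 2, 0, 2, 0, 3, 1, 3], [4, 3, 0, 2, 1, 1, 2, 0, 2, 1, 3, 1, 2, 5, 2, 1, 3, 1, 3, 1, 1, 2, 2, 2], [4, 3, 0, 2, 0, 3,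 1, 3, 0, 0, 3, 1, 2, 5, 3, 3, 3, 0, 0, 2, 0, 2, 0, 3], [4, 2, 2, 0, 0, 0, 2, 1, 2, 2, 5, 1, 3, 3, 3, 0, 3, 1, 2, 1, 3, 1, 1, 1, 3, 1], [4, 3, 3, 0, 3, 1, 1, 1, 3, 3, 5, 0, 2, 0, 0, 0, 2, 0, 3, 0, 2, 1, 2, 2, 2, 0]]

/-- the inverse pair words -/
def pairL : List (List ℕ) := [[0, 1], [1, 0], [2, 3], [3, 2], [4, 5], [5, 4]]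

/-- the symbol relators -/
def symL : List (List ℕ) := [[4, 1, 1, 3, 5, 2, 2, 1, 3, 3, 4, 1, 1, 2, 5, 2, 2, 1, 3, 3], [4, 1, 1, 3, 5, 2, 2, 0, 3, 3, 4, 0, 0, 2, 5, 2, 2, 1, 3, 3], [4, 3, 3, 3, 1, 3, 3, 0, 0, 3, 3, 5, 0, 2, 2, 1, 2, 0, 2, 2, 1, 3], [5, 1, 2, 4, 1, 5, 1, 3, 4, 1, 1, 2, 2, 0, 3, 3, 0, 2, 2, 0, 2, 0], [5, 3, 3, 1, 4, 0, 0, 5, 2, 4, 3, 0, 2, 2, 1, 3, 1, 1, 2, 1, 3, 1], [4, 0, 4, 3, 3, 4, 1, 3, 3, 5, 3, 0, 3, 3, 0, 2, 1, 1, 2, 1, 2, 2], [4, 3, 1, 2, 2, 0, 3, 5, 2, 1, 3, 3, 1, 3, 1, 2, 1, 2, 1, 3, 3, 0, 2], [5, 3, 1, 3, 4, 1, 1, 5, 1, 3, 5, 1, 2, 1, 1, 3, 3, 0, 3, 1, 2, 0, 2, 1], [5, 5, 3, 3, 0, 0, 0, 3, 1, 5,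 0, 5, 3, 0, 2, 2, 2, 1, 1, 2, 0, 0, 3]]

/-- the other central relators -/
def cenL : List (List ℕ) := [[4, 3, 1, 1, 2, 0, 0, 2, 2, 5, 1, 2, 0, 0, 2, 2, 1, 3, 3, 0, 0, 3, 1, 1, 3, 0], [4, 2, 0, 2, 0, 3, 1, 1, 2, 2, 5, 0, 2, 2, 2, 2, 2, 0, 0, 3, 0, 3, 3, 0, 3, 1], [4, 2, 2, 2, 0, 0, 0, 3, 0, 3, 5, 1, 1, 3, 3, 1, 1, 3, 1, 3, 0, 3, 0, 0, 3, 1], [4, 2, 0, 0, 3, 3, 3, 1, 3, 5, 1, 2, 2, 1, 3, 0, 2, 2, 0, 0, 3, 3, 0, 3], [4, 3, 1, 1, 1, 3, 3, 0, 3, 5, 1, 1, 3, 0, 0, 2, 0, 2, 1, 2, 2, 1, 2, 2, 1], [5, 0, 2, 1, 5, 2, 2, 0, 0, 5, 0, 2, 1, 5, 2, 2, 0, 0], [4, 3, 1, 2, 0, 2, 2, 0, 2, 1, 2, 5, 1, 1, 3, 1, 2, 2, 2, 2, 1, 3, 1, 3, 3],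 [4, 3, 3, 0, 0, 3, 0, 2, 1, 2, 5, 0, 2, 0, 0, 2, 0, 2, 0, 2, 2, 1, 1, 2, 1, 1], [4, 2, 2, 0, 2, 2, 1, 2, 1, 3, 5, 0, 0, 2, 1, 1, 1, 2, 0, 3, 3, 1, 3, 1, 2, 1], [4, 2, 0, 3, 1, 2, 2, 2, 1, 2, 5, 1, 3, 3, 0, 2, 0, 2, 1, 3, 1, 3, 0, 2], [4, 3, 0, 0, 3, 1, 1, 1, 2, 2, 1, 2, 0, 2, 2, 5, 0, 0, 3, 0, 3, 0, 2, 2], [4, 2, 2, 2, 2, 1, 3, 0, 2, 2, 5, 0, 0, 2, 1, 3, 3, 0, 2, 2, 2, 1, 3, 0, 3], [4, 3, 1, 3, 1, 2, 2, 0, 3, 3, 3, 5, 0, 3, 0, 2, 1, 2, 0, 2, 2, 0, 0, 2, 0], [4, 2, 0, 2, 1, 1, 1, 2, 1, 3, 0, 3, 3, 5, 1, 3, 3, 1, 2, 1, 1, 2, 0, 3, 0], [4, 2, 1, 1, 2, 0, 0, 2, 0, 2, 5, 3, 0, 3, 1, 3, 0, 2, 2, 0, 2, 2, 1, 3, 1, 2], [4, 3, 3,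 0, 3, 3, 1, 1, 1, 2, 5, 2, 0, 0, 2, 0, 0, 3, 3, 0, 2, 2, 2, 1, 1, 2], [4, 3, 0, 2, 0, 2, 0, 2, 0, 3, 3, 5, 2, 0, 0, 0, 2, 2, 1, 2, 2, 1, 1, 3, 3], [5, 0, 2, 5, 2, 2, 1, 5, 0, 2, 0, 5, 2, 2, 0, 0, 0], [4, 3, 1, 1, 3, 3, 3, 3, 1, 1, 2, 5, 0, 2, 0, 2, 2, 0, 3, 1, 2, 0, 2, 1, 2, 2], [4, 3, 0, 3, 0, 2, 0, 3, 0, 0, 3, 5, 2, 2, 1, 3, 3, 0, 0, 3, 1, 1, 3, 1, 2, 0], [4, 3, 3, 0, 2, 0, 3, 3, 3, 3, 3, 5, 1, 2, 2, 0, 0, 0, 2, 0, 2, 1, 3, 0, 3, 3], [5, 3, 1, 5, 2, 2, 0, 5, 3, 0, 3, 5, 0, 0, 0, 3, 0, 0, 3, 1, 2, 0, 3], [5, 3, 5, 2, 2, 5, 3, 1, 4, 3, 3, 0, 2, 1, 2, 0, 3, 1, 3, 1, 1, 3, 0], [4, 3, 0, 3, 5, 0, 3, 4, 3, 5, 1, 1, 2, 2, 2,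 1, 2, 0, 2, 1, 1, 3, 1, 3], [1, 1, 1, 1, 1, 1, 3, 0, 3, 0, 3, 0, 3, 0, 3], [1, 1, 1, 1, 1, 1, 1], [1, 1, 3, 0, 3, 3, 1, 3, 3, 1, 1, 3, 0, 3, 3, 1, 3, 3], [1, 2, 1, 2, 1, 2, 1, 2, 1, 2]]

/-- the unit vectors -/
def unitL : List (List ℕ) := [[1, 0, 0, 0, 0, 0, 0, 0, 0], [0, 1, 0, 0, 0, 0, 0, 0, 0], [0, 0, 1, 0, 0, 0, 0, 0, 0], [0, 0, 0, 1, 0, 0, 0, 0, 0], [0, 0, 0, 0, 1, 0, 0, 0, 0], [0, 0, 0, 0, 0, 1, 0, 0, 0], [0, 0, 0, 0, 0, 0, 1, 0, 0], [0, 0, 0, 0, 0, 0, 0, 1, 0], [0, 0, 0, 0, 0, 0, 0, 0, 1]]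

theorem seedCasesB_ok : lall (fun p : List ℕ × List ℕ => (lbeq p.2 (List.replicate 9 0) && lmem p.1 (exactL ++ pairL)) ||
    pmem p (List.zip symL unitL)) seedL = true := by
  decide +kernel

theorem seed_cases : ∀ p ∈ seedL, (p.2 = List.replicate 9 0 ∧ p.1 ∈ exactL ++ pairL) ∨
    p ∈ List.zip symL unitL := by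
  intro p hp
  have h := forall_of_all seedCasesB_ok p hp
  simp only [Bool.or_eq_true, Bool.and_eq_true, lbeq_iff, lmem_iff, pmem_iff] at h
  exact h

theorem relCasesB_ok : lall (fun w : List ℕ => lmem w (exactL ++ pairL) || lmem w (symL ++ cenL)) relL = true := by
  decide +kernel

theorem rel_cases : ∀ w ∈ relL, w ∈ exactL ++ pairL ∨ w ∈ symL ++ cenL := by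
  intro w hw
  have h := forall_of_all relCasesB_ok w hw
  simp only [Bool.or_eq_true, lmem_iff] at h
  exact h

/-- the pairs of words giving the relations, with the difference of their twists -/
def relPairs : List (ℕ × ℕ × List ℕ) := [(5, 885, [0, 0, 2, 0, 29, 0, 0, 0, 0]), (5, 886, [0, 0, 0, 29, 29, 0, 1, 0, 0]), (2, 887, [0, 0, 27, 0, 0, 0, 1, 0, 0]), (5, 888, [0, 0, 1, 2, 29, 0, 1, 0, 0]), (5, 889, [1, 0, 29, 25, 29, 1, 1, 0, 3]), (5, 890, [1, 29, 27, 1, 0, 2, 27, 28, 2]), (6, 891, [29, 0, 27, 5, 29, 1, 28, 29, 1]), (5, 892, [27, 1, 0, 3, 29, 4, 2, 2, 1]), (5, 893, [28, 29, 24, 28, 1, 28, 28, 0, 29]), (6, 894, [27,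 29, 28, 1, 29, 0, 23, 28, 1]), (3, 895, [28, 24, 2, 1, 2, 29, 2, 0, 5])]

/-- check of a relation pair: same relator word, twists differing by `v` -/
noncomputable def relChk (p : ℕ × ℕ × List ℕ) : Bool :=
  match WT.get words p.1, WT.get words p.2.1 with
  | some (wd1, true), some (wd2, true) => decide (wd1 = wd2) && decide (Ev p.2.1 = nadd NN (Ev p.1) p.2.2) &&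
      decide (p.1 < 896) && decide (p.2.1 < 896)
  | _, _ => false

theorem rel_chk : ∀ p ∈ relPairs, relChk p = true := by
  decide +kernel

end Cfsg.Agent.Lib.H27.Co3M.C
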