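import Cfsg.Agent.Lib.H27.Co3M.C.StepsA
import Cfsg.Agent.Lib.H27.Co3M.C.StepsB
import Cfsg.Agent.Lib.H27.Co3M.C.StepsC
import Cfsg.Agent.Lib.H27.Co3M.C.StepsD
import Cfsg.Agent.Lib.H27.Co3M.C.StepsE
import Cfsg.Agent.Lib.H27.Co3M.C.StepsF
import Cfsg.Agent.Lib.H27.Co3M.C.StepsG
import Cfsg.Agent.Lib.H27.Co3M.C.StepsH
import Cfsg.Agent.Lib.H27.Co3M.C.StepsI
import Cfsg.Agent.Lib.H27.Co3M.C.StepsJ
import Cfsg.Agent.Lib.H27.Co3M.C.StepsK
import Cfsg.Agent.Lib.H27.Co3M.C.StepsL
import Cfsg.Agent.Lib.H27.Co3M.C.StepsM
import Cfsg.Agent.Lib.H27.Co3M.C.StepsN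
import Cfsg.Agent.Lib.H27.Co3M.C.StepsO
import Cfsg.Agent.Lib.H27.Co3M.C.StepsP
import Cfsg.Agent.Lib.H27.Co3M.C.StepsQ
import Cfsg.Agent.Lib.H27.Co3M.C.StepsR
import Cfsg.Agent.Lib.H27.Co3M.C.StepsS
import Cfsg.Agent.Lib.H27.Co3M.C.StepsT
import Cfsg.Agent.Lib.H27.Co3M.C.StepsU
import Cfsg.Agent.Lib.H27.Co3M.C.StepsV
import Cfsg.Agent.Lib.H27.Co3M.C.StepsW
import Cfsg.Agent.Lib.H27.Co3M.C.StepsX
import Cfsg.Agent.Lib.H27.Co3M.C.StepsY
import Cfsg.Agent.Lib.H27.Co3M.C.Rows

set_option autoImplicit false
set_option maxRecDepth 100000
set_option maxHeartbeats 0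
set_option Elab.async false

/-! # Running the monomial certificate (generated) -/

namespace Cfsg.Agent.Lib.H27.Co3M.C

open Cfsg.Agent.Lib.H17.CosetCert (BT WT)
open Cfsg.Agent.Lib.H17.MonoCert
open Cfsg.Agent.Lib.H16.G24M
open Cfsg.Agent.Lib.H27.Co3M (lbeq lmem pmem lall nall lbeq_iff lmem_iff pmem_iff forall_of_all forall_lt_of_all)

variable {G Q A : Type*} [Group G] [MulAction G Q] [Group A] [MulAction A Q]
  [SMulCommClass G A Q] (tw : List ℕ → A) (γ : ℕ → G)

theorem run (hfree : ∀ (α β : A) (q : Q), α • q = β • q → α = β)
    (htw : TwOK (nadd NN) (List.replicate 9 0) neq tw) (q0 : Q) (hw : WordsOK Ev tw γ q0 words 861) :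
    Inv F Ev tw γ q0 words 291600 48600 896 := by
  have h0 := inv_zero F Ev tw γ q0 words 861 hw
  have h1 := checkSteps_sound (nadd NN) (List.replicate 9 0) neq F Ev 6 1048576 tw γ hfree htw q0 words 861 hw steps0 0 1 861 1500 731 861 h0 chk0
  have h2 := checkSteps_sound (nadd NN) (List.replicate 9 0) neq F Ev 6 1048576 tw γ hfree htw q0 words 861 hw steps1 1500 731 861 3000 1461 861 h1 chk1
  have h3 := checkSteps_sound (nadd NN) (List.replicate 9 0) neq F Ev 6 1048576 tw γ hfree htw q0 words 861 hw steps2 3000 1461 861 4500 2195 861 h2 chk2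
  have h4 := checkSteps_sound (nadd NN) (List.replicate 9 0) neq F Ev 6 1048576 tw γ hfree htw q0 words 861 hw steps3 4500 2195 861 6000 2932 861 h3 chk3
  have h5 := checkSteps_sound (nadd NN) (List.replicate 9 0) neq F Ev 6 1048576 tw γ hfree htw q0 words 861 hw steps4 6000 2932 861 7500 3667 861 h4 chk4
  have h6 := checkSteps_sound (nadd NN) (List.replicate 9 0) neq F Ev 6 1048576 tw γ hfree htw q0 words 861 hw steps5 7500 3667 861 9000 4401 861 h5 chk5
  have h7 := checkSteps_sound (nadd NN) (List.replicate 9 0) neq F Ev 6 1048576 tw γ hfree htw q0 words 861 hw steps6 9000 4401 861 10500 5137 861 h6 chk6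
  have h8 := checkSteps_sound (nadd NN) (List.replicate 9 0) neq F Ev 6 1048576 tw γ hfree htw q0 words 861 hw steps7 10500 5137 861 12000 5876 861 h7 chk7
  have h9 := checkSteps_sound (nadd NN) (List.replicate 9 0) neq F Ev 6 1048576 tw γ hfree htw q0 words 861 hw steps8 12000 5876 861 13500 6617 861 h8 chk8
  have h10 := checkSteps_sound (nadd NN) (List.replicate 9 0) neq F Ev 6 1048576 tw γ hfree htw q0 words 861 hw steps9 13500 6617 861 15000 7360 861 h9 chk9
  have h11 := checkSteps_sound (nadd NN) (List.replicate 9 0) neq F Ev 6 1048576 tw γ hfree htw q0 words 861 hw steps10 15000 7360 861 16500 8097 861 h10 chk10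
  have h12 := checkSteps_sound (nadd NN) (List.replicate 9 0) neq F Ev 6 1048576 tw γ hfree htw q0 words 861 hw steps11 16500 8097 861 18000 8832 861 h11 chk11
  have h13 := checkSteps_sound (nadd NN) (List.replicate 9 0) neq F Ev 6 1048576 tw γ hfree htw q0 words 861 hw steps12 18000 8832 861 19500 9570 861 h12 chk12
  have h14 := checkSteps_sound (nadd NN) (List.replicate 9 0) neq F Ev 6 1048576 tw γ hfree htw q0 words 861 hw steps13 19500 9570 861 21000 10299 861 h13 chk13
  have h15 := checkSteps_sound (nadd NN) (List.replicate 9 0) neq F Ev 6 1048576 tw γ hfree htw q0 words 861 hw steps14 21000 10299 861 22500 11029 861 h14 chk14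
  have h16 := checkSteps_sound (nadd NN) (List.replicate 9 0) neq F Ev 6 1048576 tw γ hfree htw q0 words 861 hw steps15 22500 11029 861 24000 11763 861 h15 chk15
  have h17 := checkSteps_sound (nadd NN) (List.replicate 9 0) neq F Ev 6 1048576 tw γ hfree htw q0 words 861 hw steps16 24000 11763 861 25500 12494 861 h16 chk16
  have h18 := checkSteps_sound (nadd NN) (List.replicate 9 0) neq F Ev 6 1048576 tw γ hfree htw q0 words 861 hw steps17 25500 12494 861 27000 13228 861 h17 chk17
  have h19 := checkSteps_sound (nadd NN) (List.replicate 9 0) neq F Ev 6 1048576 tw γ hfree htw q0 words 861 hw steps18 27000 13228 861 28500 13963 861 h18 chk18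
  have h20 := checkSteps_sound (nadd NN) (List.replicate 9 0) neq F Ev 6 1048576 tw γ hfree htw q0 words 861 hw steps19 28500 13963 861 30000 14701 861 h19 chk19
  have h21 := checkSteps_sound (nadd NN) (List.replicate 9 0) neq F Ev 6 1048576 tw γ hfree htw q0 words 861 hw steps20 30000 14701 861 31500 15439 861 h20 chk20
  have h22 := checkSteps_sound (nadd NN) (List.replicate 9 0) neq F Ev 6 1048576 tw γ hfree htw q0 words 861 hw steps21 31500 15439 861 33000 16172 861 h21 chk21
  have h23 := checkSteps_sound (nadd NN) (List.replicate 9 0) neq F Ev 6 1048576 tw γ hfree htw q0 words 861 hw steps22 33000 16172 861 34500 16909 861 h22 chk22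
  have h24 := checkSteps_sound (nadd NN) (List.replicate 9 0) neq F Ev 6 1048576 tw γ hfree htw q0 words 861 hw steps23 34500 16909 861 36000 17642 861 h23 chk23
  have h25 := checkSteps_sound (nadd NN) (List.replicate 9 0) neq F Ev 6 1048576 tw γ hfree htw q0 words 861 hw steps24 36000 17642 861 37500 18386 861 h24 chk24
  have h26 := checkSteps_sound (nadd NN) (List.replicate 9 0) neq F Ev 6 1048576 tw γ hfree htw q0 words 861 hw steps25 37500 18386 861 39000 19120 861 h25 chk25
  have h27 := checkSteps_sound (nadd NN) (List.replicate 9 0) neq F Ev 6 1048576 tw γ hfree htw q0 words 861 hw steps26 39000 19120 861 40500 19857 861 h26 chk26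
  have h28 := checkSteps_sound (nadd NN) (List.replicate 9 0) neq F Ev 6 1048576 tw γ hfree htw q0 words 861 hw steps27 40500 19857 861 42000 20593 861 h27 chk27
  have h29 := checkSteps_sound (nadd NN) (List.replicate 9 0) neq F Ev 6 1048576 tw γ hfree htw q0 words 861 hw steps28 42000 20593 861 43500 21335 861 h28 chk28
  have h30 := checkSteps_sound (nadd NN) (List.replicate 9 0) neq F Ev 6 1048576 tw γ hfree htw q0 words 861 hw steps29 43500 21335 861 45000 22071 861 h29 chk29
  have h31 := checkSteps_sound (nadd NN) (List.replicate 9 0) neq F Ev 6 1048576 tw γ hfree htw q0 words 861 hw steps30 45000 22071 861 46500 22811 861 h30 chk30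
  have h32 := checkSteps_sound (nadd NN) (List.replicate 9 0) neq F Ev 6 1048576 tw γ hfree htw q0 words 861 hw steps31 46500 22811 861 48000 23546 861 h31 chk31
  have h33 := checkSteps_sound (nadd NN) (List.replicate 9 0) neq F Ev 6 1048576 tw γ hfree htw q0 words 861 hw steps32 48000 23546 861 49500 24279 861 h32 chk32
  have h34 := checkSteps_sound (nadd NN) (List.replicate 9 0) neq F Ev 6 1048576 tw γ hfree htw q0 words 861 hw steps33 49500 24279 861 51000 25012 861 h33 chk33
  have h35 := checkSteps_sound (nadd NN) (List.replicate 9 0) neq F Ev 6 1048576 tw γ hfree htw q0 words 861 hw steps34 51000 25012 861 52500 25744 861 h34 chk34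
  have h36 := checkSteps_sound (nadd NN) (List.replicate 9 0) neq F Ev 6 1048576 tw γ hfree htw q0 words 861 hw steps35 52500 25744 861 54000 26475 861 h35 chk35
  have h37 := checkSteps_sound (nadd NN) (List.replicate 9 0) neq F Ev 6 1048576 tw γ hfree htw q0 words 861 hw steps36 54000 26475 861 55500 27214 861 h36 chk36
  have h38 := checkSteps_sound (nadd NN) (List.replicate 9 0) neq F Ev 6 1048576 tw γ hfree htw q0 words 861 hw steps37 55500 27214 861 57000 27949 861 h37 chk37
  have h39 := checkSteps_sound (nadd NN) (List.replicate 9 0) neq F Ev 6 1048576 tw γ hfree htw q0 words 861 hw steps38 57000 27949 861 58500 28683 861 h38 chk38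
  have h40 := checkSteps_sound (nadd NN) (List.replicate 9 0) neq F Ev 6 1048576 tw γ hfree htw q0 words 861 hw steps39 58500 28683 861 60000 29421 861 h39 chk39
  have h41 := checkSteps_sound (nadd NN) (List.replicate 9 0) neq F Ev 6 1048576 tw γ hfree htw q0 words 861 hw steps40 60000 29421 861 61500 30158 861 h40 chk40
  have h42 := checkSteps_sound (nadd NN) (List.replicate 9 0) neq F Ev 6 1048576 tw γ hfree htw q0 words 861 hw steps41 61500 30158 861 63000 30893 861 h41 chk41
  have h43 := checkSteps_sound (nadd NN) (List.replicate 9 0) neq F Ev 6 1048576 tw γ hfree htw q0 words 861 hw steps42 63000 30893 861 64500 31627 861 h42 chk42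
  have h44 := checkSteps_sound (nadd NN) (List.replicate 9 0) neq F Ev 6 1048576 tw γ hfree htw q0 words 861 hw steps43 64500 31627 861 66000 32363 861 h43 chk43
  have h45 := checkSteps_sound (nadd NN) (List.replicate 9 0) neq F Ev 6 1048576 tw γ hfree htw q0 words 861 hw steps44 66000 32363 861 67500 33100 861 h44 chk44
  have h46 := checkSteps_sound (nadd NN) (List.replicate 9 0) neq F Ev 6 1048576 tw γ hfree htw q0 words 861 hw steps45 67500 33100 861 69000 33837 861 h45 chk45
  have h47 := checkSteps_sound (nadd NN) (List.replicate 9 0) neq F Ev 6 1048576 tw γ hfree htw q0 words 861 hw steps46 69000 33837 861 70500 34573 861 h46 chk46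
  have h48 := checkSteps_sound (nadd NN) (List.replicate 9 0) neq F Ev 6 1048576 tw γ hfree htw q0 words 861 hw steps47 70500 34573 861 72000 35311 861 h47 chk47
  have h49 := checkSteps_sound (nadd NN) (List.replicate 9 0) neq F Ev 6 1048576 tw γ hfree htw q0 words 861 hw steps48 72000 35311 861 73500 36050 861 h48 chk48
  have h50 := checkSteps_sound (nadd NN) (List.replicate 9 0) neq F Ev 6 1048576 tw γ hfree htw q0 words 861 hw steps49 73500 36050 861 75000 36791 861 h49 chk49
  have h51 := checkSteps_sound (nadd NN) (List.replicate 9 0) neq F Ev 6 1048576 tw γ hfree htw q0 words 861 hw steps50 75000 36791 861 76500 37534 861 h50 chk50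
  have h52 := checkSteps_sound (nadd NN) (List.replicate 9 0) neq F Ev 6 1048576 tw γ hfree htw q0 words 861 hw steps51 76500 37534 861 78000 38277 861 h51 chk51
  have h53 := checkSteps_sound (nadd NN) (List.replicate 9 0) neq F Ev 6 1048576 tw γ hfree htw q0 words 861 hw steps52 78000 38277 861 79500 39016 861 h52 chk52
  have h54 := checkSteps_sound (nadd NN) (List.replicate 9 0) neq F Ev 6 1048576 tw γ hfree htw q0 words 861 hw steps53 79500 39016 861 81000 39754 861 h53 chk53
  have h55 := checkSteps_sound (nadd NN) (List.replicate 9 0) neq F Ev 6 1048576 tw γ hfree htw q0 words 861 hw steps54 81000 39754 861 82500 40485 861 h54 chk54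
  have h56 := checkSteps_sound (nadd NN) (List.replicate 9 0) neq F Ev 6 1048576 tw γ hfree htw q0 words 861 hw steps55 82500 40485 861 84000 41218 861 h55 chk55
  have h57 := checkSteps_sound (nadd NN) (List.replicate 9 0) neq F Ev 6 1048576 tw γ hfree htw q0 words 861 hw steps56 84000 41218 861 85500 41950 861 h56 chk56
  have h58 := checkSteps_sound (nadd NN) (List.replicate 9 0) neq F Ev 6 1048576 tw γ hfree htw q0 words 861 hw steps57 85500 41950 861 87000 42682 861 h57 chk57
  have h59 := checkSteps_sound (nadd NN) (List.replicate 9 0) neq F Ev 6 1048576 tw γ hfree htw q0 words 861 hw steps58 87000 42682 861 88500 43418 861 h58 chk58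
  have h60 := checkSteps_sound (nadd NN) (List.replicate 9 0) neq F Ev 6 1048576 tw γ hfree htw q0 words 861 hw steps59 88500 43418 861 90000 44156 861 h59 chk59
  have h61 := checkSteps_sound (nadd NN) (List.replicate 9 0) neq F Ev 6 1048576 tw γ hfree htw q0 words 861 hw steps60 90000 44156 861 91500 44898 861 h60 chk60
  have h62 := checkSteps_sound (nadd NN) (List.replicate 9 0) neq F Ev 6 1048576 tw γ hfree htw q0 words 861 hw steps61 91500 44898 861 93000 45634 861 h61 chk61
  have h63 := checkSteps_sound (nadd NN) (List.replicate 9 0) neq F Ev 6 1048576 tw γ hfree htw q0 words 861 hw steps62 93000 45634 861 94500 46371 861 h62 chk62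
  have h64 := checkSteps_sound (nadd NN) (List.replicate 9 0) neq F Ev 6 1048576 tw γ hfree htw q0 words 861 hw steps63 94500 46371 861 96000 47111 861 h63 chk63
  have h65 := checkSteps_sound (nadd NN) (List.replicate 9 0) neq F Ev 6 1048576 tw γ hfree htw q0 words 861 hw steps64 96000 47111 861 97500 47851 861 h64 chk64
  have h66 := checkSteps_sound (nadd NN) (List.replicate 9 0) neq F Ev 6 1048576 tw γ hfree htw q0 words 861 hw steps65 97500 47851 861 99000 48587 861 h65 chk65
  have h67 := checkSteps_sound (nadd NN) (List.replicate 9 0) neq F Ev 6 1048576 tw γ hfree htw q0 words 861 hw steps66 99000 48587 861 100477 48600 884 h66 chk66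
  have h68 := checkSteps_sound (nadd NN) (List.replicate 9 0) neq F Ev 6 1048576 tw γ hfree htw q0 words 861 hw steps67 100477 48600 884 101977 48600 884 h67 chk67
  have h69 := checkSteps_sound (nadd NN) (List.replicate 9 0) neq F Ev 6 1048576 tw γ hfree htw q0 words 861 hw steps68 101977 48600 884 103477 48600 884 h68 chk68
  have h70 := checkSteps_sound (nadd NN) (List.replicate 9 0) neq F Ev 6 1048576 tw γ hfree htw q0 words 861 hw steps69 103477 48600 884 104977 48600 884 h69 chk69
  have h71 := checkSteps_sound (nadd NN) (List.replicate 9 0) neq F Ev 6 1048576 tw γ hfree htw q0 words 861 hw steps70 104977 48600 884 106477 48600 884 h70 chk70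
  have h72 := checkSteps_sound (nadd NN) (List.replicate 9 0) neq F Ev 6 1048576 tw γ hfree htw q0 words 861 hw steps71 106477 48600 884 107977 48600 884 h71 chk71
  have h73 := checkSteps_sound (nadd NN) (List.replicate 9 0) neq F Ev 6 1048576 tw γ hfree htw q0 words 861 hw steps72 107977 48600 884 109477 48600 884 h72 chk72
  have h74 := checkSteps_sound (nadd NN) (List.replicate 9 0) neq F Ev 6 1048576 tw γ hfree htw q0 words 861 hw steps73 109477 48600 884 110977 48600 884 h73 chk73
  have h75 := checkSteps_sound (nadd NN) (List.replicate 9 0) neq F Ev 6 1048576 tw γ hfree htw q0 words 861 hw steps74 110977 48600 884 112477 48600 884 h74 chk74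
  have h76 := checkSteps_sound (nadd NN) (List.replicate 9 0) neq F Ev 6 1048576 tw γ hfree htw q0 words 861 hw steps75 112477 48600 884 113977 48600 884 h75 chk75
  have h77 := checkSteps_sound (nadd NN) (List.replicate 9 0) neq F Ev 6 1048576 tw γ hfree htw q0 words 861 hw steps76 113977 48600 884 115477 48600 884 h76 chk76
  have h78 := checkSteps_sound (nadd NN) (List.replicate 9 0) neq F Ev 6 1048576 tw γ hfree htw q0 words 861 hw steps77 115477 48600 884 116976 48600 885 h77 chk77
  have h79 := checkSteps_sound (nadd NN) (List.replicate 9 0) neq F Ev 6 1048576 tw γ hfree htw q0 words 861 hw steps78 116976 48600 885 118476 48600 885 h78 chk78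
  have h80 := checkSteps_sound (nadd NN) (List.replicate 9 0) neq F Ev 6 1048576 tw γ hfree htw q0 words 861 hw steps79 118476 48600 885 119976 48600 885 h79 chk79
  have h81 := checkSteps_sound (nadd NN) (List.replicate 9 0) neq F Ev 6 1048576 tw γ hfree htw q0 words 861 hw steps80 119976 48600 885 121476 48600 885 h80 chk80
  have h82 := checkSteps_sound (nadd NN) (List.replicate 9 0) neq F Ev 6 1048576 tw γ hfree htw q0 words 861 hw steps81 121476 48600 885 122976 48600 885 h81 chk81
  have h83 := checkSteps_sound (nadd NN) (List.replicate 9 0) neq F Ev 6 1048576 tw γ hfree htw q0 words 861 hw steps82 122976 48600 885 124476 48600 885 h82 chk82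
  have h84 := checkSteps_sound (nadd NN) (List.replicate 9 0) neq F Ev 6 1048576 tw γ hfree htw q0 words 861 hw steps83 124476 48600 885 125976 48600 885 h83 chk83
  have h85 := checkSteps_sound (nadd NN) (List.replicate 9 0) neq F Ev 6 1048576 tw γ hfree htw q0 words 861 hw steps84 125976 48600 885 127476 48600 885 h84 chk84
  have h86 := checkSteps_sound (nadd NN) (List.replicate 9 0) neq F Ev 6 1048576 tw γ hfree htw q0 words 861 hw steps85 127476 48600 885 128976 48600 885 h85 chk85
  have h87 := checkSteps_sound (nadd NN) (List.replicate 9 0) neq F Ev 6 1048576 tw γ hfree htw q0 words 861 hw steps86 128976 48600 885 130476 48600 885 h86 chk86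
  have h88 := checkSteps_sound (nadd NN) (List.replicate 9 0) neq F Ev 6 1048576 tw γ hfree htw q0 words 861 hw steps87 130476 48600 885 131976 48600 885 h87 chk87
  have h89 := checkSteps_sound (nadd NN) (List.replicate 9 0) neq F Ev 6 1048576 tw γ hfree htw q0 words 861 hw steps88 131976 48600 885 133476 48600 885 h88 chk88
  have h90 := checkSteps_sound (nadd NN) (List.replicate 9 0) neq F Ev 6 1048576 tw γ hfree htw q0 words 861 hw steps89 133476 48600 885 134976 48600 885 h89 chk89
  have h91 := checkSteps_sound (nadd NN) (List.replicate 9 0) neq F Ev 6 1048576 tw γ hfree htw q0 words 861 hw steps90 134976 48600 885 136476 48600 885 h90 chk90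
  have h92 := checkSteps_sound (nadd NN) (List.replicate 9 0) neq F Ev 6 1048576 tw γ hfree htw q0 words 861 hw steps91 136476 48600 885 137976 48600 885 h91 chk91
  have h93 := checkSteps_sound (nadd NN) (List.replicate 9 0) neq F Ev 6 1048576 tw γ hfree htw q0 words 861 hw steps92 137976 48600 885 139476 48600 885 h92 chk92
  have h94 := checkSteps_sound (nadd NN) (List.replicate 9 0) neq F Ev 6 1048576 tw γ hfree htw q0 words 861 hw steps93 139476 48600 885 140976 48600 885 h93 chk93
  have h95 := checkSteps_sound (nadd NN) (List.replicate 9 0) neq F Ev 6 1048576 tw γ hfree htw q0 words 861 hw steps94 140976 48600 885 142476 48600 885 h94 chk94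
  have h96 := checkSteps_sound (nadd NN) (List.replicate 9 0) neq F Ev 6 1048576 tw γ hfree htw q0 words 861 hw steps95 142476 48600 885 143976 48600 885 h95 chk95
  have h97 := checkSteps_sound (nadd NN) (List.replicate 9 0) neq F Ev 6 1048576 tw γ hfree htw q0 words 861 hw steps96 143976 48600 885 145476 48600 885 h96 chk96
  have h98 := checkSteps_sound (nadd NN) (List.replicate 9 0) neq F Ev 6 1048576 tw γ hfree htw q0 words 861 hw steps97 145476 48600 885 146976 48600 885 h97 chk97
  have h99 := checkSteps_sound (nadd NN) (List.replicate 9 0) neq F Ev 6 1048576 tw γ hfree htw q0 words 861 hw steps98 146976 48600 885 148476 48600 885 h98 chk98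
  have h100 := checkSteps_sound (nadd NN) (List.replicate 9 0) neq F Ev 6 1048576 tw γ hfree htw q0 words 861 hw steps99 148476 48600 885 149976 48600 885 h99 chk99
  have h101 := checkSteps_sound (nadd NN) (List.replicate 9 0) neq F Ev 6 1048576 tw γ hfree htw q0 words 861 hw steps100 149976 48600 885 151476 48600 885 h100 chk100
  have h102 := checkSteps_sound (nadd NN) (List.replicate 9 0) neq F Ev 6 1048576 tw γ hfree htw q0 words 861 hw steps101 151476 48600 885 152976 48600 885 h101 chk101
  have h103 := checkSteps_sound (nadd NN) (List.replicate 9 0) neq F Ev 6 1048576 tw γ hfree htw q0 words 861 hw steps102 152976 48600 885 154476 48600 885 h102 chk102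
  have h104 := checkSteps_sound (nadd NN) (List.replicate 9 0) neq F Ev 6 1048576 tw γ hfree htw q0 words 861 hw steps103 154476 48600 885 155976 48600 885 h103 chk103
  have h105 := checkSteps_sound (nadd NN) (List.replicate 9 0) neq F Ev 6 1048576 tw γ hfree htw q0 words 861 hw steps104 155976 48600 885 157476 48600 885 h104 chk104
  have h106 := checkSteps_sound (nadd NN) (List.replicate 9 0) neq F Ev 6 1048576 tw γ hfree htw q0 words 861 hw steps105 157476 48600 885 158976 48600 885 h105 chk105
  have h107 := checkSteps_sound (nadd NN) (List.replicate 9 0) neq F Ev 6 1048576 tw γ hfree htw q0 words 861 hw steps106 158976 48600 885 160476 48600 885 h106 chk106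
  have h108 := checkSteps_sound (nadd NN) (List.replicate 9 0) neq F Ev 6 1048576 tw γ hfree htw q0 words 861 hw steps107 160476 48600 885 161976 48600 885 h107 chk107
  have h109 := checkSteps_sound (nadd NN) (List.replicate 9 0) neq F Ev 6 1048576 tw γ hfree htw q0 words 861 hw steps108 161976 48600 885 163476 48600 885 h108 chk108
  have h110 := checkSteps_sound (nadd NN) (List.replicate 9 0) neq F Ev 6 1048576 tw γ hfree htw q0 words 861 hw steps109 163476 48600 885 164976 48600 885 h109 chk109
  have h111 := checkSteps_sound (nadd NN) (List.replicate 9 0) neq F Ev 6 1048576 tw γ hfree htw q0 words 861 hw steps110 164976 48600 885 166476 48600 885 h110 chk110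
  have h112 := checkSteps_sound (nadd NN) (List.replicate 9 0) neq F Ev 6 1048576 tw γ hfree htw q0 words 861 hw steps111 166476 48600 885 167976 48600 885 h111 chk111
  have h113 := checkSteps_sound (nadd NN) (List.replicate 9 0) neq F Ev 6 1048576 tw γ hfree htw q0 words 861 hw steps112 167976 48600 885 169476 48600 885 h112 chk112
  have h114 := checkSteps_sound (nadd NN) (List.replicate 9 0) neq F Ev 6 1048576 tw γ hfree htw q0 words 861 hw steps113 169476 48600 885 170976 48600 885 h113 chk113
  have h115 := checkSteps_sound (nadd NN) (List.replicate 9 0) neq F Ev 6 1048576 tw γ hfree htw q0 words 861 hw steps114 170976 48600 885 172476 48600 885 h114 chk114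
  have h116 := checkSteps_sound (nadd NN) (List.replicate 9 0) neq F Ev 6 1048576 tw γ hfree htw q0 words 861 hw steps115 172476 48600 885 173976 48600 885 h115 chk115
  have h117 := checkSteps_sound (nadd NN) (List.replicate 9 0) neq F Ev 6 1048576 tw γ hfree htw q0 words 861 hw steps116 173976 48600 885 175476 48600 885 h116 chk116
  have h118 := checkSteps_sound (nadd NN) (List.replicate 9 0) neq F Ev 6 1048576 tw γ hfree htw q0 words 861 hw steps117 175476 48600 885 176976 48600 885 h117 chk117
  have h119 := checkSteps_sound (nadd NN) (List.replicate 9 0) neq F Ev 6 1048576 tw γ hfree htw q0 words 861 hw steps118 176976 48600 885 178476 48600 885 h118 chk118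
  have h120 := checkSteps_sound (nadd NN) (List.replicate 9 0) neq F Ev 6 1048576 tw γ hfree htw q0 words 861 hw steps119 178476 48600 885 179976 48600 885 h119 chk119
  have h121 := checkSteps_sound (nadd NN) (List.replicate 9 0) neq F Ev 6 1048576 tw γ hfree htw q0 words 861 hw steps120 179976 48600 885 181476 48600 885 h120 chk120
  have h122 := checkSteps_sound (nadd NN) (List.replicate 9 0) neq F Ev 6 1048576 tw γ hfree htw q0 words 861 hw steps121 181476 48600 885 182976 48600 885 h121 chk121
  have h123 := checkSteps_sound (nadd NN) (List.replicate 9 0) neq F Ev 6 1048576 tw γ hfree htw q0 words 861 hw steps122 182976 48600 885 184476 48600 885 h122 chk122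
  have h124 := checkSteps_sound (nadd NN) (List.replicate 9 0) neq F Ev 6 1048576 tw γ hfree htw q0 words 861 hw steps123 184476 48600 885 185976 48600 885 h123 chk123
  have h125 := checkSteps_sound (nadd NN) (List.replicate 9 0) neq F Ev 6 1048576 tw γ hfree htw q0 words 861 hw steps124 185976 48600 885 187476 48600 885 h124 chk124
  have h126 := checkSteps_sound (nadd NN) (List.replicate 9 0) neq F Ev 6 1048576 tw γ hfree htw q0 words 861 hw steps125 187476 48600 885 188976 48600 885 h125 chk125
  have h127 := checkSteps_sound (nadd NN) (List.replicate 9 0) neq F Ev 6 1048576 tw γ hfree htw q0 words 861 hw steps126 188976 48600 885 190476 48600 885 h126 chk126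
  have h128 := checkSteps_sound (nadd NN) (List.replicate 9 0) neq F Ev 6 1048576 tw γ hfree htw q0 words 861 hw steps127 190476 48600 885 191976 48600 885 h127 chk127
  have h129 := checkSteps_sound (nadd NN) (List.replicate 9 0) neq F Ev 6 1048576 tw γ hfree htw q0 words 861 hw steps128 191976 48600 885 193476 48600 885 h128 chk128
  have h130 := checkSteps_sound (nadd NN) (List.replicate 9 0) neq F Ev 6 1048576 tw γ hfree htw q0 words 861 hw steps129 193476 48600 885 194976 48600 885 h129 chk129
  have h131 := checkSteps_sound (nadd NN) (List.replicate 9 0) neq F Ev 6 1048576 tw γ hfree htw q0 words 861 hw steps130 194976 48600 885 196476 48600 885 h130 chk130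
  have h132 := checkSteps_sound (nadd NN) (List.replicate 9 0) neq F Ev 6 1048576 tw γ hfree htw q0 words 861 hw steps131 196476 48600 885 197976 48600 885 h131 chk131
  have h133 := checkSteps_sound (nadd NN) (List.replicate 9 0) neq F Ev 6 1048576 tw γ hfree htw q0 words 861 hw steps132 197976 48600 885 199476 48600 885 h132 chk132
  have h134 := checkSteps_sound (nadd NN) (List.replicate 9 0) neq F Ev 6 1048576 tw γ hfree htw q0 words 861 hw steps133 199476 48600 885 200976 48600 885 h133 chk133
  have h135 := checkSteps_sound (nadd NN) (List.replicate 9 0) neq F Ev 6 1048576 tw γ hfree htw q0 words 861 hw steps134 200976 48600 885 202476 48600 885 h134 chk134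
  have h136 := checkSteps_sound (nadd NN) (List.replicate 9 0) neq F Ev 6 1048576 tw γ hfree htw q0 words 861 hw steps135 202476 48600 885 203976 48600 885 h135 chk135
  have h137 := checkSteps_sound (nadd NN) (List.replicate 9 0) neq F Ev 6 1048576 tw γ hfree htw q0 words 861 hw steps136 203976 48600 885 205476 48600 885 h136 chk136
  have h138 := checkSteps_sound (nadd NN) (List.replicate 9 0) neq F Ev 6 1048576 tw γ hfree htw q0 words 861 hw steps137 205476 48600 885 206976 48600 885 h137 chk137
  have h139 := checkSteps_sound (nadd NN) (List.replicate 9 0) neq F Ev 6 1048576 tw γ hfree htw q0 words 861 hw steps138 206976 48600 885 208476 48600 885 h138 chk138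
  have h140 := checkSteps_sound (nadd NN) (List.replicate 9 0) neq F Ev 6 1048576 tw γ hfree htw q0 words 861 hw steps139 208476 48600 885 209976 48600 885 h139 chk139
  have h141 := checkSteps_sound (nadd NN) (List.replicate 9 0) neq F Ev 6 1048576 tw γ hfree htw q0 words 861 hw steps140 209976 48600 885 211476 48600 885 h140 chk140
  have h142 := checkSteps_sound (nadd NN) (List.replicate 9 0) neq F Ev 6 1048576 tw γ hfree htw q0 words 861 hw steps141 211476 48600 885 212976 48600 885 h141 chk141
  have h143 := checkSteps_sound (nadd NN) (List.replicate 9 0) neq F Ev 6 1048576 tw γ hfree htw q0 words 861 hw steps142 212976 48600 885 214476 48600 885 h142 chk142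
  have h144 := checkSteps_sound (nadd NN) (List.replicate 9 0) neq F Ev 6 1048576 tw γ hfree htw q0 words 861 hw steps143 214476 48600 885 215976 48600 885 h143 chk143
  have h145 := checkSteps_sound (nadd NN) (List.replicate 9 0) neq F Ev 6 1048576 tw γ hfree htw q0 words 861 hw steps144 215976 48600 885 217476 48600 885 h144 chk144
  have h146 := checkSteps_sound (nadd NN) (List.replicate 9 0) neq F Ev 6 1048576 tw γ hfree htw q0 words 861 hw steps145 217476 48600 885 218976 48600 885 h145 chk145
  have h147 := checkSteps_sound (nadd NN) (List.replicate 9 0) neq F Ev 6 1048576 tw γ hfree htw q0 words 861 hw steps146 218976 48600 885 220476 48600 885 h146 chk146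
  have h148 := checkSteps_sound (nadd NN) (List.replicate 9 0) neq F Ev 6 1048576 tw γ hfree htw q0 words 861 hw steps147 220476 48600 885 221976 48600 885 h147 chk147
  have h149 := checkSteps_sound (nadd NN) (List.replicate 9 0) neq F Ev 6 1048576 tw γ hfree htw q0 words 861 hw steps148 221976 48600 885 223476 48600 885 h148 chk148
  have h150 := checkSteps_sound (nadd NN) (List.replicate 9 0) neq F Ev 6 1048576 tw γ hfree htw q0 words 861 hw steps149 223476 48600 885 224976 48600 885 h149 chk149
  have h151 := checkSteps_sound (nadd NN) (List.replicate 9 0) neq F Ev 6 1048576 tw γ hfree htw q0 words 861 hw steps150 224976 48600 885 226476 48600 885 h150 chk150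
  have h152 := checkSteps_sound (nadd NN) (List.replicate 9 0) neq F Ev 6 1048576 tw γ hfree htw q0 words 861 hw steps151 226476 48600 885 227976 48600 885 h151 chk151
  have h153 := checkSteps_sound (nadd NN) (List.replicate 9 0) neq F Ev 6 1048576 tw γ hfree htw q0 words 861 hw steps152 227976 48600 885 229476 48600 885 h152 chk152
  have h154 := checkSteps_sound (nadd NN) (List.replicate 9 0) neq F Ev 6 1048576 tw γ hfree htw q0 words 861 hw steps153 229476 48600 885 230976 48600 885 h153 chk153
  have h155 := checkSteps_sound (nadd NN) (List.replicate 9 0) neq F Ev 6 1048576 tw γ hfree htw q0 words 861 hw steps154 230976 48600 885 232476 48600 885 h154 chk154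
  have h156 := checkSteps_sound (nadd NN) (List.replicate 9 0) neq F Ev 6 1048576 tw γ hfree htw q0 words 861 hw steps155 232476 48600 885 233976 48600 885 h155 chk155
  have h157 := checkSteps_sound (nadd NN) (List.replicate 9 0) neq F Ev 6 1048576 tw γ hfree htw q0 words 861 hw steps156 233976 48600 885 235476 48600 885 h156 chk156
  have h158 := checkSteps_sound (nadd NN) (List.replicate 9 0) neq F Ev 6 1048576 tw γ hfree htw q0 words 861 hw steps157 235476 48600 885 236976 48600 885 h157 chk157
  have h159 := checkSteps_sound (nadd NN) (List.replicate 9 0) neq F Ev 6 1048576 tw γ hfree htw q0 words 861 hw steps158 236976 48600 885 238476 48600 885 h158 chk158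
  have h160 := checkSteps_sound (nadd NN) (List.replicate 9 0) neq F Ev 6 1048576 tw γ hfree htw q0 words 861 hw steps159 238476 48600 885 239976 48600 885 h159 chk159
  have h161 := checkSteps_sound (nadd NN) (List.replicate 9 0) neq F Ev 6 1048576 tw γ hfree htw q0 words 861 hw steps160 239976 48600 885 241476 48600 885 h160 chk160
  have h162 := checkSteps_sound (nadd NN) (List.replicate 9 0) neq F Ev 6 1048576 tw γ hfree htw q0 words 861 hw steps161 241476 48600 885 242976 48600 885 h161 chk161
  have h163 := checkSteps_sound (nadd NN) (List.replicate 9 0) neq F Ev 6 1048576 tw γ hfree htw q0 words 861 hw steps162 242976 48600 885 244476 48600 885 h162 chk162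
  have h164 := checkSteps_sound (nadd NN) (List.replicate 9 0) neq F Ev 6 1048576 tw γ hfree htw q0 words 861 hw steps163 244476 48600 885 245976 48600 885 h163 chk163
  have h165 := checkSteps_sound (nadd NN) (List.replicate 9 0) neq F Ev 6 1048576 tw γ hfree htw q0 words 861 hw steps164 245976 48600 885 247476 48600 885 h164 chk164
  have h166 := checkSteps_sound (nadd NN) (List.replicate 9 0) neq F Ev 6 1048576 tw γ hfree htw q0 words 861 hw steps165 247476 48600 885 248976 48600 885 h165 chk165
  have h167 := checkSteps_sound (nadd NN) (List.replicate 9 0) neq F Ev 6 1048576 tw γ hfree htw q0 words 861 hw steps166 248976 48600 885 250476 48600 885 h166 chk166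
  have h168 := checkSteps_sound (nadd NN) (List.replicate 9 0) neq F Ev 6 1048576 tw γ hfree htw q0 words 861 hw steps167 250476 48600 885 251976 48600 885 h167 chk167
  have h169 := checkSteps_sound (nadd NN) (List.replicate 9 0) neq F Ev 6 1048576 tw γ hfree htw q0 words 861 hw steps168 251976 48600 885 253476 48600 885 h168 chk168
  have h170 := checkSteps_sound (nadd NN) (List.replicate 9 0) neq F Ev 6 1048576 tw γ hfree htw q0 words 861 hw steps169 253476 48600 885 254976 48600 885 h169 chk169
  have h171 := checkSteps_sound (nadd NN) (List.replicate 9 0) neq F Ev 6 1048576 tw γ hfree htw q0 words 861 hw steps170 254976 48600 885 256476 48600 885 h170 chk170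
  have h172 := checkSteps_sound (nadd NN) (List.replicate 9 0) neq F Ev 6 1048576 tw γ hfree htw q0 words 861 hw steps171 256476 48600 885 257976 48600 885 h171 chk171
  have h173 := checkSteps_sound (nadd NN) (List.replicate 9 0) neq F Ev 6 1048576 tw γ hfree htw q0 words 861 hw steps172 257976 48600 885 259476 48600 885 h172 chk172
  have h174 := checkSteps_sound (nadd NN) (List.replicate 9 0) neq F Ev 6 1048576 tw γ hfree htw q0 words 861 hw steps173 259476 48600 885 260976 48600 885 h173 chk173
  have h175 := checkSteps_sound (nadd NN) (List.replicate 9 0) neq F Ev 6 1048576 tw γ hfree htw q0 words 861 hw steps174 260976 48600 885 262476 48600 885 h174 chk174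
  have h176 := checkSteps_sound (nadd NN) (List.replicate 9 0) neq F Ev 6 1048576 tw γ hfree htw q0 words 861 hw steps175 262476 48600 885 263976 48600 885 h175 chk175
  have h177 := checkSteps_sound (nadd NN) (List.replicate 9 0) neq F Ev 6 1048576 tw γ hfree htw q0 words 861 hw steps176 263976 48600 885 265476 48600 885 h176 chk176
  have h178 := checkSteps_sound (nadd NN) (List.replicate 9 0) neq F Ev 6 1048576 tw γ hfree htw q0 words 861 hw steps177 265476 48600 885 266976 48600 885 h177 chk177
  have h179 := checkSteps_sound (nadd NN) (List.replicate 9 0) neq F Ev 6 1048576 tw γ hfree htw q0 words 861 hw steps178 266976 48600 885 268476 48600 885 h178 chk178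
  have h180 := checkSteps_sound (nadd NN) (List.replicate 9 0) neq F Ev 6 1048576 tw γ hfree htw q0 words 861 hw steps179 268476 48600 885 269976 48600 885 h179 chk179
  have h181 := checkSteps_sound (nadd NN) (List.replicate 9 0) neq F Ev 6 1048576 tw γ hfree htw q0 words 861 hw steps180 269976 48600 885 271476 48600 885 h180 chk180
  have h182 := checkSteps_sound (nadd NN) (List.replicate 9 0) neq F Ev 6 1048576 tw γ hfree htw q0 words 861 hw steps181 271476 48600 885 272976 48600 885 h181 chk181
  have h183 := checkSteps_sound (nadd NN) (List.replicate 9 0) neq F Ev 6 1048576 tw γ hfree htw q0 words 861 hw steps182 272976 48600 885 274476 48600 885 h182 chk182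
  have h184 := checkSteps_sound (nadd NN) (List.replicate 9 0) neq F Ev 6 1048576 tw γ hfree htw q0 words 861 hw steps183 274476 48600 885 275976 48600 885 h183 chk183
  have h185 := checkSteps_sound (nadd NN) (List.replicate 9 0) neq F Ev 6 1048576 tw γ hfree htw q0 words 861 hw steps184 275976 48600 885 277476 48600 885 h184 chk184
  have h186 := checkSteps_sound (nadd NN) (List.replicate 9 0) neq F Ev 6 1048576 tw γ hfree htw q0 words 861 hw steps185 277476 48600 885 278976 48600 885 h185 chk185
  have h187 := checkSteps_sound (nadd NN) (List.replicate 9 0) neq F Ev 6 1048576 tw γ hfree htw q0 words 861 hw steps186 278976 48600 885 280476 48600 885 h186 chk186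
  have h188 := checkSteps_sound (nadd NN) (List.replicate 9 0) neq F Ev 6 1048576 tw γ hfree htw q0 words 861 hw steps187 280476 48600 885 281976 48600 885 h187 chk187
  have h189 := checkSteps_sound (nadd NN) (List.replicate 9 0) neq F Ev 6 1048576 tw γ hfree htw q0 words 861 hw steps188 281976 48600 885 283476 48600 885 h188 chk188
  have h190 := checkSteps_sound (nadd NN) (List.replicate 9 0) neq F Ev 6 1048576 tw γ hfree htw q0 words 861 hw steps189 283476 48600 885 284976 48600 885 h189 chk189
  have h191 := checkSteps_sound (nadd NN) (List.replicate 9 0) neq F Ev 6 1048576 tw γ hfree htw q0 words 861 hw steps190 284976 48600 885 286476 48600 885 h190 chk190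
  have h192 := checkSteps_sound (nadd NN) (List.replicate 9 0) neq F Ev 6 1048576 tw γ hfree htw q0 words 861 hw steps191 286476 48600 885 287976 48600 885 h191 chk191
  have h193 := checkSteps_sound (nadd NN) (List.replicate 9 0) neq F Ev 6 1048576 tw γ hfree htw q0 words 861 hw steps192 287976 48600 885 289476 48600 885 h192 chk192
  have h194 := checkSteps_sound (nadd NN) (List.replicate 9 0) neq F Ev 6 1048576 tw γ hfree htw q0 words 861 hw steps193 289476 48600 885 290976 48600 885 h193 chk193
  have h195 := checkSteps_sound (nadd NN) (List.replicate 9 0) neq F Ev 6 1048576 tw γ hfree htw q0 words 861 hw steps194 290976 48600 885 291600 48600 896 h194 chk194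
  exact h195

end Cfsg.Agent.Lib.H27.Co3M.C
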