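import Cfsg.Agent.Lib.H27.Co3M.C.FT0
import Cfsg.Agent.Lib.H27.Co3M.C.FT1
import Cfsg.Agent.Lib.H27.Co3M.C.FT2
import Cfsg.Agent.Lib.H27.Co3M.C.FT3
import Cfsg.Agent.Lib.H27.Co3M.C.FT4
import Cfsg.Agent.Lib.H27.Co3M.C.FT5
import Cfsg.Agent.Lib.H27.Co3M.C.FT6
import Cfsg.Agent.Lib.H27.Co3M.C.FT7
import Cfsg.Agent.Lib.H27.Co3M.C.FT8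
import Cfsg.Agent.Lib.H27.Co3M.CertTools

set_option autoImplicit false
set_option maxRecDepth 100000
set_option maxHeartbeats 0
set_option Elab.async false

/-! # Data of the monomial coset enumeration (generated) -/

namespace Cfsg.Agent.Lib.H27.Co3M.C

open Cfsg.Agent.Lib.H17.CosetCert (BT WT)
open Cfsg.Agent.Lib.H17.MonoCert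
open Cfsg.Agent.Lib.H16.G24M
open Cfsg.Agent.Lib.H27.Co3M (lbeq lmem pmem lall nall lbeq_iff lmem_iff pmem_iff forall_of_all forall_lt_of_all)

/-- the modulus of the twists -/
abbrev NN : ℕ := 30

/-- an empty part -/
def ftE : BT := .node (.node (.node (.node (.node (.node (.node (.node (.node (.leaf 0) (.leaf 0)) (.node (.leaf 0) (.leaf 0))) (.node (.node (.leaf 0) (.leaf 0)) (.node (.leaf 0) (.leaf 0)))) (.node (.node (.node (.leaf 0) (.leaf 0)) (.node (.leaf 0) (.leaf 0))) (.node (.node (.leaf 0) (.leaf 0)) (.node (.leaf 0) (.leaf 0))))) (.node (.node (.node (.node (.leaf 0) (.leaf 0)) (.node (.leaf 0) (.leaf 0))) (.node (.node (.leaf 0) (.leaf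 0)) (.node (.leaf 0) (.leaf 0)))) (.node (.node (.node (.leaf 0) (.leaf 0)) (.node (.leaf 0) (.leaf 0))) (.node (.node (.leaf 0) (.leaf 0)) (.node (.leaf 0) (.leaf 0)))))) (.node (.node (.node (.node (.node (.leaf 0) (.leaf 0)) (.node (.leaf 0) (.leaf 0))) (.node (.node (.leaf 0) (.leaf 0)) (.node (.leaf 0) (.leaf 0)))) (.node (.node (.node (.leaf 0) (.leaf 0)) (.node (.leaf 0) (.leaf 0))) (.node (.node (.leaf 0) (.leaf 0)) (.node (.leaf 0) (.leaf 0))))) (.node (.node (.node (.node (.leaf 0) (.leaf 0)) (.node (.leaf 0) (.leaf 0))) (.node (.node (.leaf 0) (.leaf 0)) (.node (.leaf 0) (.leaf 0)))) (.node (.node (.node (.leaf 0) (.leaf 0)) (.node (.leaf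 0) (.leaf 0))) (.node (.node (.leaf 0) (.leaf 0)) (.node (.leaf 0) (.leaf 0))))))) (.node (.node (.node (.node (.node (.node (.leaf 0) (.leaf 0)) (.node (.leaf 0) (.leaf 0))) (.node (.node (.leaf 0) (.leaf 0)) (.node (.leaf 0) (.leaf 0)))) (.node (.node (.node (.leaf 0) (.leaf 0)) (.node (.leaf 0) (.leaf 0))) (.node (.node (.leaf 0) (.leaf 0)) (.node (.leaf 0) (.leaf 0))))) (.node (.node (.node (.node (.leaf 0) (.leaf 0)) (.node (.leaf 0) (.leaf 0))) (.node (.node (.leaf 0) (.leaf 0)) (.node (.leaf 0) (.leaf 0)))) (.node (.node (.node (.leaf 0) (.leaf 0)) (.node (.leaf 0) (.leaf 0))) (.node (.node (.leaf 0) (.leaf 0)) (.node (.leaf 0) (.leaf 0))))))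 (.node (.node (.node (.node (.node (.leaf 0) (.leaf 0)) (.node (.leaf 0) (.leaf 0))) (.node (.node (.leaf 0) (.leaf 0)) (.node (.leaf 0) (.leaf 0)))) (.node (.node (.node (.leaf 0) (.leaf 0)) (.node (.leaf 0) (.leaf 0))) (.node (.node (.leaf 0) (.leaf 0)) (.node (.leaf 0) (.leaf 0))))) (.node (.node (.node (.node (.leaf 0) (.leaf 0)) (.node (.leaf 0) (.leaf 0))) (.node (.node (.leaf 0) (.leaf 0)) (.node (.leaf 0) (.leaf 0)))) (.node (.node (.node (.leaf 0) (.leaf 0)) (.node (.leaf 0) (.leaf 0))) (.node (.node (.leaf 0) (.leaf 0)) (.node (.leaf 0) (.leaf 0)))))))) (.node (.node (.node (.node (.node (.node (.node (.leaf 0) (.leaf 0)) (.node (.leaf 0)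 (.leaf 0))) (.node (.node (.leaf 0) (.leaf 0)) (.node (.leaf 0) (.leaf 0)))) (.node (.node (.node (.leaf 0) (.leaf 0)) (.node (.leaf 0) (.leaf 0))) (.node (.node (.leaf 0) (.leaf 0)) (.node (.leaf 0) (.leaf 0))))) (.node (.node (.node (.node (.leaf 0) (.leaf 0)) (.node (.leaf 0) (.leaf 0))) (.node (.node (.leaf 0) (.leaf 0)) (.node (.leaf 0) (.leaf 0)))) (.node (.node (.node (.leaf 0) (.leaf 0)) (.node (.leaf 0) (.leaf 0))) (.node (.node (.leaf 0) (.leaf 0)) (.node (.leaf 0) (.leaf 0)))))) (.node (.node (.node (.node (.node (.leaf 0) (.leaf 0)) (.node (.leaf 0) (.leaf 0))) (.node (.node (.leaf 0) (.leaf 0)) (.node (.leaf 0) (.leaf 0)))) (.node (.node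 (.node (.leaf 0) (.leaf 0)) (.node (.leaf 0) (.leaf 0))) (.node (.node (.leaf 0) (.leaf 0)) (.node (.leaf 0) (.leaf 0))))) (.node (.node (.node (.node (.leaf 0) (.leaf 0)) (.node (.leaf 0) (.leaf 0))) (.node (.node (.leaf 0) (.leaf 0)) (.node (.leaf 0) (.leaf 0)))) (.node (.node (.node (.leaf 0) (.leaf 0)) (.node (.leaf 0) (.leaf 0))) (.node (.node (.leaf 0) (.leaf 0)) (.node (.leaf 0) (.leaf 0))))))) (.node (.node (.node (.node (.node (.node (.leaf 0) (.leaf 0)) (.node (.leaf 0) (.leaf 0))) (.node (.node (.leaf 0) (.leaf 0)) (.node (.leaf 0) (.leaf 0)))) (.node (.node (.node (.leaf 0) (.leaf 0)) (.node (.leaf 0) (.leaf 0))) (.node (.node (.leaf 0)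 (.leaf 0)) (.node (.leaf 0) (.leaf 0))))) (.node (.node (.node (.node (.leaf 0) (.leaf 0)) (.node (.leaf 0) (.leaf 0))) (.node (.node (.leaf 0) (.leaf 0)) (.node (.leaf 0) (.leaf 0)))) (.node (.node (.node (.leaf 0) (.leaf 0)) (.node (.leaf 0) (.leaf 0))) (.node (.node (.leaf 0) (.leaf 0)) (.node (.leaf 0) (.leaf 0)))))) (.node (.node (.node (.node (.node (.leaf 0) (.leaf 0)) (.node (.leaf 0) (.leaf 0))) (.node (.node (.leaf 0) (.leaf 0)) (.node (.leaf 0) (.leaf 0)))) (.node (.node (.node (.leaf 0) (.leaf 0)) (.node (.leaf 0) (.leaf 0))) (.node (.node (.leaf 0) (.leaf 0)) (.node (.leaf 0) (.leaf 0))))) (.node (.node (.node (.node (.leaf 0) (.leaf 0))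 (.node (.leaf 0) (.leaf 0))) (.node (.node (.leaf 0) (.leaf 0)) (.node (.leaf 0) (.leaf 0)))) (.node (.node (.node (.leaf 0) (.leaf 0)) (.node (.leaf 0) (.leaf 0))) (.node (.node (.leaf 0) (.leaf 0)) (.node (.leaf 0) (.leaf 0))))))))) (.node (.node (.node (.node (.node (.node (.node (.node (.leaf 0) (.leaf 0)) (.node (.leaf 0) (.leaf 0))) (.node (.node (.leaf 0) (.leaf 0)) (.node (.leaf 0) (.leaf 0)))) (.node (.node (.node (.leaf 0) (.leaf 0)) (.node (.leaf 0) (.leaf 0))) (.node (.node (.leaf 0) (.leaf 0)) (.node (.leaf 0) (.leaf 0))))) (.node (.node (.node (.node (.leaf 0) (.leaf 0)) (.node (.leaf 0) (.leaf 0))) (.node (.node (.leaf 0) (.leaf 0))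 (.node (.leaf 0) (.leaf 0)))) (.node (.node (.node (.leaf 0) (.leaf 0)) (.node (.leaf 0) (.leaf 0))) (.node (.node (.leaf 0) (.leaf 0)) (.node (.leaf 0) (.leaf 0)))))) (.node (.node (.node (.node (.node (.leaf 0) (.leaf 0)) (.node (.leaf 0) (.leaf 0))) (.node (.node (.leaf 0) (.leaf 0)) (.node (.leaf 0) (.leaf 0)))) (.node (.node (.node (.leaf 0) (.leaf 0)) (.node (.leaf 0) (.leaf 0))) (.node (.node (.leaf 0) (.leaf 0)) (.node (.leaf 0) (.leaf 0))))) (.node (.node (.node (.node (.leaf 0) (.leaf 0)) (.node (.leaf 0) (.leaf 0))) (.node (.node (.leaf 0) (.leaf 0)) (.node (.leaf 0) (.leaf 0)))) (.node (.node (.node (.leaf 0) (.leaf 0)) (.node (.leaf 0)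 (.leaf 0))) (.node (.node (.leaf 0) (.leaf 0)) (.node (.leaf 0) (.leaf 0))))))) (.node (.node (.node (.node (.node (.node (.leaf 0) (.leaf 0)) (.node (.leaf 0) (.leaf 0))) (.node (.node (.leaf 0) (.leaf 0)) (.node (.leaf 0) (.leaf 0)))) (.node (.node (.node (.leaf 0) (.leaf 0)) (.node (.leaf 0) (.leaf 0))) (.node (.node (.leaf 0) (.leaf 0)) (.node (.leaf 0) (.leaf 0))))) (.node (.node (.node (.node (.leaf 0) (.leaf 0)) (.node (.leaf 0) (.leaf 0))) (.node (.node (.leaf 0) (.leaf 0)) (.node (.leaf 0) (.leaf 0)))) (.node (.node (.node (.leaf 0) (.leaf 0)) (.node (.leaf 0) (.leaf 0))) (.node (.node (.leaf 0) (.leaf 0)) (.node (.leaf 0) (.leaf 0)))))) (.node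 (.node (.node (.node (.node (.leaf 0) (.leaf 0)) (.node (.leaf 0) (.leaf 0))) (.node (.node (.leaf 0) (.leaf 0)) (.node (.leaf 0) (.leaf 0)))) (.node (.node (.node (.leaf 0) (.leaf 0)) (.node (.leaf 0) (.leaf 0))) (.node (.node (.leaf 0) (.leaf 0)) (.node (.leaf 0) (.leaf 0))))) (.node (.node (.node (.node (.leaf 0) (.leaf 0)) (.node (.leaf 0) (.leaf 0))) (.node (.node (.leaf 0) (.leaf 0)) (.node (.leaf 0) (.leaf 0)))) (.node (.node (.node (.leaf 0) (.leaf 0)) (.node (.leaf 0) (.leaf 0))) (.node (.node (.leaf 0) (.leaf 0)) (.node (.leaf 0) (.leaf 0)))))))) (.node (.node (.node (.node (.node (.node (.node (.leaf 0) (.leaf 0)) (.node (.leaf 0) (.leaf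 0))) (.node (.node (.leaf 0) (.leaf 0)) (.node (.leaf 0) (.leaf 0)))) (.node (.node (.node (.leaf 0) (.leaf 0)) (.node (.leaf 0) (.leaf 0))) (.node (.node (.leaf 0) (.leaf 0)) (.node (.leaf 0) (.leaf 0))))) (.node (.node (.node (.node (.leaf 0) (.leaf 0)) (.node (.leaf 0) (.leaf 0))) (.node (.node (.leaf 0) (.leaf 0)) (.node (.leaf 0) (.leaf 0)))) (.node (.node (.node (.leaf 0) (.leaf 0)) (.node (.leaf 0) (.leaf 0))) (.node (.node (.leaf 0) (.leaf 0)) (.node (.leaf 0) (.leaf 0)))))) (.node (.node (.node (.node (.node (.leaf 0) (.leaf 0)) (.node (.leaf 0) (.leaf 0))) (.node (.node (.leaf 0) (.leaf 0)) (.node (.leaf 0) (.leaf 0)))) (.node (.node (.node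 (.leaf 0) (.leaf 0)) (.node (.leaf 0) (.leaf 0))) (.node (.node (.leaf 0) (.leaf 0)) (.node (.leaf 0) (.leaf 0))))) (.node (.node (.node (.node (.leaf 0) (.leaf 0)) (.node (.leaf 0) (.leaf 0))) (.node (.node (.leaf 0) (.leaf 0)) (.node (.leaf 0) (.leaf 0)))) (.node (.node (.node (.leaf 0) (.leaf 0)) (.node (.leaf 0) (.leaf 0))) (.node (.node (.leaf 0) (.leaf 0)) (.node (.leaf 0) (.leaf 0))))))) (.node (.node (.node (.node (.node (.node (.leaf 0) (.leaf 0)) (.node (.leaf 0) (.leaf 0))) (.node (.node (.leaf 0) (.leaf 0)) (.node (.leaf 0) (.leaf 0)))) (.node (.node (.node (.leaf 0) (.leaf 0)) (.node (.leaf 0) (.leaf 0))) (.node (.node (.leaf 0) (.leaf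 0)) (.node (.leaf 0) (.leaf 0))))) (.node (.node (.node (.node (.leaf 0) (.leaf 0)) (.node (.leaf 0) (.leaf 0))) (.node (.node (.leaf 0) (.leaf 0)) (.node (.leaf 0) (.leaf 0)))) (.node (.node (.node (.leaf 0) (.leaf 0)) (.node (.leaf 0) (.leaf 0))) (.node (.node (.leaf 0) (.leaf 0)) (.node (.leaf 0) (.leaf 0)))))) (.node (.node (.node (.node (.node (.leaf 0) (.leaf 0)) (.node (.leaf 0) (.leaf 0))) (.node (.node (.leaf 0) (.leaf 0)) (.node (.leaf 0) (.leaf 0)))) (.node (.node (.node (.leaf 0) (.leaf 0)) (.node (.leaf 0) (.leaf 0))) (.node (.node (.leaf 0) (.leaf 0)) (.node (.leaf 0) (.leaf 0))))) (.node (.node (.node (.node (.leaf 0) (.leaf 0)) (.node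 (.leaf 0) (.leaf 0))) (.node (.node (.leaf 0) (.leaf 0)) (.node (.leaf 0) (.leaf 0)))) (.node (.node (.node (.leaf 0) (.leaf 0)) (.node (.leaf 0) (.leaf 0))) (.node (.node (.leaf 0) (.leaf 0)) (.node (.leaf 0) (.leaf 0)))))))))

/-- the packed facts -/
def factTree : BT := .node (.node (.node (.node (ft0) (ft1)) (.node (ft2) (ft3))) (.node (.node (ft4) (ft5)) (.node (ft6) (ft7)))) (.node (.node (.node (ft8) (ftE)) (.node (ftE) (ftE))) (.node (.node (ftE) (ftE)) (.node (ftE) (ftE))))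

/-- the fact with a given number -/
noncomputable def F (f : ℕ) : (ℕ × ℕ × ℕ) × List ℕ :=
  factOfN factTree 4096 64 80 1208925819614629174706176 16 65536 5 32 9 f

/-- the words -/
def words : WT := .node (.node (.node (.node (.node (.node (.node (.node (.node (.node (.leaf [0] false) (.leaf [1, 1, 1, 3, 0, 0, 3, 0, 2, 2, 1, 2, 0, 2, 1, 2, 0, 2, 2, 2, 2, 2, 1, 2] true)) (.node (.leaf [1, 1, 3, 0, 2, 2, 0, 2, 0, 3, 1, 2, 2, 1, 2, 0, 3, 3, 3, 1, 3, 0, 3] true) (.leaf [1, 1, 3, 0, 2, 2, 0, 2, 1, 2, 2, 2, 1, 3, 3, 1, 3, 3, 3, 3, 0, 2, 2, 2] true))) (.node (.node (.leaf [1, 1, 1, 1, 2, 2, 1, 2, 2, 2, 1, 3, 0, 3, 0, 0, 3, 3, 3, 0, 3, 1, 2] true) (.leaf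 [1, 1, 3, 1, 3, 3, 3, 3, 3, 3, 1, 1, 2, 1, 2, 1, 1, 3, 3, 1, 3, 0, 2, 2] true)) (.node (.leaf [1, 1, 1, 1, 2, 1, 3, 0, 2, 2, 2, 0, 0, 3, 3, 1, 1, 2, 0, 2, 2, 0, 2, 2] true) (.nil)))) (.node (.node (.node (.leaf [1, 1, 1, 2, 0, 3, 0, 0, 3, 1, 2, 1, 1, 1, 2, 0, 3, 0, 0, 3, 1, 2] true) (.leaf [1, 1, 1, 2, 0, 0, 3, 3, 0, 0, 2, 1, 1, 2, 1, 1, 3, 1, 3, 3, 0, 2, 1, 3] true)) (.node (.leaf [1, 1, 1, 1, 3, 1, 1, 3, 1, 2, 0, 2, 2, 2, 1, 2, 2, 2, 1, 2, 2, 0, 0, 2] true) (.leaf [1, 3, 3, 3, 1, 2, 1, 2, 2, 0, 2, 2, 2, 2, 1, 2, 0, 3, 1, 3, 3, 3, 0, 2] true))) (.node (.node (.leaf [1, 1, 1, 2, 1, 2, 1, 2, 2, 2, 0, 3, 1, 2, 2, 2, 0, 2, 2, 0, 3, 1, 3] true) (.leaf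 [1, 1, 3, 3, 3, 0, 0, 2, 0, 3, 0, 3, 1, 2, 1, 3, 3, 3, 1, 1, 3, 3, 0, 3] true)) (.node (.leaf [1, 1, 1, 3, 1, 3, 0, 2, 2, 1, 3, 0, 3, 3, 0, 3, 0, 2, 2, 1, 3, 1, 1, 2] true) (.nil))))) (.node (.node (.node (.node (.leaf [1, 1, 3, 0, 3, 3, 0, 0, 3, 0, 0, 2, 1, 3, 3, 3, 3, 0, 2, 0, 3] true) (.leaf [1, 1, 1, 2, 1, 3, 0, 0, 3, 1, 3, 0, 0, 3, 0, 2, 1, 1, 2, 1, 2, 1, 1, 3] true)) (.node (.leaf [1, 1, 1, 1, 1, 1, 2, 1, 2, 2, 0, 0, 0, 3, 3, 1, 3, 3, 1, 1, 2, 1, 2, 2] true) (.leaf [1, 1, 2, 0, 3, 0, 2, 0, 3, 3, 0, 3, 1, 3, 3, 1, 2, 0, 2, 1, 3, 3, 3, 3] true))) (.node (.node (.leaf [1, 1, 1, 3, 3, 1, 2, 1, 3, 3, 1, 3, 3, 0, 3, 0, 3, 1, 2, 0, 0, 3, 3] true) (.leaf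 [1, 1, 3, 1, 2, 2, 0, 2, 2, 1, 3, 0, 2, 2, 2, 2, 0, 2, 1, 2, 0, 2, 2, 2] true)) (.node (.leaf [1, 1, 1, 3, 1, 1, 1, 2, 0, 2, 2, 2, 0, 0, 2, 0, 0, 2, 0, 0, 3, 3, 1, 3] true) (.nil)))) (.node (.node (.node (.leaf [1, 1, 1, 1, 1, 3, 1, 2, 0, 2, 1, 2, 1, 1, 1, 2, 2, 1, 1, 3, 3, 3, 3] true) (.leaf [1, 1, 1, 2, 2, 0, 2, 0, 3, 3, 3, 3, 3, 0, 3, 1, 3, 3, 1, 2, 1, 2, 2, 2] true)) (.node (.leaf [1, 1, 1, 1, 3, 3, 3, 0, 0, 0, 3, 0, 3, 3, 3, 3, 3, 1, 3, 3, 3, 0, 0, 2] true) (.leaf [4, 2, 0, 0, 3, 3, 3, 1, 3, 5, 1, 2, 2, 1, 3, 0, 2, 2, 0, 0, 3, 3, 0, 3] true))) (.node (.node (.leaf [1, 1, 3, 1, 3, 0, 3, 1, 3, 1, 2, 0, 2, 2, 1, 3, 3, 1, 1, 2, 0, 0, 3] true) (.leaf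 [1, 1, 3, 0, 3, 3, 3, 1, 2, 0, 2, 0, 2, 2, 1, 3, 3, 1, 3, 3, 3, 3, 3, 3] true)) (.node (.leaf [1, 1, 1, 3, 3, 3, 0, 3, 3, 1, 1, 2, 0, 0, 3, 1, 2, 2, 0, 3, 3, 3, 1, 3] true) (.nil)))))) (.node (.node (.node (.node (.node (.leaf [1, 1, 1, 1, 1, 2, 2, 0, 2, 2, 1, 2, 0, 0, 2, 2, 0, 2, 2, 1, 2] true) (.leaf [1, 1, 1, 3, 0, 2, 2, 2, 2, 1, 3, 0, 3, 1, 3, 0, 3, 3, 3, 1, 2, 2, 0, 3] true)) (.node (.leaf [1, 1, 2, 2, 2, 2, 1, 2, 1, 3, 0, 3, 1, 2, 0, 2, 1, 3, 3, 3, 1, 3, 3] true) (.leaf [1, 1, 2, 1, 3, 3, 0, 2, 1, 2, 0, 3, 3, 3, 0, 2, 0, 2, 2, 2, 2, 2, 1, 3] true))) (.node (.node (.leaf [1, 1, 1, 3, 1, 3, 3, 3, 1, 1, 3, 3, 3, 0, 0, 3, 1, 1, 1, 3, 0, 2, 2] true)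 (.leaf [1, 1, 3, 1, 3, 0, 2, 0, 3, 3, 1, 2, 2, 0, 2, 1, 3, 0, 2, 2, 2, 2, 0, 2] true)) (.node (.leaf [1, 1, 1, 1, 2, 2, 1, 1, 3, 3, 0, 3, 0, 2, 1, 2, 2, 0, 2, 2, 2, 2, 2, 2] true) (.nil)))) (.node (.node (.node (.leaf [1, 1, 3, 0, 2, 0, 3, 1, 3, 3, 0, 2, 2, 2, 1, 2, 0, 3, 3, 0, 3, 3] true) (.leaf [1, 1, 1, 2, 0, 2, 2, 1, 2, 1, 3, 3, 0, 0, 2, 0, 0, 2, 2, 2, 1, 2, 0, 2] true)) (.node (.leaf [1, 1, 1, 1, 3, 1, 2, 1, 3, 0, 2, 1, 1, 2, 2, 1, 2, 1, 1, 2, 0, 3, 0, 2] true) (.leaf [2, 3] true))) (.node (.node (.leaf [1, 1, 1, 2, 2, 0, 3, 1, 2, 0, 0, 3, 3, 1, 1, 3, 0, 2, 0, 2, 2, 1, 2] true) (.leaf [1, 1, 3, 3, 0, 0, 3, 0, 0, 2, 2, 2, 0, 2, 2, 0, 2, 2, 1, 1,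 2, 0, 0, 2] true)) (.node (.leaf [1, 1, 1, 3, 3, 1, 2, 1, 3, 3, 0, 3, 0, 0, 0, 2, 0, 2, 1, 3, 0, 3, 1, 2] true) (.nil))))) (.node (.node (.node (.node (.leaf [1, 1, 1, 3, 1, 2, 1, 3, 3, 3, 1, 2, 0, 0, 3, 0, 0, 3, 1, 2, 0, 3] true) (.leaf [1, 1, 1, 2, 1, 2, 0, 2, 0, 3, 0, 2, 2, 1, 3, 3, 0, 2, 0, 3, 3, 3, 0, 3] true)) (.node (.leaf [1, 1, 1, 1, 1, 2, 1, 3, 3, 3, 3, 0, 2, 0, 3, 1, 1, 3, 0, 3, 3, 0, 0, 3] true) (.leaf [1, 1, 2, 2, 2, 2, 0, 2, 1, 2, 0, 2, 0, 3, 1, 3, 0, 3, 3, 3, 1, 3, 1, 3] true))) (.node (.node (.leaf [1, 1, 1, 3, 0, 3, 0, 0, 3, 0, 3, 3, 3, 1, 2, 2, 1, 2, 1, 1, 3, 0, 2] true) (.leaf [1, 1, 3, 3, 1, 2, 0, 3, 1, 2, 0, 2, 1, 3, 1, 2, 0, 0,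 2, 1, 3, 3, 3, 3] true)) (.node (.leaf [1, 1, 1, 3, 1, 3, 1, 1, 2, 2, 1, 1, 3, 1, 1, 1, 3, 1, 3, 3, 1, 1, 3, 3] true) (.nil)))) (.node (.node (.node (.leaf [1, 1, 1, 1, 3, 3, 0, 0, 2, 0, 0, 3, 3, 0, 2, 0, 3, 1, 1, 1, 3, 0, 2] true) (.leaf [1, 1, 3, 1, 1, 2, 0, 3, 0, 3, 1, 3, 1, 3, 1, 1, 3, 3, 0, 3, 1, 2, 0, 3] true)) (.node (.leaf [1, 1, 1, 1, 3, 0, 2, 0, 0, 2, 0, 0, 3, 1, 3, 3, 3, 3, 3, 1, 3, 0, 3, 3] true) (.leaf [4, 3, 0, 3, 0, 2, 0, 3, 0, 0, 3, 5, 2, 2, 1, 3, 3, 0, 0, 3, 1, 1, 3, 1, 2, 0] true))) (.node (.node (.leaf [1, 1, 3, 3, 3, 1, 2, 0, 3, 0, 3, 3, 0, 3, 1, 3, 1, 2, 1, 2, 0, 2, 2] true) (.leaf [1, 1, 3, 0, 0, 3, 0, 2, 1, 3, 0, 3, 3, 1, 3,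 3, 0, 0, 2, 2, 2, 1, 1, 2] true)) (.node (.leaf [1, 1, 1, 3, 0, 3, 1, 3, 1, 2, 1, 3, 3, 1, 1, 1, 2, 0, 2, 2, 2, 1, 3, 3] true) (.nil))))))) (.node (.node (.node (.node (.node (.node (.leaf [1, 1, 1, 3, 3, 0, 3, 1, 3, 3, 0, 3, 0, 0, 2, 2, 0, 2, 2] true) (.leaf [1, 1, 1, 3, 0, 0, 2, 2, 0, 2, 1, 2, 1, 2, 0, 0, 3, 3, 3, 3, 0, 2, 1, 3] true)) (.node (.leaf [1, 1, 2, 1, 2, 2, 2, 0, 3, 3, 0, 2, 0, 3, 1, 2, 0, 3, 1, 3, 3, 1, 2] true) (.leaf [1, 1, 2, 1, 3, 1, 3, 0, 0, 2, 0, 3, 3, 0, 2, 2, 0, 3, 0, 2, 0, 2, 0, 2] true))) (.node (.node (.leaf [1, 1, 1, 3, 1, 1, 3, 3, 0, 0, 3, 0, 0, 2, 2, 1, 2, 0, 2, 2, 0, 3, 3] true) (.leaf [1, 1, 3, 1, 3, 3, 0, 2, 2, 1, 1,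 2, 0, 3, 1, 2, 0, 2, 2, 1, 1, 3, 0, 2] true)) (.node (.leaf [1, 1, 1, 1, 2, 0, 3, 0, 0, 3, 0, 3, 1, 1, 2, 2, 2, 2, 2, 2, 0, 2, 1, 3] true) (.nil)))) (.node (.node (.node (.leaf [1, 1, 3, 1, 3, 0, 0, 3, 1, 3, 3, 0, 2, 1, 1, 3, 3, 3, 1, 1, 3, 3] true) (.leaf [1, 1, 1, 2, 0, 2, 1, 3, 1, 2, 1, 2, 0, 2, 0, 3, 1, 1, 3, 1, 3, 0, 0, 3] true)) (.node (.leaf [1, 1, 1, 1, 3, 1, 3, 3, 0, 0, 0, 3, 1, 1, 1, 3, 0, 3, 0, 0, 0, 3, 1, 3] true) (.leaf [4, 3, 3, 3, 3, 1, 2, 2, 1, 2, 5, 2, 0, 2, 1, 3, 1, 3, 0, 0, 0, 2, 0, 3] true))) (.node (.node (.leaf [1, 1, 1, 2, 0, 3, 3, 0, 3, 1, 3, 3, 1, 3, 3, 3, 0, 3, 0, 2, 2, 0, 2] true) (.leaf [1, 1, 3, 3, 0, 3, 1, 3, 1, 3, 0,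 2, 1, 2, 2, 2, 1, 2, 1, 3, 0, 2, 0, 2] true)) (.node (.leaf [1, 1, 1, 3, 1, 2, 0, 0, 2, 2, 2, 2, 0, 3, 0, 0, 2, 0, 2, 0, 0, 3, 3, 3] true) (.nil))))) (.node (.node (.node (.node (.leaf [1, 1, 1, 1, 3, 3, 1, 3, 3, 1, 3, 0, 3, 0, 3, 0, 2, 0, 2, 1, 2, 2] true) (.leaf [1, 1, 1, 2, 1, 2, 1, 3, 0, 3, 0, 0, 2, 0, 3, 1, 3, 0, 0, 0, 2, 2, 0, 2] true)) (.node (.leaf [1, 1, 1, 1, 1, 3, 3, 1, 1, 2, 2, 1, 3, 0, 0, 0, 3, 1, 2, 2, 0, 2, 1, 2] true) (.leaf [1, 1, 2, 2, 1, 1, 2, 2, 1, 3, 3, 3, 0, 3, 0, 2, 0, 3, 3, 0, 2, 2, 1, 2] true))) (.node (.node (.leaf [1, 1, 1, 3, 3, 0, 3, 0, 3, 3, 3, 1, 3, 1, 2, 0, 3, 3, 1, 3, 0, 3, 3] true) (.leaf [1, 1, 3, 3, 1, 3, 1, 1, 2,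 2, 1, 3, 1, 1, 3, 3, 1, 3, 1, 1, 2, 2, 1, 3] true)) (.node (.leaf [1, 1, 1, 3, 1, 1, 2, 1, 3, 1, 1, 3, 1, 3, 0, 0, 0, 2, 2, 1, 1, 2, 0, 2] true) (.nil)))) (.node (.node (.node (.leaf [1, 1, 1, 1, 3, 1, 1, 1, 3, 3, 3, 1, 3, 3, 1, 2, 0, 0, 3, 3, 3, 0, 3] true) (.leaf [1, 1, 3, 1, 1, 3, 3, 1, 1, 2, 0, 2, 2, 2, 1, 3, 1, 2, 0, 0, 3, 3, 1, 2] true)) (.node (.leaf [1, 1, 1, 1, 3, 0, 3, 3, 1, 3, 1, 3, 0, 3, 0, 0, 2, 1, 1, 2, 2, 1, 2, 2] true) (.leaf [4, 2, 2, 2, 2, 1, 3, 0, 2, 2, 5, 0, 0, 2, 1, 3, 3, 0, 2, 2, 2, 1, 3, 0, 3] true))) (.node (.node (.leaf [1, 1, 3, 3, 1, 1, 3, 3, 3, 1, 1, 3, 0, 0, 3, 3, 3, 1, 2, 2, 0, 3, 3] true) (.leaf [1, 1, 3, 0, 3, 0, 2,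 1, 3, 0, 3, 3, 3, 0, 2, 2, 2, 0, 3, 3, 1, 2, 0, 2] true)) (.node (.leaf [1, 1, 1, 3, 3, 0, 2, 1, 2, 2, 2, 0, 3, 1, 2, 2, 0, 3, 0, 0, 3, 3, 0, 2] true) (.nil)))))) (.node (.node (.node (.node (.node (.leaf [1, 1, 1, 2, 0, 3, 3, 3, 1, 3, 3, 1, 2, 2, 1, 3, 0, 2, 2, 1, 2] true) (.leaf [1, 1, 1, 2, 1, 3, 1, 2, 2, 1, 2, 0, 2, 2, 0, 3, 3, 3, 0, 3, 3, 0, 3, 3] true)) (.node (.leaf [3, 3, 3, 3, 3, 3, 3, 3, 3, 3, 3, 3, 3, 3, 3, 3, 3, 3, 3, 3, 3, 3, 3] true) (.leaf [1, 1, 2, 1, 2, 2, 2, 1, 2, 2, 2, 2, 1, 3, 3, 1, 2, 0, 2, 0, 2, 2, 1, 3] true))) (.node (.node (.leaf [1, 1, 1, 3, 1, 2, 0, 2, 1, 3, 0, 2, 0, 3, 3, 3, 0, 3, 3, 3, 0, 0, 2] true) (.leaf [1, 1, 3, 1,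 2, 0, 3, 1, 2, 2, 2, 1, 3, 3, 1, 3, 0, 2, 0, 2, 1, 1, 2, 2] true)) (.node (.leaf [1, 1, 1, 1, 2, 2, 1, 2, 0, 2, 1, 3, 0, 3, 0, 2, 0, 0, 3, 0, 0, 3, 1, 2] true) (.nil)))) (.node (.node (.node (.leaf [1, 1, 2, 2, 0, 3, 0, 2, 1, 3, 0, 2, 2, 0, 2, 2, 2, 0, 3, 3, 1, 3] true) (.leaf [1, 1, 1, 2, 2, 1, 2, 2, 0, 2, 0, 3, 3, 0, 2, 2, 2, 0, 3, 0, 0, 3, 0, 2] true)) (.node (.leaf [1, 1, 1, 1, 3, 3, 1, 2, 0, 0, 0, 2, 1, 1, 2, 2, 2, 0, 0, 2, 2, 2, 0, 2] true) (.leaf [5, 3, 3, 1, 4, 0, 0, 5, 2, 4, 3, 0, 2, 2, 1, 3, 1, 1, 2, 1, 3, 1] true))) (.node (.node (.leaf [1, 1, 3, 1, 1, 2, 1, 1, 3, 0, 3, 1, 3, 0, 0, 2, 1, 3, 1, 2, 0, 2, 2] true) (.leaf [1, 1, 3, 0, 3, 1,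 3, 1, 2, 0, 3, 0, 2, 1, 2, 0, 3, 1, 3, 0, 3, 3, 0, 3] true)) (.node (.leaf [1, 1, 1, 3, 3, 3, 1, 2, 1, 3, 0, 0, 3, 1, 3, 1, 3, 0, 3, 1, 2, 2, 2, 2] true) (.nil))))) (.node (.node (.node (.node (.leaf [1, 1, 1, 3, 0, 3, 0, 2, 0, 2, 2, 1, 2, 1, 3, 3, 3, 3, 1, 2, 1, 2] true) (.leaf [1, 1, 1, 2, 0, 3, 3, 0, 2, 2, 0, 0, 2, 1, 1, 2, 2, 1, 2, 2, 1, 2, 0, 2] true)) (.node (.leaf [1, 1, 1, 1, 1, 2, 2, 1, 1, 3, 0, 3, 1, 3, 3, 0, 2, 1, 1, 1, 2, 0, 3, 3] true) (.leaf [1, 3, 1, 3, 0, 3, 3, 0, 2, 1, 2, 1, 2, 1, 3, 3, 0, 2, 1, 2, 2, 2, 0, 3] true))) (.node (.node (.leaf [1, 1, 1, 3, 0, 2, 2, 0, 3, 1, 2, 1, 2, 2, 2, 0, 3, 0, 0, 3, 0, 0, 2] true) (.leaf [1, 1, 3, 3,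 3, 1, 2, 0, 2, 1, 2, 1, 1, 3, 0, 0, 3, 0, 2, 2, 1, 3, 0, 2] true)) (.node (.leaf [1, 1, 1, 3, 1, 3, 0, 0, 3, 3, 3, 0, 3, 0, 0, 2, 1, 1, 1, 2, 1, 1, 2, 2] true) (.nil)))) (.node (.node (.node (.leaf [1, 1, 1, 1, 2, 1, 1, 2, 2, 0, 3, 1, 1, 2, 0, 3, 1, 2, 1, 3, 1, 2, 2] true) (.leaf [1, 1, 3, 1, 3, 1, 3, 0, 3, 1, 3, 1, 2, 2, 2, 0, 0, 3, 0, 3, 1, 3, 3, 3] true)) (.node (.leaf [1, 1, 1, 1, 2, 1, 1, 2, 2, 2, 0, 0, 2, 2, 2, 0, 2, 0, 0, 0, 3, 3, 1, 2] true) (.leaf [1, 1, 1, 1, 1, 1, 3, 0, 3, 0, 3, 0, 3, 0, 3] true))) (.node (.node (.leaf [1, 1, 3, 0, 3, 1, 3, 3, 3, 1, 1, 3, 0, 3, 3, 3, 3, 3, 1, 3, 0, 0, 3] true) (.leaf [1, 1, 3, 0, 2, 1, 2, 2, 2, 2, 2, 2,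 0, 3, 0, 2, 1, 3, 3, 3, 0, 0, 2, 2] true)) (.node (.leaf [1, 1, 1, 3, 0, 3, 0, 3, 1, 2, 0, 3, 3, 0, 0, 0, 3, 3, 3, 0, 0, 2, 0, 2] true) (.nil)))))))) (.node (.node (.node (.node (.node (.node (.node (.leaf [1, 3, 1, 3, 1, 3, 1, 3, 1, 3, 1, 3, 1, 3] true) (.leaf [1, 1, 1, 3, 0, 0, 2, 1, 2, 2, 0, 2, 0, 2, 2, 0, 0, 3, 3, 1, 3, 1, 1, 2] true)) (.node (.leaf [1, 1, 2, 1, 3, 3, 1, 3, 3, 3, 1, 3, 3, 3, 0, 3, 3, 1, 3, 3, 3, 1, 2] true) (.leaf [1, 1, 2, 1, 1, 2, 1, 1, 2, 1, 1, 2, 1, 1, 2, 1, 1, 2, 1, 1, 2, 1, 1, 2] true))) (.node (.node (.leaf [1, 1, 1, 1, 2, 2, 2, 0, 2, 0, 3, 1, 1, 1, 3, 1, 3, 3, 3, 0, 2, 1, 3] true) (.leaf [1, 1, 3, 1, 3, 3, 3, 0, 3, 0, 3,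 3, 0, 2, 0, 2, 2, 0, 0, 2, 0, 3, 1, 2] true)) (.node (.leaf [1, 1, 1, 1, 2, 1, 2, 0, 2, 2, 1, 2, 0, 3, 3, 3, 3, 3, 0, 2, 2, 2, 0, 2] true) (.nil)))) (.node (.node (.node (.leaf [1, 1, 3, 1, 1, 2, 1, 2, 0, 0, 3, 3, 3, 0, 2, 2, 0, 2, 2, 2, 2, 2] true) (.leaf [1, 1, 1, 2, 0, 0, 2, 2, 1, 2, 0, 3, 0, 0, 2, 2, 0, 2, 2, 1, 2, 2, 2, 2] true)) (.node (.leaf [1, 1, 1, 1, 3, 1, 1, 2, 2, 2, 1, 2, 2, 2, 1, 3, 1, 2, 0, 3, 1, 3, 0, 2] true) (.leaf [2, 2, 2, 2, 2, 2, 2, 2, 2, 2, 2, 2, 2, 2, 2, 2, 2, 2, 2, 2, 2, 2, 2] true))) (.node (.node (.leaf [1, 1, 1, 2, 1, 2, 2, 1, 1, 3, 1, 1, 2, 1, 3, 3, 3, 0, 2, 0, 2, 0, 3] true) (.leaf [1, 1, 3, 3, 3, 0, 2, 0, 2, 1, 3, 0,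 0, 2, 2, 2, 2, 2, 2, 2, 2, 1, 1, 2] true)) (.node (.leaf [1, 1, 1, 3, 1, 2, 1, 2, 2, 1, 2, 0, 0, 2, 2, 1, 2, 0, 3, 0, 0, 3, 1, 3] true) (.nil))))) (.node (.node (.node (.node (.leaf [1, 1, 2, 0, 3, 3, 1, 2, 1, 3, 0, 3, 1, 2, 1, 3, 1, 3, 3, 3, 3] true) (.leaf [1, 1, 1, 2, 1, 3, 0, 2, 2, 1, 3, 1, 3, 3, 0, 2, 1, 2, 0, 3, 1, 2, 1, 2] true)) (.node (.leaf [1, 1, 1, 1, 1, 1, 2, 2, 1, 1, 1, 3, 3, 0, 3, 1, 3, 3, 0, 3, 0, 0, 2, 2] true) (.leaf [1, 1, 2, 0, 2, 1, 2, 2, 1, 2, 0, 2, 1, 3, 3, 1, 2, 0, 2, 2, 2, 1, 2, 2] true))) (.node (.node (.leaf [1, 1, 1, 3, 3, 3, 0, 3, 0, 0, 3, 0, 2, 0, 2, 2, 1, 1, 3, 0, 3, 0, 3] true) (.leaf [1, 1, 3, 1, 2, 2, 2, 0, 0, 2, 0,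 3, 1, 2, 1, 2, 2, 0, 0, 3, 1, 1, 3, 3] true)) (.node (.leaf [1, 1, 1, 3, 1, 1, 3, 1, 2, 0, 2, 1, 2, 1, 3, 0, 0, 0, 2, 1, 1, 2, 0, 3] true) (.nil)))) (.node (.node (.node (.leaf [1, 1, 1, 1, 1, 3, 0, 0, 0, 2, 1, 2, 0, 3, 3, 1, 1, 2, 2, 0, 3, 1, 3] true) (.leaf [1, 1, 1, 2, 2, 2, 1, 2, 2, 1, 2, 1, 1, 2, 0, 3, 3, 0, 2, 2, 2, 2, 1, 3] true)) (.node (.leaf [1, 1, 1, 1, 3, 3, 0, 0, 0, 3, 1, 1, 2, 1, 3, 3, 3, 3, 0, 3, 3, 3, 1, 2] true) (.leaf [4, 3, 3, 0, 0, 3, 0, 2, 1, 2, 5, 0, 2, 0, 0, 2, 0, 2, 0, 2, 2, 1, 1, 2, 1, 1] true))) (.node (.node (.leaf [1, 1, 3, 1, 2, 0, 2, 0, 2, 2, 2, 1, 1, 2, 2, 1, 2, 2, 1, 2, 1, 3, 3] true) (.leaf [1, 1, 3, 0, 3, 0, 3, 3,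 3, 0, 2, 1, 1, 2, 1, 2, 2, 2, 1, 3, 3, 3, 3, 3] true)) (.node (.leaf [1, 1, 1, 3, 3, 0, 3, 3, 0, 2, 0, 2, 2, 1, 2, 0, 2, 2, 0, 2, 0, 3, 1, 3] true) (.nil)))))) (.node (.node (.node (.node (.node (.leaf [1, 1, 1, 3, 1, 1, 2, 0, 3, 3, 0, 2, 0, 2, 2, 0, 3, 3, 1, 2, 2] true) (.leaf [1, 1, 1, 2, 1, 1, 3, 3, 0, 0, 2, 0, 0, 2, 1, 2, 2, 0, 0, 3, 0, 2, 0, 2] true)) (.node (.leaf [1, 3, 1, 3, 3, 0, 2, 2, 0, 2, 2, 2, 2, 1, 3, 3, 3, 0, 3, 1, 3, 1, 2] true) (.leaf [1, 1, 2, 1, 2, 1, 3, 1, 3, 0, 3, 3, 1, 2, 0, 3, 3, 0, 3, 3, 0, 0, 2, 2] true))) (.node (.node (.leaf [1, 1, 1, 3, 1, 2, 1, 3, 0, 0, 3, 0, 3, 3, 0, 0, 3, 1, 2, 0, 3, 0, 2] true) (.leaf [1, 1, 3, 1, 2,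 1, 1, 3, 0, 2, 0, 0, 2, 2, 1, 2, 2, 1, 2, 2, 2, 0, 2, 2] true)) (.node (.leaf [1, 1, 1, 1, 2, 2, 1, 1, 2, 0, 3, 3, 0, 3, 0, 2, 0, 2, 0, 2, 2, 2, 0, 2] true) (.nil)))) (.node (.node (.node (.leaf [1, 1, 2, 1, 2, 2, 0, 2, 0, 3, 0, 3, 3, 0, 2, 2, 2, 2, 0, 2, 2, 2] true) (.leaf [1, 1, 1, 2, 2, 1, 3, 1, 3, 0, 3, 3, 1, 3, 1, 3, 1, 1, 3, 0, 2, 0, 2, 2] true)) (.node (.leaf [1, 1, 1, 1, 3, 1, 2, 2, 2, 1, 3, 0, 2, 0, 2, 0, 2, 2, 0, 0, 2, 2, 1, 2] true) (.leaf [4, 1, 1, 3, 5, 2, 2, 1, 3, 3, 4, 1, 1, 2, 5, 2, 2, 1, 3, 3] true))) (.node (.node (.leaf [1, 1, 1, 2, 2, 2, 2, 0, 2, 0, 2, 0, 3, 1, 1, 3, 3, 0, 3, 0, 2, 1, 3] true) (.leaf [1, 1, 3, 3, 0, 2, 0, 3, 1,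 2, 0, 3, 1, 3, 0, 2, 2, 1, 1, 3, 0, 3, 0, 3] true)) (.node (.leaf [1, 1, 1, 3, 3, 3, 1, 1, 3, 3, 3, 3, 3, 0, 3, 1, 3, 1, 3, 3, 3, 3, 3, 3] true) (.nil))))) (.node (.node (.node (.node (.leaf [1, 1, 1, 3, 3, 3, 0, 0, 2, 2, 1, 1, 2, 0, 3, 3, 1, 2, 2, 0, 0, 3] true) (.leaf [1, 1, 1, 2, 1, 2, 2, 2, 2, 2, 2, 1, 2, 0, 3, 3, 3, 1, 1, 3, 1, 3, 1, 2] true)) (.node (.leaf [1, 1, 1, 1, 1, 2, 0, 0, 0, 3, 3, 0, 2, 2, 1, 3, 3, 1, 3, 1, 2, 2, 1, 3] true) (.leaf [1, 3, 1, 3, 1, 2, 1, 2, 1, 2, 0, 3, 3, 3, 1, 3, 3, 3, 3, 1, 2, 2, 1, 2] true))) (.node (.node (.leaf [1, 1, 1, 3, 0, 2, 0, 3, 0, 3, 3, 0, 2, 0, 3, 0, 2, 2, 2, 2, 0, 0, 3] true) (.leaf [1, 1, 3, 3, 1, 2, 2,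 2, 0, 2, 2, 2, 0, 0, 2, 1, 2, 0, 0, 2, 0, 2, 0, 3] true)) (.node (.leaf [1, 1, 1, 3, 1, 3, 3, 1, 3, 0, 0, 3, 3, 1, 2, 1, 3, 1, 3, 0, 2, 2, 1, 3] true) (.nil)))) (.node (.node (.node (.leaf [1, 1, 1, 1, 3, 0, 2, 2, 2, 1, 1, 3, 3, 1, 1, 1, 3, 3, 3, 1, 3, 3, 3] true) (.leaf [1, 1, 3, 1, 3, 1, 1, 2, 0, 2, 1, 2, 2, 0, 2, 1, 3, 3, 3, 0, 0, 3, 0, 2] true)) (.node (.leaf [1, 1, 1, 1, 2, 1, 1, 1, 2, 2, 0, 2, 1, 1, 1, 2, 0, 2, 1, 1, 1, 2, 1, 2] true) (.leaf [4, 3, 0, 3, 5, 0, 3, 4, 3, 5, 1, 1, 2, 2, 2, 1, 2, 0, 2, 1, 1, 3, 1, 3] true))) (.node (.node (.leaf [1, 1, 3, 3, 3, 0, 3, 3, 3, 1, 3, 1, 2, 0, 3, 1, 1, 3, 0, 0, 3, 3, 3] true) (.leaf [1, 1, 3, 0, 2, 1,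 1, 2, 0, 2, 0, 3, 3, 3, 3, 3, 3, 3, 0, 3, 3, 0, 0, 3] true)) (.node (.leaf [1, 1, 1, 3, 0, 3, 3, 1, 2, 1, 3, 0, 2, 0, 3, 1, 3, 1, 1, 2, 2, 2, 2, 2] true) (.nil))))))) (.node (.node (.node (.node (.node (.node (.leaf [1, 1, 1, 2, 0, 3, 1, 1, 2, 2, 1, 1, 1, 2, 0, 3, 1, 1, 2, 2] true) (.leaf [1, 1, 1, 3, 0, 2, 1, 2, 2, 2, 1, 3, 0, 3, 0, 3, 0, 0, 3, 3, 3, 0, 3, 3] true)) (.node (.leaf [1, 1, 2, 0, 2, 0, 2, 1, 2, 0, 3, 3, 3, 1, 3, 0, 3, 3, 1, 2, 1, 2, 2] true) (.leaf [1, 1, 2, 1, 3, 3, 0, 3, 0, 3, 1, 2, 2, 2, 1, 2, 1, 3, 1, 3, 0, 2, 1, 2] true))) (.node (.node (.leaf [1, 1, 1, 3, 1, 1, 2, 2, 0, 3, 1, 3, 0, 3, 3, 1, 2, 1, 1, 2, 2, 2, 2] true) (.leaf [1,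 1, 3, 1, 3, 0, 3, 3, 1, 3, 0, 2, 0, 3, 3, 1, 1, 2, 1, 1, 3, 0, 3, 3] true)) (.node (.leaf [1, 1, 1, 1, 2, 0, 2, 1, 2, 2, 1, 3, 0, 3, 1, 3, 0, 2, 1, 2, 0, 3, 1, 3] true) (.nil)))) (.node (.node (.node (.leaf [1, 1, 3, 3, 1, 2, 2, 2, 1, 2, 0, 0, 3, 0, 2, 0, 3, 0, 0, 2, 0, 2] true) (.leaf [1, 1, 1, 2, 0, 2, 0, 0, 2, 2, 1, 1, 3, 3, 0, 2, 1, 1, 2, 0, 0, 2, 0, 2] true)) (.node (.leaf [1, 1, 1, 1, 3, 1, 3, 0, 0, 2, 2, 2, 0, 2, 0, 3, 0, 0, 2, 0, 0, 2, 1, 2] true) (.leaf [4, 2, 2, 0, 0, 0, 2, 1, 2, 2, 5, 1, 3, 3, 3, 0, 3, 1, 2, 1, 3, 1, 1, 1, 3, 1] true))) (.node (.node (.leaf [1, 1, 1, 2, 0, 2, 2, 1, 1, 3, 1, 2, 1, 3, 0, 3, 3, 3, 0, 2, 2, 2, 2] true) (.leaf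 [1, 1, 3, 3, 0, 3, 3, 1, 3, 1, 2, 0, 3, 1, 3, 0, 3, 3, 1, 3, 3, 3, 0, 2] true)) (.node (.leaf [1, 1, 1, 3, 3, 1, 1, 1, 3, 0, 0, 3, 0, 0, 2, 0, 2, 2, 1, 2, 2, 2, 0, 3] true) (.nil))))) (.node (.node (.node (.node (.leaf [1, 1, 1, 1, 3, 0, 0, 3, 1, 3, 1, 3, 1, 2, 2, 0, 0, 3, 1, 3, 0, 3] true) (.leaf [1, 1, 1, 2, 1, 2, 0, 3, 3, 1, 1, 3, 3, 0, 0, 2, 2, 2, 1, 3, 0, 2, 1, 3] true)) (.node (.leaf [1, 1, 1, 1, 1, 3, 3, 3, 1, 2, 2, 2, 0, 2, 0, 3, 1, 1, 3, 1, 1, 2, 0, 3] true) (.leaf [1, 1, 2, 2, 0, 2, 2, 2, 2, 1, 2, 0, 2, 1, 3, 1, 3, 0, 3, 3, 1, 2, 0, 2] true))) (.node (.node (.leaf [1, 1, 1, 3, 0, 3, 1, 1, 3, 1, 1, 2, 1, 3, 1, 3, 3, 3, 1, 1, 2, 0, 2] true)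 (.leaf [1, 1, 3, 3, 1, 3, 3, 3, 0, 0, 2, 0, 2, 1, 3, 0, 3, 3, 0, 3, 3, 0, 2, 2] true)) (.node (.leaf [1, 1, 1, 3, 1, 1, 2, 2, 2, 1, 3, 3, 0, 0, 0, 3, 1, 1, 3, 1, 3, 0, 2, 2] true) (.nil)))) (.node (.node (.node (.leaf [1, 1, 1, 1, 3, 1, 3, 3, 0, 3, 1, 2, 0, 3, 0, 0, 2, 1, 3, 1, 1, 1, 3] true) (.leaf [1, 1, 3, 1, 1, 3, 0, 0, 2, 2, 1, 2, 2, 1, 2, 0, 0, 3, 3, 0, 3, 0, 0, 2] true)) (.node (.leaf [1, 1, 1, 1, 3, 0, 0, 0, 2, 0, 2, 0, 2, 0, 2, 2, 2, 0, 0, 3, 1, 3, 0, 3] true) (.leaf [4, 3, 3, 0, 3, 3, 1, 1, 1, 2, 5, 2, 0, 0, 2, 0, 0, 3, 3, 0, 2, 2, 2, 1, 1, 2] true))) (.node (.node (.leaf [1, 1, 3, 3, 1, 3, 3, 3, 3, 1, 2, 0, 2, 1, 1, 2, 0, 0, 2, 1, 2, 0,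 3] true) (.leaf [1, 1, 3, 0, 0, 3, 1, 3, 1, 3, 3, 3, 0, 0, 2, 1, 3, 0, 0, 3, 3, 3, 3, 3] true)) (.node (.leaf [1, 1, 1, 3, 3, 0, 2, 2, 2, 0, 2, 2, 0, 2, 1, 2, 0, 3, 1, 2, 1, 3, 3, 3] true) (.nil)))))) (.node (.node (.node (.node (.node (.leaf [1, 1, 3, 3, 1, 2, 0, 2, 2, 2, 1, 1, 2, 2, 2, 1, 3, 1, 2, 0, 3] true) (.leaf [1, 1, 1, 2, 1, 3, 3, 3, 3, 1, 2, 0, 2, 0, 2, 0, 3, 1, 2, 1, 2, 0, 2, 2] true)) (.node (.leaf [1, 1, 1, 1, 1, 1, 3, 0, 3, 1, 2, 1, 3, 3, 0, 2, 0, 2, 0, 3, 3, 3, 0, 2] true) (.leaf [1, 1, 2, 0, 3, 3, 1, 3, 3, 3, 0, 0, 3, 3, 3, 1, 3, 3, 1, 3, 0, 2, 0, 3] true))) (.node (.node (.leaf [1, 1, 1, 3, 3, 1, 3, 3, 1, 3, 0, 0, 2, 2, 1, 1, 3, 3,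 3, 1, 2, 0, 3] true) (.leaf [1, 1, 3, 1, 2, 2, 1, 1, 2, 2, 1, 2, 1, 3, 1, 2, 0, 3, 1, 1, 3, 3, 0, 2] true)) (.node (.leaf [1, 1, 1, 1, 2, 2, 2, 1, 1, 3, 1, 2, 1, 2, 0, 3, 0, 0, 3, 3, 0, 0, 0, 3] true) (.nil)))) (.node (.node (.node (.leaf [1, 3, 1, 3, 0, 3, 1, 3, 1, 2, 1, 3, 0, 2, 2, 1, 2, 1, 2, 2, 2, 2] true) (.leaf [1, 1, 1, 2, 2, 0, 0, 3, 0, 2, 0, 2, 0, 2, 2, 0, 2, 0, 2, 2, 2, 0, 3, 3] true)) (.node (.leaf [1, 1, 1, 1, 3, 3, 3, 3, 1, 2, 2, 2, 1, 2, 0, 3, 0, 2, 0, 0, 3, 3, 1, 3] true) (.leaf [5, 5, 3, 3, 0, 0, 0, 3, 1, 5, 0, 5, 3, 0, 2, 2, 2, 1, 1, 2, 0, 0, 3] true))) (.node (.node (.leaf [1, 1, 3, 1, 3, 3, 1, 2, 2, 1, 3, 1, 1, 2, 0, 2, 1, 1, 2,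 1, 2, 0, 2] true) (.leaf [1, 1, 3, 0, 3, 1, 3, 0, 0, 2, 0, 3, 1, 1, 2, 1, 3, 1, 2, 0, 0, 2, 2, 2] true)) (.node (.leaf [1, 1, 1, 3, 3, 3, 3, 3, 0, 0, 0, 2, 0, 3, 0, 3, 1, 1, 3, 3, 1, 3, 0, 3] true) (.nil))))) (.node (.node (.node (.node (.leaf [1, 1, 1, 3, 0, 2, 1, 2, 2, 2, 1, 1, 2, 1, 2, 0, 3, 3, 3, 0, 3, 3] true) (.leaf [1, 1, 1, 2, 0, 3, 0, 2, 2, 1, 2, 1, 3, 3, 0, 3, 1, 2, 0, 2, 1, 1, 3, 3] true)) (.node (.leaf [1, 1, 1, 1, 1, 2, 2, 2, 2, 0, 2, 0, 3, 0, 2, 1, 2, 0, 3, 0, 2, 2, 1, 3] true) (.leaf [1, 3, 1, 2, 0, 3, 1, 2, 1, 3, 3, 0, 3, 0, 3, 3, 0, 3, 1, 3, 3, 3, 0, 3] true))) (.node (.node (.leaf [1, 1, 1, 2, 1, 3, 1, 2, 1, 3, 3, 1, 2, 2, 2, 1, 1,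 3, 3, 1, 2, 0, 3] true) (.leaf [1, 1, 3, 3, 3, 3, 3, 1, 2, 0, 3, 1, 3, 0, 3, 0, 3, 1, 2, 1, 3, 3, 3, 3] true)) (.node (.leaf [1, 1, 1, 3, 1, 3, 0, 0, 2, 0, 3, 0, 3, 1, 3, 1, 3, 0, 3, 1, 2, 1, 1, 3] true) (.nil)))) (.node (.node (.node (.leaf [1, 1, 1, 1, 2, 1, 3, 0, 0, 3, 3, 1, 3, 0, 0, 3, 0, 2, 1, 2, 2, 1, 3] true) (.leaf [1, 1, 3, 1, 3, 3, 1, 2, 1, 2, 1, 3, 0, 2, 0, 2, 2, 0, 0, 2, 0, 3, 1, 2] true)) (.node (.leaf [1, 1, 1, 1, 2, 1, 3, 0, 3, 0, 0, 2, 1, 2, 1, 3, 0, 3, 1, 3, 1, 2, 2, 2] true) (.leaf [1, 1, 1, 1, 1, 1, 3, 0, 3, 0, 3, 0, 3, 0, 3] true))) (.node (.node (.leaf [1, 1, 3, 0, 3, 0, 3, 0, 2, 0, 3, 3, 3, 0, 2, 2, 2, 0, 2, 0, 3, 0, 2] true)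 (.leaf [1, 1, 3, 0, 2, 0, 2, 1, 3, 1, 3, 3, 0, 3, 1, 2, 2, 0, 2, 1, 3, 0, 3, 3] true)) (.node (.leaf [1, 1, 1, 3, 0, 0, 3, 3, 1, 1, 2, 1, 1, 2, 2, 1, 1, 1, 2, 0, 2, 0, 2, 2] true) (.nil))))))))) (.node (.node (.node (.node (.node (.node (.node (.node (.leaf [1, 1, 1, 1, 1, 1, 1] true) (.leaf [1, 1, 1, 3, 0, 0, 0, 3, 0, 2, 1, 1, 3, 1, 1, 3, 1, 1, 3, 3, 0, 3, 0, 2] true)) (.node (.leaf [1, 1, 2, 1, 1, 2, 2, 2, 2, 0, 3, 1, 3, 3, 0, 3, 0, 2, 1, 3, 3, 1, 3] true) (.leaf [1, 1, 3, 0, 2, 2, 2, 0, 2, 1, 2, 1, 2, 0, 3, 0, 2, 1, 3, 3, 0, 3, 1, 3] true))) (.node (.node (.leaf [1, 1, 1, 1, 2, 2, 0, 2, 2, 1, 2, 0, 0, 2, 2, 0, 2, 0, 3, 0, 3, 0, 3] true) (.leaf [1,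 1, 3, 1, 3, 3, 3, 3, 3, 3, 0, 3, 1, 3, 3, 0, 2, 0, 0, 2, 0, 3, 0, 3] true)) (.node (.leaf [1, 1, 1, 1, 2, 1, 2, 0, 3, 0, 0, 0, 3, 3, 3, 3, 0, 0, 3, 0, 2, 2, 0, 3] true) (.nil)))) (.node (.node (.node (.leaf [1, 1, 3, 1, 1, 3, 1, 3, 1, 1, 3, 3, 1, 1, 2, 1, 1, 2, 2, 2, 2, 2] true) (.leaf [1, 1, 1, 2, 0, 0, 2, 1, 3, 0, 0, 3, 0, 2, 0, 3, 3, 0, 2, 2, 0, 0, 2, 2] true)) (.node (.leaf [1, 1, 1, 1, 3, 1, 1, 2, 1, 1, 2, 1, 3, 3, 3, 0, 3, 0, 2, 1, 3, 3, 1, 2] true) (.leaf [1, 3, 3, 3, 0, 3, 1, 2, 1, 3, 0, 2, 1, 3, 0, 3, 0, 3, 1, 3, 0, 3, 0, 2] true))) (.node (.node (.leaf [1, 1, 1, 2, 1, 2, 0, 3, 3, 0, 3, 1, 3, 0, 2, 1, 2, 2, 0, 3, 0, 2, 2] true) (.leaf [1,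 1, 3, 3, 3, 0, 2, 1, 3, 3, 3, 3, 0, 0, 2, 0, 2, 2, 0, 2, 2, 2, 1, 2] true)) (.node (.leaf [1, 1, 1, 3, 1, 2, 1, 3, 3, 1, 2, 2, 0, 2, 0, 0, 2, 2, 2, 0, 3, 1, 1, 3] true) (.nil))))) (.node (.node (.node (.node (.leaf [1, 1, 3, 0, 0, 2, 2, 2, 2, 2, 2, 1, 3, 1, 2, 0, 3, 3, 0, 2, 2] true) (.leaf [1, 1, 1, 2, 1, 3, 0, 2, 1, 3, 0, 3, 1, 2, 1, 2, 0, 2, 0, 2, 0, 0, 3, 3] true)) (.node (.leaf [1, 1, 1, 1, 1, 1, 2, 0, 3, 0, 3, 1, 2, 1, 3, 3, 0, 2, 0, 2, 0, 3, 3, 3] true) (.leaf [1, 1, 2, 0, 2, 1, 1, 2, 2, 2, 1, 3, 3, 1, 3, 3, 0, 3, 0, 2, 1, 2, 0, 3] true))) (.node (.node (.leaf [1, 1, 1, 3, 3, 1, 2, 2, 0, 3, 3, 3, 1, 2, 2, 1, 1, 1, 2, 0, 2, 1, 3] true) (.leaf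 [1, 1, 3, 1, 2, 2, 2, 0, 3, 0, 2, 0, 2, 2, 2, 0, 0, 2, 1, 2, 2, 2, 0, 3] true)) (.node (.leaf [1, 1, 1, 3, 1, 1, 3, 1, 2, 1, 2, 0, 2, 2, 2, 2, 2, 0, 0, 2, 0, 2, 1, 2] true) (.nil)))) (.node (.node (.node (.leaf [1, 1, 1, 1, 1, 3, 3, 0, 0, 0, 3, 0, 3, 1, 3, 0, 2, 1, 1, 2, 2, 2, 2] true) (.leaf [1, 1, 1, 2, 2, 2, 1, 3, 3, 0, 0, 2, 0, 0, 3, 0, 3, 0, 2, 2, 1, 1, 2, 2] true)) (.node (.leaf [1, 1, 1, 1, 3, 3, 3, 0, 2, 0, 0, 3, 1, 1, 1, 1, 3, 3, 3, 0, 2, 0, 0, 3] true) (.leaf [5, 0, 2, 1, 5, 2, 2, 0, 0, 5, 0, 2, 1, 5, 2, 2, 0, 0] true))) (.node (.node (.leaf [1, 1, 3, 1, 2, 1, 1, 3, 1, 2, 0, 2, 1, 2, 1, 3, 0, 3, 1, 2, 0, 3, 3] true) (.leaf [1, 1, 3, 0, 3,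 3, 3, 0, 2, 2, 1, 1, 3, 0, 0, 2, 1, 3, 0, 3, 0, 0, 3, 3] true)) (.node (.leaf [1, 1, 1, 3, 3, 3, 0, 2, 1, 3, 1, 3, 1, 3, 3, 3, 0, 2, 1, 2, 1, 3, 3, 3] true) (.nil)))))) (.node (.node (.node (.node (.node (.leaf [1, 1, 1, 1, 3, 0, 3, 1, 3, 0, 2, 1, 1, 2, 2, 2, 2, 0, 0, 3, 3] true) (.leaf [1, 1, 1, 2, 1, 1, 1, 2, 1, 1, 2, 0, 2, 1, 3, 1, 2, 2, 1, 3, 0, 2, 0, 3] true)) (.node (.leaf [1, 3, 1, 3, 1, 3, 1, 3, 3, 3, 3, 0, 2, 0, 3, 0, 3, 1, 2, 1, 3, 3, 3] true) (.leaf [1, 1, 2, 1, 3, 0, 2, 1, 2, 1, 3, 0, 2, 0, 3, 3, 0, 2, 1, 2, 0, 3, 3, 3] true))) (.node (.node (.leaf [1, 1, 1, 3, 1, 3, 3, 3, 1, 2, 2, 2, 2, 2, 1, 3, 0, 3, 3, 1, 3, 0, 3] true) (.leaf [1, 1,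 3, 1, 3, 0, 2, 2, 2, 1, 3, 3, 3, 0, 0, 2, 2, 0, 0, 2, 1, 3, 3, 3] true)) (.node (.leaf [1, 1, 1, 1, 2, 2, 1, 1, 3, 0, 2, 1, 2, 1, 2, 2, 0, 2, 2, 0, 3, 0, 2, 2] true) (.nil)))) (.node (.node (.node (.leaf [1, 1, 2, 1, 3, 0, 3, 1, 1, 2, 2, 2, 1, 1, 2, 2, 0, 3, 3, 3, 0, 2] true) (.leaf [1, 1, 1, 2, 0, 2, 2, 0, 0, 2, 2, 0, 3, 0, 2, 0, 3, 3, 1, 3, 3, 3, 1, 3] true)) (.node (.leaf [1, 1, 1, 1, 3, 1, 2, 0, 0, 3, 0, 3, 3, 0, 2, 2, 2, 1, 2, 1, 1, 2, 1, 2] true) (.leaf [4, 5] true))) (.node (.node (.leaf [1, 1, 1, 2, 2, 2, 1, 1, 2, 1, 3, 3, 1, 1, 2, 0, 3, 0, 0, 3, 3, 1, 3] true) (.leaf [1, 1, 3, 3, 0, 2, 1, 2, 0, 3, 1, 3, 3, 1, 2, 0, 2, 2, 1, 1, 2, 0, 2, 2]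 true)) (.node (.leaf [1, 1, 1, 3, 3, 1, 2, 2, 2, 1, 1, 3, 0, 3, 3, 1, 3, 1, 1, 3, 3, 1, 1, 2] true) (.nil))))) (.node (.node (.node (.node (.leaf [1, 1, 1, 3, 3, 3, 1, 3, 3, 1, 2, 0, 0, 3, 3, 3, 0, 3, 0, 0, 0, 3] true) (.leaf [1, 1, 1, 2, 1, 2, 2, 0, 2, 2, 1, 3, 0, 3, 3, 1, 3, 0, 3, 1, 1, 3, 0, 2] true)) (.node (.leaf [1, 1, 1, 1, 1, 2, 1, 2, 2, 0, 3, 1, 3, 1, 3, 1, 3, 3, 3, 3, 1, 2, 2, 2] true) (.leaf [1, 1, 2, 2, 2, 2, 2, 0, 3, 0, 3, 1, 2, 1, 3, 3, 3, 0, 3, 1, 2, 2, 0, 2] true))) (.node (.node (.leaf [1, 1, 1, 3, 0, 3, 0, 2, 2, 2, 2, 0, 3, 0, 3, 3, 1, 3, 3, 0, 3, 0, 3] true) (.leaf [1, 1, 3, 3, 1, 2, 2, 0, 3, 0, 3, 1, 3, 3, 1, 2, 2, 0, 3, 3, 1, 1,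 2, 2] true)) (.node (.leaf [1, 1, 1, 3, 1, 3, 1, 2, 0, 0, 2, 0, 3, 0, 0, 3, 0, 0, 2, 0, 0, 2, 1, 3] true) (.nil)))) (.node (.node (.node (.leaf [1, 1, 1, 1, 3, 0, 0, 2, 1, 2, 2, 2, 2, 2, 2, 2, 1, 2, 0, 0, 3, 1, 2] true) (.leaf [1, 1, 3, 1, 1, 2, 2, 1, 2, 1, 3, 3, 1, 2, 1, 2, 2, 2, 1, 3, 3, 3, 1, 3] true)) (.node (.leaf [1, 1, 1, 1, 3, 0, 2, 2, 2, 1, 1, 3, 3, 0, 0, 0, 0, 3, 3, 3, 1, 3, 3, 3] true) (.leaf [5, 3, 1, 5, 2, 2, 0, 5, 3, 0, 3, 5, 0, 0, 0, 3, 0, 0, 3, 1, 2, 0, 3] true))) (.node (.node (.leaf [1, 1, 3, 3, 3, 1, 2, 2, 0, 3, 3, 3, 3, 0, 3, 3, 0, 2, 1, 2, 0, 3, 3] true) (.leaf [1, 1, 3, 0, 0, 2, 0, 2, 2, 2, 1, 2, 2, 2, 2, 0, 3, 1, 3, 0, 2, 0,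 3, 3] true)) (.node (.leaf [1, 1, 1, 3, 0, 3, 1, 2, 0, 2, 0, 2, 2, 2, 1, 3, 3, 3, 1, 1, 3, 0, 2, 2] true) (.nil))))))) (.node (.node (.node (.node (.node (.node (.leaf [1, 1, 1, 1, 3, 3, 1, 3, 3, 1, 1, 2, 1, 2, 2, 0, 2, 1, 2, 2] true) (.leaf [1, 1, 1, 3, 0, 2, 1, 1, 1, 2, 0, 3, 1, 3, 0, 2, 1, 2, 0, 2, 2, 2, 2, 2] true)) (.node (.leaf [1, 1, 2, 0, 3, 3, 3, 1, 2, 2, 0, 2, 1, 2, 1, 3, 3, 0, 3, 1, 2, 2, 2] true) (.leaf [1, 1, 2, 1, 3, 3, 1, 3, 1, 2, 1, 1, 2, 0, 3, 0, 3, 3, 0, 3, 3, 0, 2, 2] true))) (.node (.node (.leaf [1, 1, 1, 3, 1, 1, 2, 1, 3, 3, 3, 1, 1, 3, 3, 0, 2, 1, 3, 0, 0, 2, 2] true) (.leaf [1, 1, 3, 1, 3, 0, 3, 1, 3, 1, 1, 3, 0, 2, 0, 3, 3,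 3, 3, 1, 1, 3, 3, 3] true)) (.node (.leaf [1, 1, 1, 1, 2, 0, 0, 2, 1, 2, 2, 0, 2, 2, 0, 0, 2, 0, 0, 0, 2, 0, 2, 2] true) (.nil)))) (.node (.node (.node (.leaf [1, 1, 3, 3, 1, 3, 3, 1, 3, 3, 3, 3, 3, 1, 3, 0, 0, 2, 1, 3, 0, 3] true) (.leaf [1, 1, 1, 2, 0, 2, 0, 3, 0, 2, 1, 3, 3, 1, 3, 3, 3, 1, 3, 1, 3, 3, 1, 2] true)) (.node (.leaf [1, 1, 1, 1, 3, 1, 3, 0, 3, 0, 2, 2, 2, 1, 1, 3, 1, 2, 0, 0, 0, 3, 3, 3] true) (.leaf [4, 3, 0, 2, 1, 1, 2, 0, 2, 1, 3, 1, 2, 5, 2, 1, 3, 1, 3, 1, 1, 2, 2, 2] true))) (.node (.node (.leaf [1, 1, 1, 2, 0, 2, 1, 3, 0, 3, 1, 2, 0, 2, 1, 2, 0, 3, 3, 0, 3, 1, 3] true) (.leaf [1, 1, 3, 3, 0, 3, 1, 3, 3, 0, 3, 3, 1, 1, 3, 3, 0,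 3, 1, 3, 3, 0, 3, 3] true)) (.node (.leaf [1, 1, 1, 3, 1, 2, 0, 2, 2, 0, 3, 0, 2, 1, 3, 1, 1, 2, 0, 3, 1, 3, 0, 2] true) (.nil))))) (.node (.node (.node (.node (.leaf [1, 1, 1, 1, 3, 3, 0, 2, 2, 1, 3, 3, 1, 3, 1, 2, 2, 1, 3, 0, 0, 2] true) (.leaf [1, 1, 1, 2, 1, 2, 1, 2, 2, 0, 2, 2, 1, 2, 1, 3, 3, 3, 3, 3, 0, 3, 0, 3] true)) (.node (.leaf [1, 1, 1, 1, 1, 3, 3, 3, 1, 3, 1, 2, 2, 2, 2, 2, 2, 1, 3, 3, 1, 2, 2, 2] true) (.leaf [1, 1, 2, 2, 1, 2, 2, 1, 3, 0, 2, 2, 1, 2, 0, 2, 2, 1, 2, 1, 2, 0, 3, 3] true))) (.node (.node (.leaf [1, 1, 1, 3, 3, 0, 2, 0, 0, 2, 2, 1, 3, 0, 2, 0, 0, 2, 1, 1, 2, 0, 3] true) (.leaf [1, 1, 3, 3, 1, 3, 3, 1, 2, 2, 1, 2, 2, 0, 2,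 0, 3, 1, 1, 3, 0, 3, 0, 2] true)) (.node (.leaf [1, 1, 1, 3, 1, 1, 2, 1, 2, 2, 1, 3, 1, 2, 0, 2, 0, 0, 2, 1, 3, 3, 0, 2] true) (.nil)))) (.node (.node (.node (.leaf [1, 1, 1, 1, 3, 1, 1, 3, 3, 3, 3, 1, 3, 3, 1, 3, 0, 0, 2, 1, 2, 0, 2] true) (.leaf [1, 1, 3, 1, 1, 3, 3, 0, 2, 0, 0, 3, 3, 0, 3, 3, 3, 0, 2, 0, 3, 1, 2, 2] true)) (.node (.leaf [1, 1, 1, 1, 3, 0, 3, 3, 3, 3, 3, 1, 3, 3, 3, 0, 0, 2, 0, 0, 0, 3, 3, 3] true) (.leaf [4, 2, 0, 2, 1, 1, 1, 2, 1, 3, 0, 3, 3, 5, 1, 3, 3, 1, 2, 1, 1, 2, 0, 3, 0] true))) (.node (.node (.leaf [1, 1, 3, 3, 1, 1, 2, 1, 2, 0, 2, 1, 2, 2, 0, 0, 2, 1, 3, 0, 2, 1, 3] true) (.leaf [1, 1, 3, 0, 3, 0, 2, 0, 2, 1, 2, 1, 3,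 0, 2, 0, 3, 1, 3, 1, 2, 0, 0, 2] true)) (.node (.leaf [1, 1, 1, 3, 3, 0, 2, 2, 0, 3, 3, 1, 1, 2, 1, 3, 3, 3, 3, 3, 3, 3, 1, 2] true) (.nil)))))) (.node (.node (.node (.node (.node (.leaf [1, 1, 3, 1, 1, 3, 3, 0, 3, 1, 3, 3, 0, 3, 3, 0, 3, 3, 1, 3, 3] true) (.leaf [1, 1, 1, 2, 1, 3, 3, 1, 1, 3, 3, 0, 2, 0, 3, 0, 3, 0, 2, 2, 1, 3, 1, 3] true)) (.node (.leaf [1, 1, 1, 1, 1, 1, 3, 1, 2, 1, 3, 3, 0, 2, 0, 2, 0, 3, 3, 3, 0, 2, 0, 3] true) (.leaf [1, 1, 2, 1, 2, 2, 2, 2, 2, 1, 3, 0, 3, 3, 3, 0, 3, 0, 2, 2, 2, 0, 3, 3] true))) (.node (.node (.leaf [1, 1, 1, 3, 3, 1, 3, 1, 1, 2, 0, 2, 2, 2, 2, 1, 2, 2, 1, 1, 2, 1, 2] true) (.leaf [1, 1, 3, 1, 2, 0, 3, 3, 3,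 1, 2, 1, 3, 0, 3, 1, 2, 0, 0, 2, 2, 0, 0, 3] true)) (.node (.leaf [1, 1, 1, 1, 2, 2, 0, 3, 3, 1, 2, 2, 0, 3, 3, 0, 0, 2, 1, 3, 3, 0, 2, 2] true) (.nil)))) (.node (.node (.node (.leaf [1, 1, 2, 2, 0, 2, 1, 2, 0, 2, 2, 0, 3, 0, 3, 0, 3, 1, 3, 3, 0, 2] true) (.leaf [1, 1, 1, 2, 2, 0, 3, 3, 1, 2, 1, 3, 1, 2, 0, 2, 0, 3, 3, 3, 3, 1, 1, 3] true)) (.node (.leaf [1, 1, 1, 1, 3, 3, 3, 3, 1, 1, 3, 3, 0, 3, 1, 3, 3, 3, 0, 3, 3, 1, 1, 3] true) (.leaf [4, 3, 1, 2, 2, 0, 3, 5, 2, 1, 3, 3, 1, 3, 1, 2, 1, 2, 1, 3, 3, 0, 2] true))) (.node (.node (.leaf [1, 1, 3, 1, 3, 3, 1, 1, 3, 1, 2, 0, 0, 3, 3, 3, 0, 2, 0, 2, 0, 2, 2] true) (.leaf [1, 1, 3, 0, 3, 1, 3, 3, 3, 0,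 0, 3, 0, 0, 3, 0, 2, 2, 1, 2, 0, 2, 0, 3] true)) (.node (.leaf [1, 1, 1, 3, 3, 3, 3, 3, 3, 3, 0, 0, 2, 1, 3, 0, 0, 2, 2, 2, 2, 1, 3, 3] true) (.nil))))) (.node (.node (.node (.node (.leaf [1, 1, 1, 3, 0, 0, 2, 2, 2, 2, 2, 0, 3, 0, 3, 1, 1, 2, 0, 3, 3, 3] true) (.leaf [1, 1, 1, 2, 0, 3, 0, 3, 0, 0, 3, 3, 1, 1, 2, 2, 2, 2, 0, 2, 2, 2, 1, 3] true)) (.node (.leaf [1, 1, 1, 1, 1, 2, 2, 0, 2, 2, 1, 2, 1, 1, 1, 1, 1, 2, 2, 0, 2, 2, 1, 2] true) (.leaf [1, 3, 1, 3, 0, 2, 2, 0, 2, 2, 1, 2, 2, 1, 2, 2, 1, 3, 3, 3, 0, 2, 2, 2] true))) (.node (.node (.leaf [1, 1, 1, 2, 1, 1, 1, 2, 1, 2, 0, 2, 1, 1, 3, 3, 3, 1, 3, 1, 3, 1, 3] true) (.leaf [1, 1, 3, 3, 3, 3, 1, 1,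 3, 3, 3, 3, 1, 1, 3, 3, 3, 3, 1, 1, 3, 3, 3, 3] true)) (.node (.leaf [1, 1, 1, 3, 1, 3, 0, 0, 3, 0, 2, 0, 2, 0, 3, 0, 3, 3, 0, 0, 2, 0, 2, 2] true) (.nil)))) (.node (.node (.node (.leaf [1, 1, 1, 1, 2, 1, 3, 1, 2, 0, 3, 3, 0, 3, 0, 0, 2, 2, 1, 3, 0, 3, 3] true) (.leaf [1, 1, 3, 1, 3, 3, 1, 3, 3, 0, 0, 2, 1, 3, 0, 3, 3, 0, 0, 3, 1, 3, 1, 2] true)) (.node (.leaf [1, 1, 1, 1, 2, 1, 3, 1, 3, 3, 3, 0, 0, 0, 0, 2, 0, 3, 1, 2, 2, 2, 0, 2] true) (.leaf [1, 1, 1, 1, 1, 1, 3, 0, 3, 0, 3, 0, 3, 0, 3] true))) (.node (.node (.leaf [1, 1, 3, 0, 3, 1, 2, 0, 3, 1, 2, 1, 2, 0, 3, 3, 1, 3, 1, 3, 3, 0, 2] true) (.leaf [1, 1, 3, 0, 2, 0, 3, 3, 3, 1, 2, 2, 1, 3, 3, 0,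 0, 3, 0, 2, 0, 3, 1, 3] true)) (.node (.leaf [1, 1, 1, 3, 0, 3, 0, 0, 0, 3, 3, 1, 3, 1, 2, 1, 3, 0, 3, 0, 3, 0, 2, 2] true) (.nil)))))))) (.node (.node (.node (.node (.node (.node (.node (.leaf [1, 1, 3, 0, 3, 3, 1, 3, 3, 1, 1, 3, 0, 3, 3, 1, 3, 3] true) (.leaf [1, 1, 1, 3, 0, 0, 2, 0, 2, 0, 2, 2, 1, 1, 1, 3, 0, 2, 0, 2, 2, 0, 3, 3] true)) (.node (.leaf [1, 1, 2, 1, 3, 3, 3, 3, 1, 3, 0, 2, 0, 2, 1, 2, 2, 1, 2, 0, 3, 1, 2] true) (.leaf [1, 1, 2, 1, 1, 2, 0, 3, 0, 3, 1, 3, 3, 1, 2, 1, 2, 0, 3, 1, 3, 3, 1, 3] true))) (.node (.node (.leaf [1, 1, 1, 3, 1, 1, 3, 3, 1, 3, 3, 0, 3, 1, 1, 3, 1, 1, 1, 3, 3, 1, 3] true) (.leaf [1, 1, 3, 1, 3, 3, 0, 0, 3, 3, 1,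 3, 1, 2, 0, 3, 0, 3, 0, 3, 3, 1, 1, 2] true)) (.node (.leaf [1, 1, 1, 1, 2, 0, 3, 1, 2, 1, 2, 2, 0, 0, 2, 1, 3, 1, 3, 1, 3, 3, 3, 3] true) (.nil)))) (.node (.node (.node (.leaf [1, 1, 3, 1, 3, 3, 1, 2, 1, 1, 2, 2, 0, 3, 3, 0, 3, 1, 1, 3, 3, 3] true) (.leaf [1, 1, 1, 2, 0, 2, 1, 1, 3, 3, 3, 0, 2, 1, 2, 0, 0, 3, 3, 0, 0, 0, 2, 2] true)) (.node (.leaf [1, 1, 1, 1, 3, 1, 3, 1, 2, 2, 1, 2, 1, 1, 2, 0, 0, 2, 0, 3, 1, 3, 0, 3] true) (.leaf [4, 0, 5, 2, 2, 1, 1, 1, 3, 3] true))) (.node (.node (.leaf [1, 1, 1, 2, 0, 3, 3, 3, 3, 3, 1, 2, 1, 2, 2, 0, 3, 0, 3, 0, 0, 3, 3] true) (.leaf [1, 1, 3, 3, 0, 3, 1, 1, 2, 1, 3, 0, 2, 1, 3, 0, 0, 3, 0, 0, 3, 1, 3, 3] true))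 (.node (.leaf [1, 1, 1, 3, 1, 2, 0, 0, 3, 0, 3, 3, 0, 2, 2, 2, 1, 2, 1, 3, 0, 3, 0, 3] true) (.nil))))) (.node (.node (.node (.node (.leaf [1, 1, 1, 1, 3, 1, 2, 1, 3, 1, 3, 3, 3, 1, 2, 2, 2, 1, 3, 3, 0, 3] true) (.leaf [1, 1, 1, 2, 1, 2, 1, 3, 1, 1, 3, 1, 2, 1, 3, 3, 0, 0, 0, 2, 2, 1, 3, 3] true)) (.node (.leaf [1, 1, 1, 1, 1, 3, 1, 3, 0, 3, 0, 0, 0, 3, 0, 0, 3, 1, 3, 1, 3, 1, 2, 2] true) (.leaf [1, 1, 2, 0, 2, 0, 2, 2, 2, 0, 3, 0, 2, 1, 3, 3, 3, 3, 3, 0, 3, 3, 0, 2] true))) (.node (.node (.leaf [1, 1, 1, 3, 3, 3, 0, 2, 0, 2, 1, 2, 0, 3, 0, 3, 1, 1, 2, 1, 2, 0, 3] true) (.leaf [1, 1, 3, 3, 1, 1, 3, 0, 2, 1, 1, 2, 1, 1, 3, 3, 1, 1, 3, 0, 2, 1, 1, 2]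 true)) (.node (.leaf [1, 1, 1, 3, 1, 1, 3, 0, 3, 3, 0, 3, 1, 3, 0, 0, 3, 3, 3, 3, 3, 0, 0, 2] true) (.nil)))) (.node (.node (.node (.leaf [1, 1, 1, 1, 1, 2, 2, 1, 3, 0, 3, 1, 1, 1, 2, 1, 1, 2, 0, 2, 1, 3, 3] true) (.leaf [1, 1, 1, 2, 2, 2, 0, 2, 2, 2, 2, 2, 1, 1, 3, 0, 3, 0, 2, 2, 2, 1, 1, 3] true)) (.node (.leaf [1, 1, 1, 1, 3, 3, 0, 0, 2, 0, 2, 2, 2, 2, 1, 2, 0, 2, 1, 2, 2, 0, 2, 2] true) (.leaf [4, 2, 0, 3, 1, 2, 2, 2, 1, 2, 5, 1, 3, 3, 0, 2, 0, 2, 1, 3, 1, 3, 0, 2] true))) (.node (.node (.leaf [1, 1, 3, 1, 2, 2, 2, 1, 2, 2, 2, 2, 0, 2, 0, 2, 0, 3, 3, 1, 1, 3, 3] true) (.leaf [1, 1, 3, 0, 3, 0, 2, 1, 3, 1, 1, 3, 0, 0, 2, 2, 2, 1, 1, 3, 0, 2, 0,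 3] true)) (.node (.leaf [1, 1, 1, 3, 3, 0, 2, 1, 1, 3, 0, 2, 0, 2, 2, 1, 1, 1, 3, 0, 0, 2, 1, 3] true) (.nil)))))) (.node (.node (.node (.node (.node (.leaf [1, 1, 1, 2, 1, 2, 0, 2, 1, 1, 3, 3, 0, 2, 0, 2, 0, 2, 1, 1, 2] true) (.leaf [1, 1, 1, 2, 1, 3, 1, 1, 2, 1, 2, 1, 3, 3, 0, 3, 1, 1, 3, 0, 0, 0, 2, 2] true)) (.node (.leaf [1, 3, 1, 2, 2, 2, 1, 2, 1, 2, 0, 2, 1, 3, 0, 2, 2, 1, 2, 0, 3, 0, 2] true) (.leaf [1, 1, 2, 1, 2, 2, 0, 2, 2, 1, 2, 1, 2, 1, 3, 0, 2, 2, 2, 2, 0, 2, 2, 2] true))) (.node (.node (.leaf [1, 1, 1, 3, 1, 2, 1, 2, 1, 2, 1, 1, 3, 3, 0, 3, 0, 0, 2, 2, 0, 2, 2] true) (.leaf [1, 1, 3, 1, 2, 1, 2, 0, 3, 0, 3, 0, 0, 2, 1, 1, 3, 0, 2, 2,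 0, 3, 0, 3] true)) (.node (.leaf [1, 1, 1, 1, 2, 2, 1, 3, 3, 1, 3, 0, 3, 3, 1, 1, 2, 1, 1, 2, 2, 0, 0, 2] true) (.nil)))) (.node (.node (.node (.leaf [1, 1, 2, 2, 1, 1, 2, 2, 1, 2, 0, 3, 3, 3, 3, 0, 2, 1, 2, 0, 2, 2] true) (.leaf [1, 1, 1, 2, 2, 1, 2, 1, 2, 0, 3, 3, 1, 1, 2, 2, 2, 2, 0, 2, 2, 2, 1, 3] true)) (.node (.leaf [1, 1, 1, 1, 3, 3, 1, 1, 2, 2, 1, 3, 0, 2, 2, 0, 2, 1, 2, 0, 2, 2, 0, 3] true) (.leaf [4, 3, 3, 3, 1, 3, 3, 0, 0, 3, 3, 5, 0, 2, 2, 1, 2, 0, 2, 2, 1, 3] true))) (.node (.node (.leaf [1, 1, 3, 1, 1, 3, 3, 1, 3, 3, 3, 3, 1, 3, 3, 0, 2, 1, 3, 0, 2, 0, 2] true) (.leaf [1, 1, 3, 3, 0, 2, 2, 1, 3, 3, 3, 0, 3, 0, 0, 2, 2, 1, 2, 0, 3, 3,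 0, 2] true)) (.node (.leaf [1, 1, 1, 3, 3, 3, 1, 1, 3, 0, 2, 0, 2, 1, 2, 1, 2, 2, 1, 1, 3, 3, 0, 2] true) (.nil))))) (.node (.node (.node (.node (.leaf [1, 1, 1, 3, 3, 0, 2, 0, 3, 0, 2, 1, 3, 0, 0, 2, 1, 3, 3, 0, 0, 3] true) (.leaf [1, 1, 1, 2, 0, 3, 1, 3, 1, 1, 2, 1, 2, 2, 0, 0, 3, 3, 0, 3, 3, 3, 3, 3] true)) (.node (.leaf [1, 1, 1, 1, 1, 2, 0, 2, 1, 3, 3, 1, 3, 3, 3, 0, 2, 1, 3, 3, 1, 2, 1, 2] true) (.leaf [1, 3, 1, 3, 3, 0, 3, 0, 2, 0, 2, 1, 3, 0, 2, 1, 2, 2, 2, 2, 0, 3, 0, 2] true))) (.node (.node (.leaf [1, 1, 1, 3, 0, 2, 0, 0, 2, 1, 3, 1, 2, 1, 2, 0, 0, 3, 0, 0, 3, 0, 2] true) (.leaf [1, 1, 3, 3, 3, 1, 2, 1, 3, 0, 0, 3, 1, 2, 1, 1, 2, 2, 1, 1,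 2, 2, 1, 2] true)) (.node (.leaf [1, 1, 1, 3, 1, 3, 3, 3, 0, 3, 3, 0, 2, 2, 1, 1, 3, 0, 0, 0, 3, 3, 0, 2] true) (.nil)))) (.node (.node (.node (.leaf [1, 1, 1, 1, 2, 1, 1, 1, 2, 1, 2, 2, 2, 1, 1, 3, 0, 2, 2, 0, 2, 2, 2] true) (.leaf [1, 1, 3, 1, 3, 1, 3, 3, 3, 3, 0, 0, 2, 1, 3, 1, 2, 0, 2, 0, 0, 3, 0, 3] true)) (.node (.leaf [1, 1, 1, 1, 2, 1, 1, 2, 0, 2, 1, 1, 2, 2, 1, 3, 0, 2, 2, 1, 2, 0, 2, 2] true) (.leaf [1, 1, 1, 1, 1, 1, 3, 0, 3, 0, 3, 0, 3, 0, 3] true))) (.node (.node (.leaf [1, 1, 3, 3, 0, 2, 0, 2, 0, 2, 1, 1, 2, 1, 1, 3, 0, 3, 0, 3, 0, 0, 2] true) (.leaf [1, 1, 3, 0, 2, 1, 3, 0, 0, 2, 1, 1, 2, 0, 2, 1, 3, 3, 3, 1, 3, 0, 2, 2] true)) (.node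 (.leaf [1, 1, 1, 3, 0, 3, 3, 3, 0, 2, 2, 1, 2, 2, 2, 2, 0, 3, 0, 3, 0, 2, 0, 2] true) (.nil))))))) (.node (.node (.node (.node (.node (.node (.leaf [1, 1, 3, 3, 0, 2, 1, 1, 2, 2, 0, 2, 1, 2, 0, 2, 2, 2, 1, 2] true) (.leaf [1, 1, 1, 3, 0, 2, 2, 0, 3, 3, 1, 3, 0, 3, 1, 2, 2, 1, 3, 3, 0, 2, 2, 2] true)) (.node (.leaf [1, 1, 2, 2, 1, 3, 1, 2, 0, 3, 3, 1, 3, 3, 3, 0, 2, 0, 3, 1, 3, 1, 3] true) (.leaf [1, 1, 2, 1, 3, 3, 0, 0, 3, 1, 2, 0, 3, 1, 3, 0, 2, 1, 1, 2, 0, 3, 1, 2] true))) (.node (.node (.leaf [1, 1, 1, 3, 1, 3, 1, 1, 2, 2, 2, 1, 1, 1, 2, 2, 1, 3, 0, 0, 3, 0, 3] true) (.leaf [1, 1, 3, 1, 3, 0, 3, 0, 2, 0, 3, 3, 1, 3, 0, 3, 0, 2, 0, 2, 2, 0, 3, 3]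 true)) (.node (.leaf [1, 1, 1, 1, 2, 0, 2, 2, 1, 1, 2, 1, 3, 0, 0, 2, 2, 0, 3, 0, 0, 3, 3, 3] true) (.nil)))) (.node (.node (.node (.leaf [1, 1, 3, 3, 3, 3, 0, 0, 3, 1, 2, 0, 0, 3, 0, 3, 0, 3, 1, 1, 2, 2] true) (.leaf [1, 1, 1, 2, 0, 2, 2, 1, 1, 2, 0, 2, 2, 2, 0, 3, 0, 2, 2, 1, 2, 0, 0, 2] true)) (.node (.leaf [1, 1, 1, 1, 3, 1, 2, 1, 3, 1, 3, 1, 1, 3, 3, 3, 3, 3, 0, 2, 0, 3, 3, 3] true) (.leaf [0, 1] true))) (.node (.node (.leaf [1, 1, 1, 2, 2, 1, 2, 0, 2, 2, 2, 2, 2, 0, 2, 1, 1, 3, 1, 1, 3, 1, 2] true) (.leaf [1, 1, 3, 3, 0, 0, 3, 1, 2, 2, 0, 0, 3, 0, 3, 3, 3, 1, 1, 2, 1, 2, 1, 2] true)) (.node (.leaf [1, 1, 1, 3, 3, 1, 3, 1, 1, 2, 1, 3, 1, 2, 2,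 0, 2, 1, 3, 0, 3, 1, 3, 3] true) (.nil))))) (.node (.node (.node (.node (.leaf [1, 1, 1, 3, 1, 3, 0, 3, 1, 1, 2, 0, 2, 2, 0, 2, 2, 2, 2, 0, 0, 2] true) (.leaf [1, 1, 1, 2, 1, 2, 0, 0, 3, 3, 3, 0, 3, 0, 0, 0, 2, 0, 0, 3, 3, 3, 1, 2] true)) (.node (.leaf [1, 1, 1, 1, 1, 2, 1, 3, 1, 3, 3, 3, 0, 2, 2, 2, 1, 1, 2, 1, 3, 0, 0, 2] true) (.leaf [1, 1, 2, 2, 2, 1, 3, 3, 3, 3, 0, 0, 2, 2, 0, 2, 1, 3, 3, 3, 0, 3, 0, 2] true))) (.node (.node (.leaf [1, 1, 1, 3, 0, 3, 3, 3, 3, 1, 2, 2, 0, 3, 0, 0, 2, 1, 3, 0, 3, 0, 2] true) (.leaf [1, 1, 3, 3, 1, 3, 0, 2, 1, 3, 3, 3, 3, 1, 1, 3, 0, 0, 3, 3, 3, 0, 0, 2] true)) (.node (.leaf [1, 1, 1, 3, 1, 1, 2, 2, 2, 0, 3, 0, 2,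 0, 3, 0, 0, 3, 3, 0, 3, 0, 3, 3] true) (.nil)))) (.node (.node (.node (.leaf [1, 1, 1, 1, 3, 3, 3, 0, 3, 0, 0, 3, 0, 2, 0, 2, 2, 1, 1, 1, 2, 1, 2] true) (.leaf [1, 1, 3, 1, 1, 2, 1, 3, 3, 1, 1, 2, 0, 2, 1, 1, 2, 0, 0, 3, 0, 2, 0, 3] true)) (.node (.leaf [1, 1, 1, 1, 3, 0, 2, 1, 1, 2, 1, 3, 1, 1, 1, 1, 3, 0, 2, 1, 1, 2, 1, 3] true) (.leaf [5, 0, 2, 5, 2, 2, 1, 5, 0, 2, 0, 5, 2, 2, 0, 0, 0] true))) (.node (.node (.leaf [1, 1, 3, 3, 1, 3, 0, 2, 0, 2, 1, 2, 2, 0, 3, 1, 2, 0, 2, 1, 3, 0, 2] true) (.leaf [1, 1, 3, 0, 0, 3, 3, 3, 1, 2, 1, 3, 1, 3, 3, 3, 3, 0, 3, 3, 3, 0, 3, 3] true)) (.node (.leaf [1, 1, 1, 3, 0, 3, 1, 1, 3, 0, 0, 3, 1, 3, 3, 3, 0, 2, 1,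 3, 0, 2, 0, 2] true) (.nil)))))) (.node (.node (.node (.node (.node (.leaf [1, 1, 3, 3, 3, 0, 2, 2, 2, 1, 3, 1, 3, 1, 3, 1, 1, 3, 3, 0, 3] true) (.leaf [1, 1, 1, 2, 1, 3, 3, 0, 3, 1, 2, 0, 0, 3, 3, 0, 2, 0, 3, 1, 3, 0, 3, 3] true)) (.node (.leaf [1, 1, 1, 1, 1, 1, 3, 0, 2, 1, 2, 1, 3, 1, 2, 2, 2, 1, 3, 1, 3, 1, 2, 2] true) (.leaf [1, 1, 2, 0, 3, 3, 3, 1, 3, 1, 3, 0, 3, 3, 3, 0, 2, 1, 2, 1, 3, 0, 3, 3] true))) (.node (.node (.leaf [1, 1, 1, 3, 3, 1, 3, 0, 3, 3, 1, 2, 0, 3, 3, 0, 0, 3, 1, 3, 0, 0, 3] true) (.leaf [1, 1, 3, 1, 2, 2, 1, 2, 2, 0, 0, 3, 1, 2, 1, 2, 1, 3, 3, 3, 0, 2, 2, 2] true)) (.node (.leaf [1, 1, 1, 1, 2, 2, 2, 1, 2, 0, 3, 0, 0, 3, 3,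 0, 2, 1, 1, 2, 0, 0, 0, 2] true) (.nil)))) (.node (.node (.node (.leaf [1, 1, 1, 1, 1, 1, 3, 3, 1, 3, 3, 1, 1, 3, 0, 3, 3, 1, 3, 3, 1, 1, 3] true) (.leaf [1, 1, 1, 2, 2, 0, 0, 2, 2, 1, 1, 2, 2, 2, 2, 1, 1, 2, 0, 3, 3, 3, 0, 2] true)) (.node (.leaf [1, 1, 1, 1, 3, 3, 3, 3, 0, 0, 3, 0, 2, 2, 0, 3, 0, 0, 0, 2, 1, 2, 0, 3] true) (.leaf [4, 2, 0, 2, 0, 3, 1, 1, 2, 2, 5, 0, 2, 2, 2, 2, 2, 0, 0, 3, 0, 3, 3, 0, 3, 1] true))) (.node (.node (.leaf [1, 1, 3, 1, 3, 3, 0, 3, 1, 1, 2, 1, 2, 0, 3, 1, 3, 0, 3, 1, 3, 3, 3] true) (.leaf [1, 1, 3, 0, 3, 1, 2, 2, 1, 3, 0, 0, 2, 2, 1, 1, 2, 0, 2, 2, 2, 2, 2, 2] true)) (.node (.leaf [1, 1, 1, 3, 3, 3, 3, 0, 2, 1, 3, 1,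 3, 0, 0, 3, 3, 1, 1, 2, 1, 2, 0, 2] true) (.nil))))) (.node (.node (.node (.node (.leaf [1, 1, 1, 2, 1, 2, 1, 2, 1, 3, 1, 3, 3, 1, 1, 3, 0, 3, 3, 1, 3, 3] true) (.leaf [1, 1, 1, 2, 0, 0, 3, 1, 2, 2, 0, 2, 1, 3, 1, 2, 0, 3, 3, 1, 1, 2, 2, 2] true)) (.node (.leaf [1, 1, 1, 1, 3, 1, 1, 1, 3, 3, 0, 3, 0, 0, 3, 1, 1, 1, 1, 2, 2, 1, 2, 2] true) (.leaf [1, 3, 3, 1, 2, 2, 0, 3, 1, 3, 0, 3, 1, 3, 3, 1, 2, 2, 0, 3, 1, 3, 0, 3] true))) (.node (.node (.leaf [1, 1, 1, 2, 1, 3, 3, 1, 2, 1, 1, 2, 2, 2, 2, 1, 1, 1, 2, 1, 3, 0, 3] true) (.leaf [1, 1, 3, 3, 3, 0, 3, 3, 0, 2, 2, 0, 2, 2, 0, 3, 1, 1, 3, 0, 0, 2, 2, 2] true)) (.node (.leaf [1, 1, 1, 3, 1, 3, 0, 2, 1, 2,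 0, 3, 3, 3, 1, 3, 3, 3, 3, 0, 2, 0, 2, 2] true) (.nil)))) (.node (.node (.node (.leaf [1, 1, 1, 1, 2, 0, 3, 1, 1, 2, 1, 3, 0, 2, 1, 2, 2, 0, 2, 1, 1, 1, 2] true) (.leaf [1, 1, 3, 1, 3, 3, 1, 2, 2, 2, 2, 0, 2, 1, 2, 2, 2, 0, 3, 0, 2, 2, 1, 2] true)) (.node (.leaf [1, 1, 1, 1, 2, 1, 3, 0, 2, 1, 2, 2, 0, 3, 3, 1, 1, 3, 3, 0, 2, 2, 0, 2] true) (.leaf [1, 1, 3, 0, 3, 3, 1, 3, 3, 1, 1, 3, 0, 3, 3, 1, 3, 3] true))) (.node (.node (.leaf [1, 1, 3, 0, 2, 1, 3, 0, 2, 0, 3, 3, 1, 2, 2, 1, 3, 1, 2, 0, 3, 0, 2] true) (.leaf [1, 1, 3, 0, 2, 0, 2, 2, 0, 2, 2, 0, 2, 2, 2, 1, 1, 2, 1, 3, 0, 2, 2, 2] true)) (.node (.leaf [1, 1, 1, 3, 0, 0, 3, 0, 2, 2, 1, 1, 1, 2, 2,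 2, 2, 2, 2, 2, 1, 2, 0, 3] true) (.nil)))))))))) (.node (.node (.node (.node (.node (.node (.node (.node (.node (.leaf [2] false) (.leaf [1, 1, 1, 3, 0, 0, 0, 3, 3, 3, 1, 1, 3, 3, 0, 2, 2, 0, 2, 1, 1, 2, 1, 3] true)) (.node (.leaf [1, 1, 2, 1, 1, 2, 0, 3, 0, 0, 2, 1, 2, 2, 2, 0, 2, 1, 2, 0, 2, 1, 2] true) (.leaf [1, 1, 3, 0, 2, 2, 0, 2, 0, 3, 1, 2, 1, 3, 1, 3, 0, 0, 3, 3, 0, 3, 0, 2] true))) (.node (.node (.leaf [1, 1, 1, 1, 2, 2, 0, 0, 3, 3, 3, 1, 2, 1, 1, 1, 2, 2, 2, 0, 2, 2, 2] true) (.leaf [1, 1, 3, 1, 3, 3, 3, 3, 3, 3, 1, 3, 0, 3, 0, 3, 1, 3, 3, 1, 3, 0, 2, 2] true)) (.node (.leaf [1, 1, 1, 1, 2, 1, 2, 1, 1, 2, 0, 3, 3, 0, 0, 0, 3, 3, 3, 0, 0,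 2, 0, 2] true) (.nil)))) (.node (.node (.node (.leaf [1, 1, 1, 2, 2, 1, 2, 0, 3, 3, 1, 1, 2, 1, 2, 2, 1, 3, 0, 2, 0, 3] true) (.leaf [1, 1, 1, 2, 0, 0, 2, 1, 1, 3, 0, 0, 3, 0, 3, 3, 1, 1, 2, 0, 3, 1, 1, 3] true)) (.node (.leaf [1, 1, 1, 1, 3, 1, 1, 3, 3, 1, 2, 2, 0, 0, 3, 3, 3, 0, 0, 3, 3, 1, 2, 2] true) (.leaf [1, 3, 3, 3, 3, 3, 3, 3, 3, 1, 3, 3, 0, 3, 0, 2, 1, 2, 2, 1, 2, 2, 2, 2] true))) (.node (.node (.leaf [1, 1, 1, 2, 1, 2, 0, 3, 3, 1, 3, 3, 1, 1, 1, 2, 0, 3, 0, 2, 2, 2, 2] true) (.leaf [1, 1, 3, 3, 3, 0, 0, 2, 2, 1, 1, 3, 3, 0, 3, 0, 0, 2, 2, 1, 2, 0, 3, 3] true)) (.node (.leaf [1, 1, 1, 3, 1, 2, 1, 1, 3, 0, 3, 3, 0, 2, 0, 2, 0, 3, 0, 2, 0,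 3, 0, 2] true) (.nil))))) (.node (.node (.node (.node (.leaf [1, 1, 3, 0, 3, 0, 2, 2, 0, 3, 1, 2, 2, 2, 0, 2, 2, 0, 3, 1, 3] true) (.leaf [1, 1, 1, 2, 1, 3, 0, 0, 3, 1, 3, 0, 0, 3, 0, 2, 1, 3, 0, 3, 0, 3, 1, 3] true)) (.node (.leaf [1, 1, 1, 1, 1, 1, 2, 0, 3, 3, 3, 0, 2, 0, 3, 0, 3, 1, 2, 1, 3, 3, 0, 2] true) (.leaf [1, 1, 2, 0, 2, 1, 1, 2, 2, 1, 3, 3, 3, 1, 3, 3, 3, 1, 2, 2, 2, 2, 1, 3] true))) (.node (.node (.leaf [1, 1, 1, 3, 3, 1, 2, 2, 0, 3, 1, 1, 2, 2, 1, 3, 3, 0, 2, 2, 1, 3, 3] true) (.leaf [1, 1, 3, 1, 2, 2, 2, 0, 3, 0, 0, 2, 2, 1, 3, 1, 3, 3, 3, 3, 0, 3, 1, 3] true)) (.node (.leaf [1, 1, 1, 3, 1, 1, 3, 1, 3, 0, 2, 0, 0, 0, 2, 0, 0, 3, 1, 3,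 1, 3, 3, 3] true) (.nil)))) (.node (.node (.node (.leaf [1, 1, 1, 1, 1, 3, 1, 2, 2, 0, 0, 3, 0, 3, 3, 3, 1, 3, 0, 3, 1, 3, 3] true) (.leaf [1, 1, 1, 2, 2, 2, 1, 1, 2, 1, 3, 0, 0, 2, 1, 3, 1, 3, 3, 3, 0, 2, 1, 3] true)) (.node (.leaf [1, 1, 1, 1, 3, 3, 3, 0, 0, 2, 0, 2, 0, 0, 0, 2, 1, 2, 1, 1, 2, 0, 3, 3] true) (.leaf [4, 3, 1, 1, 1, 3, 3, 0, 3, 5, 1, 1, 3, 0, 0, 2, 0, 2, 1, 2, 2, 1, 2, 2, 1] true))) (.node (.node (.leaf [1, 1, 3, 1, 3, 0, 2, 2, 1, 1, 3, 0, 2, 1, 3, 1, 1, 2, 1, 2, 0, 3, 3] true) (.leaf [1, 1, 3, 0, 3, 3, 3, 3, 1, 1, 3, 0, 0, 3, 0, 3, 1, 3, 3, 3, 3, 1, 1, 2] true)) (.node (.leaf [1, 1, 1, 3, 3, 3, 0, 0, 2, 1, 2, 0, 2, 2, 0, 2, 2, 0,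 2, 0, 0, 3, 1, 2] true) (.nil)))))) (.node (.node (.node (.node (.node (.leaf [1, 1, 1, 1, 3, 3, 0, 0, 2, 1, 3, 0, 0, 0, 3, 3, 0, 0, 2, 1, 3] true) (.leaf [1, 1, 1, 2, 1, 1, 1, 2, 1, 1, 3, 3, 0, 0, 3, 0, 2, 1, 2, 2, 0, 2, 0, 2] true)) (.node (.leaf [1, 1, 2, 2, 2, 2, 1, 2, 2, 2, 1, 3, 1, 3, 1, 3, 0, 3, 1, 2, 2, 0, 2] true) (.leaf [1, 1, 2, 1, 3, 0, 3, 0, 2, 2, 2, 1, 3, 0, 3, 3, 1, 3, 1, 2, 0, 3, 1, 3] true))) (.node (.node (.leaf [1, 1, 1, 3, 1, 3, 3, 3, 1, 3, 1, 3, 1, 2, 1, 2, 2, 1, 3, 0, 0, 3, 3] true) (.leaf [1, 1, 3, 1, 3, 0, 2, 0, 2, 2, 2, 2, 2, 1, 2, 1, 3, 0, 3, 1, 3, 1, 3, 3] true)) (.node (.leaf [1, 1, 1, 1, 2, 2, 1, 1, 3, 0, 0, 3, 0, 3, 0,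 2, 0, 2, 2, 0, 3, 0, 2, 2] true) (.nil)))) (.node (.node (.node (.leaf [1, 1, 3, 0, 2, 0, 3, 3, 3, 0, 3, 1, 1, 3, 0, 2, 0, 3, 3, 3, 0, 3] true) (.leaf [1, 1, 1, 2, 0, 2, 2, 0, 3, 3, 3, 0, 2, 0, 2, 0, 2, 2, 2, 2, 0, 3, 1, 3] true)) (.node (.leaf [1, 1, 1, 1, 3, 1, 2, 1, 2, 0, 3, 1, 1, 2, 1, 3, 3, 0, 2, 2, 2, 2, 1, 2] true) (.leaf [3, 2] true))) (.node (.node (.leaf [1, 1, 1, 2, 2, 0, 2, 1, 2, 2, 0, 3, 1, 3, 1, 1, 2, 1, 3, 1, 1, 2, 2] true) (.leaf [1, 1, 3, 3, 0, 2, 1, 3, 3, 0, 3, 1, 2, 1, 3, 1, 3, 3, 1, 3, 0, 2, 0, 3] true)) (.node (.leaf [1, 1, 1, 3, 3, 1, 2, 0, 3, 1, 1, 3, 3, 3, 0, 0, 3, 0, 0, 2, 0, 0, 2, 2] true) (.nil))))) (.node (.node (.node (.node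 (.leaf [1, 1, 1, 3, 1, 2, 0, 0, 0, 2, 1, 3, 1, 2, 2, 1, 1, 3, 1, 1, 2, 2] true) (.leaf [1, 1, 1, 2, 1, 2, 2, 0, 0, 2, 1, 2, 0, 3, 0, 0, 3, 0, 0, 3, 1, 1, 3, 3] true)) (.node (.leaf [1, 1, 1, 1, 1, 2, 1, 3, 0, 2, 0, 3, 3, 3, 0, 0, 3, 3, 3, 1, 3, 0, 2, 2] true) (.leaf [1, 1, 2, 2, 2, 2, 2, 0, 3, 3, 1, 2, 2, 1, 3, 3, 3, 3, 3, 3, 1, 3, 3, 3] true))) (.node (.node (.leaf [1, 1, 1, 3, 0, 3, 0, 0, 0, 3, 1, 3, 0, 0, 0, 3, 1, 3, 3, 0, 0, 0, 3] true) (.leaf [1, 1, 3, 3, 1, 2, 0, 2, 2, 2, 1, 1, 3, 3, 3, 1, 1, 2, 0, 0, 3, 3, 1, 2] true)) (.node (.leaf [1, 1, 1, 3, 1, 3, 1, 3, 0, 0, 0, 3, 1, 2, 1, 3, 3, 3, 0, 0, 0, 2, 2, 2] true) (.nil)))) (.node (.node (.node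 (.leaf [1, 1, 1, 1, 3, 0, 3, 0, 2, 2, 2, 2, 0, 3, 0, 3, 3, 1, 3, 1, 2, 1, 2] true) (.leaf [1, 1, 3, 1, 1, 2, 0, 2, 2, 1, 2, 2, 0, 3, 0, 0, 3, 1, 3, 0, 2, 2, 0, 2] true)) (.node (.leaf [1, 1, 1, 1, 3, 0, 2, 2, 0, 0, 2, 0, 3, 1, 3, 1, 2, 2, 0, 2, 2, 2, 0, 3] true) (.leaf [4, 3, 3, 0, 2, 0, 3, 3, 3, 3, 3, 5, 1, 2, 2, 0, 0, 0, 2, 0, 2, 1, 3, 0, 3, 3] true))) (.node (.node (.leaf [1, 1, 3, 3, 3, 1, 2, 0, 3, 0, 2, 1, 3, 1, 2, 2, 1, 2, 1, 3, 3, 3, 3] true) (.leaf [1, 1, 3, 0, 0, 3, 0, 2, 0, 2, 2, 0, 3, 3, 3, 1, 3, 3, 3, 0, 0, 2, 0, 2] true)) (.node (.leaf [1, 1, 1, 3, 0, 3, 1, 3, 0, 3, 0, 3, 1, 2, 2, 0, 3, 0, 3, 3, 3, 1, 1, 2] true) (.nil))))))) (.node (.node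 (.node (.node (.node (.node (.leaf [1, 3, 1, 3, 1, 2, 2, 0, 3, 0, 2, 1, 2, 1, 3, 1, 2, 2, 2] true) (.leaf [1, 1, 1, 3, 0, 0, 2, 2, 2, 2, 2, 2, 1, 2, 1, 2, 1, 1, 1, 2, 0, 3, 3, 3] true)) (.node (.leaf [1, 1, 2, 0, 3, 3, 3, 1, 3, 3, 1, 2, 2, 1, 3, 0, 2, 0, 3, 0, 3, 0, 3] true) (.leaf [1, 1, 2, 1, 3, 1, 2, 1, 2, 1, 1, 2, 2, 2, 1, 2, 1, 3, 1, 3, 0, 2, 1, 2] true))) (.node (.node (.leaf [1, 1, 1, 3, 1, 1, 2, 1, 1, 3, 0, 3, 3, 3, 1, 3, 3, 3, 0, 0, 3, 3, 3] true) (.leaf [1, 1, 3, 1, 3, 0, 3, 1, 1, 2, 1, 1, 2, 1, 3, 0, 0, 3, 0, 3, 0, 3, 1, 3] true)) (.node (.leaf [1, 1, 1, 1, 2, 0, 0, 0, 2, 2, 2, 1, 2, 0, 3, 0, 0, 3, 3, 0, 2, 1, 1, 2] true) (.nil)))) (.node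 (.node (.node (.leaf [1, 1, 3, 1, 2, 2, 2, 0, 2, 1, 2, 1, 1, 2, 2, 1, 1, 2, 0, 2, 1, 3] true) (.leaf [1, 1, 1, 2, 0, 2, 1, 2, 0, 3, 3, 1, 2, 2, 0, 3, 3, 0, 0, 3, 3, 1, 2, 2] true)) (.node (.leaf [1, 1, 1, 1, 3, 1, 3, 3, 0, 2, 0, 3, 3, 1, 1, 2, 0, 3, 1, 2, 1, 2, 2, 2] true) (.leaf [4, 3, 0, 3, 3, 0, 2, 2, 2, 2, 5, 2, 1, 3, 1, 1, 1, 2, 0, 2, 0, 3, 1, 3] true))) (.node (.node (.leaf [1, 1, 1, 2, 0, 0, 2, 2, 1, 2, 2, 2, 0, 2, 1, 2, 2, 0, 0, 2, 2, 2, 2] true) (.leaf [1, 1, 3, 3, 0, 3, 1, 3, 1, 2, 2, 0, 0, 2, 1, 1, 3, 0, 0, 3, 1, 3, 3, 3] true)) (.node (.leaf [1, 1, 1, 3, 1, 2, 0, 2, 0, 2, 2, 0, 3, 0, 3, 3, 1, 3, 3, 1, 2, 2, 0, 3] true) (.nil))))) (.node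 (.node (.node (.node (.leaf [1, 1, 1, 1, 3, 3, 0, 0, 2, 1, 3, 1, 1, 1, 1, 3, 3, 0, 0, 2, 1, 3] true) (.leaf [1, 1, 1, 2, 1, 2, 1, 2, 0, 2, 0, 0, 3, 3, 3, 3, 3, 1, 3, 3, 1, 2, 2, 2] true)) (.node (.leaf [1, 1, 1, 1, 1, 3, 3, 1, 2, 2, 1, 3, 0, 2, 0, 3, 3, 3, 3, 3, 3, 1, 1, 2] true) (.leaf [1, 1, 2, 2, 1, 3, 1, 1, 2, 2, 2, 0, 3, 1, 1, 2, 2, 0, 2, 1, 3, 1, 3, 3] true))) (.node (.node (.leaf [1, 1, 1, 3, 3, 0, 0, 0, 2, 0, 3, 3, 3, 1, 3, 3, 0, 3, 1, 3, 0, 0, 3] true) (.leaf [1, 1, 3, 3, 1, 3, 3, 1, 2, 1, 2, 2, 0, 0, 3, 3, 3, 3, 3, 1, 2, 1, 3, 3] true)) (.node (.leaf [1, 1, 1, 3, 1, 1, 2, 1, 3, 0, 3, 3, 0, 2, 0, 2, 2, 0, 2, 0, 2, 2, 1, 2] true) (.nil))))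 (.node (.node (.node (.leaf [1, 1, 1, 1, 3, 1, 1, 1, 3, 3, 0, 3, 0, 0, 3, 0, 0, 0, 2, 2, 1, 2, 2] true) (.leaf [1, 1, 3, 1, 1, 3, 3, 3, 1, 3, 0, 3, 3, 1, 3, 3, 0, 3, 1, 1, 3, 0, 0, 3] true)) (.node (.leaf [1, 1, 1, 1, 3, 0, 3, 3, 1, 3, 1, 2, 0, 0, 2, 2, 1, 1, 3, 0, 2, 1, 3, 3] true) (.leaf [4, 3, 1, 3, 1, 2, 2, 0, 3, 3, 3, 5, 0, 3, 0, 2, 1, 2, 0, 2, 2, 0, 0, 2, 0] true))) (.node (.node (.leaf [1, 1, 3, 3, 1, 1, 3, 3, 0, 0, 2, 0, 2, 1, 3, 1, 3, 1, 1, 3, 3, 1, 2] true) (.leaf [1, 1, 3, 0, 3, 0, 2, 1, 2, 2, 1, 3, 0, 2, 0, 3, 0, 3, 3, 1, 2, 2, 1, 3] true)) (.node (.leaf [1, 1, 1, 3, 3, 0, 2, 0, 3, 1, 2, 0, 3, 1, 3, 0, 2, 2, 1, 1, 1, 2, 1, 2] true) (.nil))))))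 (.node (.node (.node (.node (.node (.leaf [1, 1, 1, 2, 0, 3, 3, 0, 0, 2, 2, 1, 1, 3, 0, 3, 1, 3, 3, 0, 2] true) (.leaf [1, 1, 1, 2, 1, 3, 1, 2, 2, 0, 3, 3, 0, 2, 2, 0, 3, 3, 3, 0, 3, 1, 1, 3] true)) (.node (.leaf [1, 1, 1, 1, 1, 1, 3, 1, 3, 3, 0, 3, 0, 0, 2, 2, 0, 2, 2, 1, 1, 1, 3, 3] true) (.leaf [1, 1, 2, 1, 2, 2, 2, 2, 1, 3, 3, 0, 0, 2, 0, 3, 0, 2, 0, 3, 1, 3, 1, 3] true))) (.node (.node (.leaf [1, 1, 1, 3, 3, 1, 1, 2, 2, 2, 2, 1, 3, 3, 0, 2, 1, 1, 2, 0, 3, 0, 2] true) (.leaf [1, 1, 3, 1, 2, 0, 3, 3, 1, 2, 0, 3, 1, 2, 2, 1, 2, 2, 1, 3, 3, 0, 2, 2] true)) (.node (.leaf [1, 1, 1, 1, 2, 2, 1, 2, 0, 2, 2, 1, 3, 0, 2, 0, 2, 2, 0, 3, 0, 3, 0, 2] true)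 (.nil)))) (.node (.node (.node (.leaf [1, 1, 2, 2, 0, 2, 1, 3, 1, 3, 1, 1, 2, 2, 2, 2, 0, 3, 1, 2, 0, 2] true) (.leaf [1, 1, 1, 2, 2, 0, 3, 1, 3, 1, 3, 3, 3, 0, 2, 0, 2, 1, 3, 3, 0, 0, 0, 2] true)) (.node (.leaf [1, 1, 1, 1, 3, 3, 1, 2, 2, 0, 2, 1, 3, 0, 0, 2, 2, 1, 1, 3, 3, 0, 3, 3] true) (.leaf [4, 0, 4, 3, 3, 4, 1, 3, 3, 5, 3, 0, 3, 3, 0, 2, 1, 1, 2, 1, 2, 2] true))) (.node (.node (.leaf [1, 1, 3, 1, 1, 2, 1, 3, 0, 0, 2, 2, 2, 1, 1, 3, 3, 0, 0, 3, 0, 0, 2] true) (.leaf [1, 1, 3, 0, 3, 1, 3, 3, 3, 3, 1, 2, 1, 2, 2, 2, 0, 2, 2, 0, 2, 0, 2, 2] true)) (.node (.leaf [1, 1, 1, 3, 3, 3, 3, 1, 2, 1, 1, 3, 1, 1, 2, 1, 3, 1, 2, 0, 0, 2, 0, 3] true) (.nil)))))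 (.node (.node (.node (.node (.leaf [1, 1, 1, 3, 0, 0, 0, 3, 1, 3, 3, 0, 3, 1, 2, 0, 3, 0, 0, 2, 1, 3] true) (.leaf [1, 1, 1, 2, 0, 3, 0, 3, 1, 3, 3, 3, 3, 0, 2, 0, 0, 2, 0, 3, 0, 0, 3, 3] true)) (.node (.leaf [1, 1, 1, 1, 1, 2, 2, 1, 3, 0, 3, 0, 0, 0, 0, 2, 1, 1, 2, 0, 2, 1, 3, 3] true) (.leaf [1, 3, 1, 3, 0, 3, 0, 2, 0, 2, 2, 2, 2, 1, 2, 2, 1, 2, 1, 3, 3, 1, 3, 3] true))) (.node (.node (.leaf [1, 1, 1, 3, 0, 2, 2, 2, 1, 2, 2, 2, 2, 0, 3, 0, 0, 2, 1, 1, 1, 2, 2] true) (.leaf [1, 1, 3, 3, 3, 1, 2, 2, 2, 1, 2, 1, 3, 3, 3, 3, 3, 1, 2, 1, 3, 0, 2, 2] true)) (.node (.leaf [1, 1, 1, 3, 1, 3, 0, 0, 3, 0, 0, 3, 3, 1, 1, 2, 2, 2, 2, 2, 0, 3, 1, 2] true) (.nil))))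 (.node (.node (.node (.leaf [1, 1, 1, 1, 2, 1, 3, 1, 3, 3, 3, 1, 1, 1, 2, 0, 3, 1, 2, 2, 2, 0, 2] true) (.leaf [1, 1, 3, 1, 3, 1, 2, 0, 3, 0, 0, 3, 3, 1, 1, 2, 0, 2, 2, 0, 0, 3, 1, 3] true)) (.node (.leaf [1, 1, 1, 1, 2, 1, 3, 1, 3, 1, 2, 2, 2, 0, 3, 0, 0, 2, 0, 0, 3, 3, 0, 3] true) (.leaf [1, 1, 1, 1, 1, 1, 3, 0, 3, 0, 3, 0, 3, 0, 3] true))) (.node (.node (.leaf [1, 1, 3, 0, 3, 1, 3, 0, 2, 0, 3, 3, 3, 3, 3, 1, 3, 0, 3, 0, 0, 3, 3] true) (.leaf [1, 1, 3, 0, 2, 0, 3, 3, 1, 3, 3, 3, 0, 2, 2, 1, 3, 1, 3, 1, 2, 0, 0, 3] true)) (.node (.leaf [1, 1, 1, 3, 0, 3, 0, 0, 3, 0, 0, 2, 2, 0, 0, 2, 2, 0, 0, 3, 1, 3, 3, 3] true) (.nil)))))))) (.node (.node (.node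 (.node (.node (.node (.node (.leaf [1, 1, 1, 1, 1, 1, 3, 0, 3, 0, 3, 0, 3, 0, 3] true) (.leaf [1, 1, 1, 3, 0, 0, 2, 0, 3, 3, 3, 1, 3, 3, 0, 2, 1, 3, 1, 2, 2, 2, 0, 2] true)) (.node (.leaf [1, 1, 2, 1, 3, 3, 3, 1, 2, 2, 0, 2, 2, 0, 2, 2, 2, 0, 2, 1, 3, 1, 3] true) (.leaf [1, 1, 2, 1, 1, 2, 1, 3, 3, 0, 2, 2, 2, 2, 0, 2, 2, 1, 1, 2, 2, 1, 3, 3] true))) (.node (.node (.leaf [1, 1, 1, 3, 1, 1, 1, 3, 0, 0, 3, 1, 2, 2, 1, 1, 2, 1, 3, 0, 3, 3, 3] true) (.leaf [1, 1, 3, 1, 3, 3, 0, 3, 1, 3, 3, 3, 0, 3, 1, 1, 3, 0, 2, 2, 1, 3, 0, 3] true)) (.node (.leaf [1, 1, 1, 1, 2, 0, 3, 1, 3, 0, 0, 0, 3, 3, 0, 2, 2, 2, 1, 3, 3, 0, 2, 2] true) (.nil)))) (.node (.node (.node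 (.leaf [1, 1, 3, 1, 3, 1, 3, 1, 3, 1, 3, 1, 3, 1, 1, 2, 1, 2, 1, 2, 1, 2] true) (.leaf [1, 1, 1, 2, 0, 0, 2, 2, 0, 2, 0, 3, 0, 0, 3, 0, 2, 1, 1, 2, 2, 1, 3, 3] true)) (.node (.leaf [1, 1, 1, 1, 3, 1, 3, 1, 2, 2, 1, 1, 2, 2, 0, 3, 1, 2, 2, 0, 3, 3, 1, 2] true) (.leaf [4, 4, 4, 4, 4, 4, 4, 4, 4, 4, 4] true))) (.node (.node (.leaf [1, 1, 1, 2, 0, 3, 1, 3, 3, 3, 3, 3, 3, 0, 0, 2, 1, 2, 1, 1, 2, 1, 3] true) (.leaf [1, 1, 3, 3, 3, 0, 2, 2, 1, 2, 2, 2, 0, 2, 1, 1, 2, 1, 1, 3, 0, 3, 1, 3] true)) (.node (.leaf [1, 1, 1, 3, 1, 2, 1, 2, 2, 0, 0, 3, 3, 3, 3, 0, 3, 3, 1, 3, 3, 3, 1, 3] true) (.nil))))) (.node (.node (.node (.node (.leaf [1, 1, 1, 1, 1, 2, 2, 0,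 2, 2, 1, 1, 1, 3, 3, 0, 3, 1, 3, 3, 0, 3] true) (.leaf [1, 1, 1, 2, 1, 2, 1, 1, 2, 2, 1, 2, 0, 2, 2, 2, 0, 3, 0, 0, 3, 3, 0, 2] true)) (.node (.leaf [1, 1, 1, 1, 1, 3, 1, 3, 1, 3, 1, 2, 2, 0, 0, 3, 1, 3, 0, 3, 0, 0, 0, 3] true) (.leaf [1, 1, 2, 0, 2, 0, 2, 0, 3, 0, 2, 1, 2, 0, 2, 1, 3, 0, 3, 3, 3, 0, 3, 3] true))) (.node (.node (.leaf [1, 1, 1, 3, 3, 3, 0, 3, 0, 2, 1, 3, 0, 0, 2, 2, 1, 3, 1, 2, 2, 0, 2] true) (.leaf [1, 1, 3, 3, 1, 1, 3, 3, 3, 0, 0, 3, 1, 3, 1, 1, 2, 2, 2, 1, 3, 0, 0, 2] true)) (.node (.leaf [1, 1, 1, 3, 1, 1, 3, 3, 1, 2, 0, 3, 3, 1, 1, 3, 3, 3, 0, 3, 1, 1, 2, 2] true) (.nil)))) (.node (.node (.node (.leaf [1, 1, 1, 1, 1, 2, 1, 3,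 0, 0, 0, 3, 3, 0, 0, 2, 1, 3, 0, 0, 0, 3, 3] true) (.leaf [1, 1, 1, 2, 2, 2, 0, 3, 3, 1, 3, 3, 3, 1, 1, 3, 3, 3, 3, 1, 1, 2, 0, 3] true)) (.node (.leaf [1, 1, 1, 1, 3, 3, 0, 0, 2, 0, 3, 0, 0, 2, 0, 2, 1, 3, 3, 0, 3, 1, 3, 3] true) (.leaf [4, 2, 2, 0, 2, 2, 1, 2, 1, 3, 5, 0, 0, 2, 1, 1, 1, 2, 0, 3, 3, 1, 3, 1, 2, 1] true))) (.node (.node (.leaf [1, 1, 3, 1, 2, 2, 1, 1, 2, 2, 1, 3, 3, 0, 0, 3, 3, 3, 1, 3, 0, 0, 2] true) (.leaf [1, 1, 3, 0, 3, 0, 3, 0, 3, 1, 2, 0, 2, 1, 3, 3, 0, 0, 2, 2, 1, 3, 0, 3] true)) (.node (.leaf [1, 1, 1, 3, 3, 0, 0, 2, 0, 2, 2, 0, 3, 0, 0, 0, 3, 3, 0, 2, 1, 3, 0, 2] true) (.nil)))))) (.node (.node (.node (.node (.node (.leaf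 [1, 1, 1, 3, 3, 0, 3, 1, 3, 1, 2, 1, 2, 1, 2, 0, 2, 2, 0, 2, 2] true) (.leaf [1, 1, 1, 2, 1, 3, 1, 1, 3, 1, 3, 3, 3, 1, 3, 0, 2, 1, 1, 2, 1, 1, 2, 2] true)) (.node (.leaf [1, 3, 1, 3, 0, 2, 0, 3, 0, 2, 0, 2, 2, 1, 3, 3, 1, 2, 2, 2, 2, 1, 2] true) (.leaf [1, 1, 2, 1, 2, 0, 2, 0, 3, 1, 3, 0, 2, 1, 2, 2, 2, 2, 0, 2, 2, 1, 3, 3] true))) (.node (.node (.leaf [1, 1, 1, 3, 1, 2, 1, 2, 1, 3, 3, 1, 3, 1, 2, 0, 3, 3, 1, 3, 0, 3, 3] true) (.leaf [1, 1, 3, 1, 2, 1, 3, 0, 2, 1, 3, 1, 2, 1, 2, 0, 3, 0, 2, 0, 3, 1, 3, 3] true)) (.node (.leaf [1, 1, 1, 1, 2, 2, 1, 3, 1, 1, 2, 2, 2, 1, 3, 0, 3, 1, 1, 2, 1, 3, 0, 2] true) (.nil)))) (.node (.node (.node (.leaf [1, 1,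 2, 1, 2, 2, 2, 1, 2, 0, 2, 1, 1, 2, 1, 2, 2, 2, 1, 2, 0, 2] true) (.leaf [1, 1, 1, 2, 2, 1, 3, 3, 3, 0, 2, 2, 2, 2, 0, 2, 1, 2, 1, 3, 1, 1, 2, 2] true)) (.node (.leaf [1, 1, 1, 1, 3, 3, 1, 1, 2, 0, 3, 1, 2, 2, 0, 0, 2, 2, 2, 0, 3, 0, 0, 2] true) (.leaf [4, 1, 1, 3, 5, 2, 2, 0, 3, 3, 4, 0, 0, 2, 5, 2, 2, 1, 3, 3] true))) (.node (.node (.leaf [1, 1, 3, 1, 1, 3, 3, 1, 1, 2, 1, 2, 2, 1, 3, 3, 1, 2, 0, 3, 3, 0, 3] true) (.leaf [1, 1, 3, 3, 0, 2, 0, 2, 2, 2, 2, 1, 2, 1, 1, 2, 1, 3, 1, 2, 1, 1, 2, 2] true)) (.node (.leaf [1, 1, 1, 3, 3, 3, 1, 1, 3, 0, 2, 0, 0, 3, 0, 3, 0, 2, 1, 1, 3, 3, 0, 2] true) (.nil))))) (.node (.node (.node (.node (.leaf [1, 1, 1, 3,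 3, 0, 3, 3, 1, 1, 1, 2, 1, 1, 2, 1, 2, 2, 0, 0, 0, 2] true) (.leaf [1, 1, 1, 2, 0, 3, 1, 1, 1, 2, 2, 0, 3, 0, 0, 2, 2, 1, 3, 0, 2, 2, 0, 3] true)) (.node (.leaf [1, 1, 1, 1, 1, 2, 0, 0, 2, 1, 3, 1, 3, 3, 3, 0, 2, 2, 2, 1, 1, 2, 1, 3] true) (.leaf [1, 3, 1, 3, 3, 3, 3, 0, 3, 0, 2, 2, 0, 2, 2, 2, 2, 0, 3, 3, 1, 3, 3, 3] true))) (.node (.node (.leaf [1, 1, 1, 3, 0, 2, 0, 0, 3, 3, 3, 1, 2, 1, 2, 0, 2, 1, 1, 1, 2, 2, 2] true) (.leaf [1, 1, 3, 3, 1, 2, 2, 2, 2, 2, 1, 2, 0, 3, 1, 1, 2, 1, 3, 3, 3, 3, 3, 3] true)) (.node (.leaf [1, 1, 1, 3, 1, 3, 3, 3, 1, 2, 1, 1, 3, 0, 0, 0, 2, 0, 2, 1, 2, 0, 0, 2] true) (.nil)))) (.node (.node (.node (.leaf [1, 1, 1, 1,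 2, 1, 1, 1, 3, 3, 0, 3, 3, 1, 1, 1, 2, 1, 1, 2, 1, 2, 2] true) (.leaf [1, 1, 3, 1, 3, 1, 1, 2, 2, 2, 2, 1, 3, 0, 3, 0, 2, 1, 2, 2, 2, 0, 0, 3] true)) (.node (.leaf [1, 1, 1, 1, 2, 1, 1, 3, 3, 3, 3, 1, 2, 1, 3, 1, 2, 2, 1, 2, 1, 3, 1, 2] true) (.leaf [1, 1, 1, 1, 1, 1, 3, 0, 3, 0, 3, 0, 3, 0, 3] true))) (.node (.node (.leaf [1, 1, 3, 3, 0, 2, 0, 3, 0, 2, 2, 2, 0, 3, 1, 3, 1, 2, 2, 0, 2, 0, 3] true) (.leaf [1, 1, 3, 0, 2, 1, 3, 3, 1, 2, 0, 3, 0, 0, 2, 2, 2, 2, 2, 1, 3, 0, 0, 2] true)) (.node (.leaf [1, 1, 1, 3, 0, 3, 3, 3, 3, 0, 0, 3, 3, 3, 0, 3, 1, 2, 1, 2, 0, 0, 3, 3] true) (.nil))))))) (.node (.node (.node (.node (.node (.node (.leaf [1, 1, 1, 2,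 2, 1, 1, 3, 3, 3, 3, 0, 0, 3, 1, 2, 0, 2, 1, 2] true) (.leaf [1, 1, 1, 3, 0, 2, 0, 2, 0, 2, 2, 0, 3, 1, 2, 2, 0, 2, 2, 0, 3, 1, 1, 3] true)) (.node (.leaf [1, 1, 2, 0, 2, 0, 2, 0, 3, 3, 0, 2, 2, 0, 2, 1, 3, 3, 0, 3, 1, 2, 2] true) (.leaf [1, 1, 2, 1, 3, 3, 0, 0, 3, 1, 3, 1, 2, 1, 2, 2, 2, 2, 1, 1, 2, 2, 0, 3] true))) (.node (.node (.leaf [1, 1, 1, 3, 1, 1, 2, 2, 2, 0, 2, 2, 2, 2, 2, 1, 2, 1, 1, 1, 2, 2, 2] true) (.leaf [1, 1, 3, 1, 3, 0, 3, 3, 1, 2, 2, 2, 1, 2, 2, 1, 2, 0, 3, 1, 2, 2, 2, 2] true)) (.node (.leaf [1, 1, 1, 1, 2, 0, 2, 0, 2, 0, 2, 2, 2, 0, 0, 3, 1, 3, 0, 3, 0, 0, 0, 3] true) (.nil)))) (.node (.node (.node (.leaf [1, 1, 3, 3, 3, 3, 3,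 0, 2, 0, 3, 3, 1, 2, 2, 0, 3, 3, 3, 0, 2, 2] true) (.leaf [1, 1, 1, 2, 0, 2, 2, 1, 1, 1, 2, 2, 1, 2, 1, 3, 3, 0, 3, 3, 3, 0, 0, 3] true)) (.node (.leaf [1, 1, 1, 1, 3, 1, 2, 1, 1, 2, 1, 1, 3, 0, 3, 0, 2, 0, 3, 1, 1, 3, 1, 2] true) (.leaf [4, 3, 3, 0, 3, 1, 1, 1, 3, 3, 5, 0, 2, 0, 0, 0, 2, 0, 3, 0, 2, 1, 2, 2, 2, 0] true))) (.node (.node (.leaf [1, 1, 1, 2, 2, 1, 3, 1, 2, 0, 0, 2, 0, 2, 2, 2, 0, 3, 3, 1, 3, 0, 3] true) (.leaf [1, 1, 3, 3, 0, 3, 3, 0, 3, 3, 0, 3, 1, 1, 3, 3, 0, 3, 3, 0, 3, 3, 0, 3] true)) (.node (.leaf [1, 1, 1, 3, 3, 1, 1, 2, 0, 2, 1, 2, 1, 3, 1, 1, 1, 3, 0, 2, 2, 2, 1, 3] true) (.nil))))) (.node (.node (.node (.node (.leaf [1, 1, 1,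 3, 1, 3, 3, 3, 0, 2, 1, 3, 0, 0, 0, 2, 2, 2, 0, 2, 0, 3] true) (.leaf [1, 1, 1, 2, 1, 2, 0, 3, 0, 2, 1, 1, 2, 2, 1, 3, 3, 1, 1, 3, 3, 1, 3, 3] true)) (.node (.leaf [1, 1, 1, 1, 1, 3, 0, 0, 2, 1, 3, 3, 3, 3, 0, 2, 0, 3, 1, 1, 3, 0, 3, 3] true) (.leaf [1, 1, 2, 2, 2, 1, 3, 3, 1, 3, 3, 0, 3, 1, 3, 3, 1, 3, 3, 1, 3, 3, 3, 3] true))) (.node (.node (.leaf [1, 1, 1, 3, 0, 3, 3, 1, 1, 3, 3, 1, 3, 1, 3, 1, 2, 0, 3, 3, 3, 0, 2] true) (.leaf [1, 1, 3, 3, 1, 3, 3, 0, 2, 0, 3, 0, 3, 3, 0, 3, 1, 3, 1, 1, 2, 2, 1, 2] true)) (.node (.leaf [1, 1, 1, 3, 1, 1, 2, 2, 2, 0, 3, 0, 2, 0, 3, 0, 0, 3, 1, 2, 1, 2, 1, 3] true) (.nil)))) (.node (.node (.node (.leaf [1, 1, 1,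 1, 3, 3, 1, 3, 1, 2, 1, 1, 2, 1, 2, 2, 2, 1, 1, 1, 3, 0, 3] true) (.leaf [1, 1, 3, 1, 1, 3, 0, 2, 2, 0, 3, 0, 0, 2, 0, 3, 3, 0, 0, 3, 0, 2, 1, 2] true)) (.node (.leaf [1, 1, 1, 1, 3, 0, 0, 0, 2, 2, 2, 1, 1, 3, 1, 2, 1, 2, 0, 3, 0, 0, 3, 3] true) (.leaf [4, 3, 0, 2, 0, 2, 0, 2, 0, 3, 3, 5, 2, 0, 0, 0, 2, 2, 1, 2, 2, 1, 1, 3, 3] true))) (.node (.node (.leaf [1, 1, 3, 3, 1, 3, 3, 3, 0, 2, 0, 3, 3, 3, 1, 2, 1, 1, 2, 2, 0, 0, 2] true) (.leaf [1, 1, 3, 0, 0, 3, 3, 1, 2, 0, 0, 2, 0, 2, 0, 3, 1, 3, 3, 3, 3, 3, 0, 3] true)) (.node (.leaf [1, 1, 1, 3, 0, 3, 1, 1, 3, 3, 3, 3, 3, 3, 3, 0, 2, 2, 1, 1, 2, 1, 1, 2] true) (.nil)))))) (.node (.node (.node (.node (.node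 (.leaf [1, 1, 3, 3, 3, 0, 2, 2, 0, 3, 3, 3, 3, 3, 3, 0, 2, 0, 2, 2, 2] true) (.leaf [1, 1, 1, 2, 1, 3, 3, 3, 3, 3, 0, 2, 1, 1, 1, 2, 1, 3, 3, 3, 3, 3, 0, 2] true)) (.node (.leaf [1, 1, 1, 1, 1, 1, 3, 0, 0, 2, 2, 0, 2, 2, 1, 1, 1, 3, 3, 0, 3, 1, 3, 3] true) (.leaf [1, 1, 2, 0, 3, 3, 1, 2, 1, 3, 1, 3, 0, 3, 0, 3, 0, 2, 0, 3, 3, 3, 0, 3] true))) (.node (.node (.leaf [1, 1, 1, 3, 3, 1, 3, 3, 0, 3, 1, 3, 0, 3, 3, 3, 3, 1, 3, 1, 1, 2, 2] true) (.leaf [1, 1, 3, 1, 2, 2, 1, 3, 0, 3, 0, 2, 1, 2, 0, 3, 3, 1, 3, 3, 3, 3, 1, 2] true)) (.node (.leaf [1, 1, 1, 1, 2, 2, 2, 1, 1, 2, 2, 2, 0, 2, 2, 2, 1, 2, 0, 0, 3, 0, 0, 2] true) (.nil)))) (.node (.node (.node (.leaf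 [1, 3, 1, 2, 2, 1, 2, 2, 2, 2, 2, 1, 3, 1, 2, 2, 1, 2, 2, 2, 2, 2] true) (.leaf [1, 1, 1, 2, 2, 0, 0, 2, 0, 3, 0, 0, 3, 3, 3, 3, 3, 3, 0, 0, 2, 2, 0, 2] true)) (.node (.leaf [1, 1, 1, 1, 3, 3, 3, 3, 0, 0, 3, 0, 2, 2, 1, 2, 0, 2, 1, 3, 3, 0, 0, 2] true) (.leaf [4, 3, 1, 1, 2, 0, 0, 2, 2, 5, 1, 2, 0, 0, 2, 2, 1, 3, 3, 0, 0, 3, 1, 1, 3, 0] true))) (.node (.node (.leaf [1, 1, 3, 1, 3, 3, 3, 0, 2, 0, 2, 1, 1, 3, 1, 2, 0, 0, 3, 1, 2, 0, 3] true) (.leaf [1, 1, 3, 0, 3, 1, 2, 1, 2, 2, 1, 1, 3, 0, 0, 3, 1, 3, 3, 1, 2, 0, 0, 3] true)) (.node (.leaf [1, 1, 1, 3, 3, 3, 3, 0, 3, 1, 3, 3, 1, 2, 0, 3, 3, 1, 3, 1, 1, 3, 0, 2] true) (.nil))))) (.node (.node (.node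 (.node (.leaf [1, 1, 1, 2, 1, 1, 3, 1, 2, 2, 2, 1, 1, 1, 2, 1, 1, 3, 1, 2, 2, 2] true) (.leaf [1, 1, 1, 2, 0, 3, 0, 2, 2, 2, 2, 0, 2, 1, 1, 2, 0, 2, 1, 3, 3, 0, 3, 3] true)) (.node (.leaf [1, 1, 1, 1, 1, 2, 2, 2, 2, 2, 2, 1, 3, 1, 2, 0, 3, 3, 0, 2, 2, 1, 1, 3] true) (.leaf [1, 3, 3, 1, 2, 0, 3, 0, 2, 1, 2, 2, 1, 3, 3, 1, 2, 0, 3, 0, 2, 1, 2, 2] true))) (.node (.node (.leaf [1, 1, 1, 2, 1, 3, 3, 1, 3, 0, 3, 1, 3, 3, 1, 2, 0, 3, 3, 0, 0, 2, 2] true) (.leaf [1, 1, 3, 3, 3, 3, 0, 2, 2, 2, 2, 1, 2, 2, 2, 0, 3, 3, 1, 3, 1, 2, 2, 2] true)) (.node (.leaf [1, 1, 1, 3, 1, 3, 0, 2, 1, 3, 0, 0, 0, 2, 0, 3, 3, 3, 1, 2, 0, 3, 1, 2] true) (.nil)))) (.node (.node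 (.node (.leaf [1, 1, 1, 1, 2, 1, 3, 0, 2, 1, 1, 2, 1, 1, 3, 0, 2, 2, 2, 0, 3, 0, 2] true) (.leaf [1, 1, 3, 1, 3, 3, 1, 2, 2, 0, 2, 2, 2, 2, 2, 0, 2, 0, 3, 1, 2, 0, 2, 2] true)) (.node (.leaf [1, 1, 1, 1, 2, 1, 3, 0, 0, 3, 1, 1, 3, 1, 2, 0, 3, 3, 1, 1, 3, 1, 2, 2] true) (.leaf [1, 1, 1, 1, 1, 1, 3, 0, 3, 0, 3, 0, 3, 0, 3] true))) (.node (.node (.leaf [1, 1, 3, 0, 2, 1, 3, 0, 0, 2, 1, 3, 0, 2, 2, 1, 3, 1, 2, 2, 2, 0, 2] true) (.leaf [1, 1, 3, 0, 2, 0, 2, 1, 3, 3, 0, 2, 2, 2, 1, 3, 1, 1, 2, 2, 1, 3, 0, 3] true)) (.node (.leaf [1, 1, 1, 3, 0, 0, 3, 3, 1, 2, 1, 1, 3, 3, 0, 3, 3, 1, 1, 3, 0, 2, 1, 2] true) (.nil))))))))) (.node (.node (.node (.node (.node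 (.node (.node (.node (.leaf [1, 2, 1, 2, 1, 2, 1, 2, 1, 2] true) (.leaf [1, 1, 1, 3, 0, 0, 0, 2, 1, 3, 3, 0, 0, 0, 2, 1, 3, 3, 3, 1, 3, 0, 0, 3] true)) (.node (.leaf [1, 1, 2, 1, 3, 1, 3, 1, 2, 2, 1, 2, 0, 3, 0, 0, 3, 0, 3, 3, 0, 0, 3] true) (.leaf [1, 1, 3, 0, 2, 2, 2, 2, 2, 1, 3, 3, 1, 3, 3, 1, 2, 2, 2, 2, 1, 3, 1, 2] true))) (.node (.node (.leaf [1, 1, 1, 1, 2, 2, 2, 1, 3, 0, 0, 2, 1, 2, 1, 3, 3, 3, 3, 3, 1, 1, 2] true) (.leaf [1, 1, 3, 1, 3, 3, 3, 0, 3, 0, 3, 1, 2, 0, 3, 0, 3, 3, 3, 3, 3, 0, 0, 2] true)) (.node (.leaf [1, 1, 1, 1, 2, 1, 2, 0, 2, 2, 1, 3, 3, 3, 1, 3, 1, 1, 3, 0, 2, 0, 3, 3] true) (.nil)))) (.node (.node (.node (.leaf [1, 1, 3, 1,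 1, 3, 1, 3, 0, 3, 1, 1, 2, 1, 1, 2, 1, 3, 0, 2, 1, 2] true) (.leaf [1, 1, 1, 2, 0, 0, 2, 2, 1, 2, 0, 3, 3, 0, 3, 3, 1, 3, 3, 1, 1, 2, 2, 2] true)) (.node (.leaf [1, 1, 1, 1, 3, 1, 1, 2, 1, 3, 3, 3, 3, 0, 3, 3, 3, 1, 2, 0, 0, 0, 3, 3] true) (.leaf [1, 3, 3, 0, 2, 2, 1, 2, 1, 3, 3, 0, 2, 2, 1, 2, 1, 3, 3, 0, 2, 2, 1, 2] true))) (.node (.node (.leaf [1, 1, 1, 2, 1, 2, 0, 2, 1, 3, 1, 1, 3, 0, 0, 3, 0, 3, 3, 0, 2, 0, 2] true) (.leaf [1, 1, 3, 3, 3, 0, 2, 1, 3, 0, 2, 2, 0, 3, 1, 3, 1, 1, 2, 0, 2, 2, 1, 3] true)) (.node (.leaf [1, 1, 1, 3, 1, 2, 1, 2, 1, 2, 0, 3, 0, 0, 0, 2, 2, 1, 2, 2, 0, 0, 0, 3] true) (.nil))))) (.node (.node (.node (.node (.leaf [1, 1,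 2, 1, 3, 3, 0, 2, 0, 2, 0, 3, 3, 3, 0, 2, 2, 1, 2, 1, 2] true) (.leaf [1, 1, 1, 2, 1, 3, 0, 2, 1, 2, 1, 1, 3, 0, 3, 1, 1, 3, 3, 3, 3, 1, 3, 3] true)) (.node (.leaf [1, 1, 1, 1, 1, 1, 2, 0, 2, 0, 3, 3, 3, 0, 2, 0, 3, 0, 3, 1, 2, 1, 3, 3] true) (.leaf [1, 1, 2, 0, 2, 1, 3, 0, 3, 3, 0, 0, 3, 0, 2, 2, 0, 2, 1, 3, 3, 0, 2, 2] true))) (.node (.node (.leaf [1, 1, 1, 3, 3, 3, 3, 3, 3, 1, 3, 3, 0, 3, 1, 2, 1, 2, 2, 0, 0, 3, 3] true) (.leaf [1, 1, 3, 1, 2, 2, 2, 0, 0, 3, 0, 3, 0, 3, 1, 2, 2, 1, 1, 2, 0, 2, 1, 3] true)) (.node (.leaf [1, 1, 1, 3, 1, 1, 3, 1, 2, 0, 0, 2, 0, 0, 0, 2, 1, 2, 0, 0, 3, 1, 1, 3] true) (.nil)))) (.node (.node (.node (.leaf [1, 1, 1,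 1, 1, 3, 0, 3, 3, 3, 1, 3, 0, 3, 1, 3, 3, 0, 0, 3, 1, 2, 2] true) (.leaf [1, 1, 1, 2, 2, 2, 1, 3, 3, 0, 0, 2, 0, 2, 1, 2, 1, 2, 2, 2, 1, 1, 2, 2] true)) (.node (.leaf [1, 1, 1, 1, 3, 3, 0, 3, 0, 0, 3, 1, 1, 3, 1, 1, 2, 1, 2, 0, 2, 0, 2, 2] true) (.leaf [4, 3, 1, 2, 0, 2, 2, 0, 2, 1, 2, 5, 1, 1, 3, 1, 2, 2, 2, 2, 1, 3, 1, 3, 3] true))) (.node (.node (.leaf [1, 1, 3, 1, 2, 1, 2, 0, 3, 1, 2, 2, 1, 3, 0, 3, 0, 0, 3, 3, 3, 1, 2] true) (.leaf [1, 1, 3, 0, 3, 0, 3, 1, 2, 2, 1, 2, 0, 2, 2, 2, 0, 3, 0, 0, 3, 3, 0, 2] true)) (.node (.leaf [1, 1, 1, 3, 3, 0, 3, 1, 1, 3, 3, 1, 2, 0, 3, 3, 0, 3, 1, 1, 3, 1, 2, 2] true) (.nil)))))) (.node (.node (.node (.node (.node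 (.leaf [1, 1, 1, 1, 2, 1, 2, 0, 3, 3, 1, 1, 2, 2, 0, 3, 1, 3, 0, 0, 3] true) (.leaf [1, 1, 1, 2, 1, 1, 1, 2, 2, 0, 2, 1, 1, 1, 2, 0, 2, 1, 1, 3, 0, 3, 0, 3] true)) (.node (.leaf [1, 3, 1, 3, 1, 2, 2, 2, 1, 2, 1, 2, 1, 2, 2, 1, 2, 1, 3, 1, 2, 2, 2] true) (.leaf [1, 1, 2, 1, 3, 0, 2, 2, 1, 3, 1, 3, 3, 0, 2, 1, 2, 0, 3, 3, 0, 3, 0, 3] true))) (.node (.node (.leaf [1, 1, 1, 3, 1, 3, 3, 3, 3, 0, 2, 0, 3, 3, 3, 3, 3, 3, 0, 3, 3, 0, 2] true) (.leaf [1, 1, 3, 1, 2, 1, 1, 3, 3, 3, 0, 0, 2, 1, 2, 0, 3, 1, 2, 2, 1, 2, 1, 3] true)) (.node (.leaf [1, 1, 1, 1, 2, 2, 1, 1, 2, 1, 2, 1, 3, 3, 0, 3, 0, 2, 2, 2, 2, 2, 1, 3] true) (.nil)))) (.node (.node (.node (.leaf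 [1, 1, 2, 1, 2, 2, 0, 3, 3, 3, 0, 3, 1, 1, 2, 0, 3, 3, 1, 2, 1, 3] true) (.leaf [1, 1, 1, 2, 2, 1, 3, 1, 1, 2, 1, 3, 3, 1, 1, 3, 0, 3, 1, 1, 2, 1, 1, 2] true)) (.node (.leaf [1, 1, 1, 1, 3, 1, 2, 2, 1, 2, 2, 2, 2, 2, 2, 1, 3, 1, 2, 2, 2, 2, 0, 2] true) (.leaf [5, 4] true))) (.node (.node (.leaf [1, 1, 1, 2, 2, 2, 1, 3, 1, 2, 2, 2, 2, 2, 0, 0, 2, 0, 2, 0, 3, 0, 2] true) (.leaf [1, 1, 3, 3, 0, 2, 0, 3, 1, 1, 3, 0, 2, 1, 3, 3, 1, 3, 1, 3, 3, 3, 3, 3] true)) (.node (.leaf [1, 1, 1, 3, 3, 1, 2, 2, 2, 1, 3, 3, 1, 3, 3, 3, 3, 0, 0, 3, 0, 0, 0, 3] true) (.nil))))) (.node (.node (.node (.node (.leaf [1, 1, 1, 3, 3, 3, 1, 3, 3, 3, 0, 0, 0, 3, 0, 2, 2, 2, 1,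 1, 3, 3] true) (.leaf [1, 1, 1, 2, 1, 2, 2, 2, 1, 3, 1, 2, 1, 3, 3, 0, 0, 2, 0, 2, 2, 0, 0, 2] true)) (.node (.leaf [1, 1, 1, 1, 1, 2, 1, 2, 2, 0, 0, 2, 0, 2, 0, 2, 0, 3, 3, 3, 1, 2, 2, 2] true) (.leaf [1, 3, 1, 3, 1, 3, 0, 2, 1, 3, 1, 2, 2, 2, 1, 2, 0, 2, 1, 2, 2, 1, 2, 2] true))) (.node (.node (.leaf [1, 1, 1, 3, 0, 2, 1, 1, 2, 1, 1, 3, 1, 2, 1, 2, 0, 3, 1, 3, 0, 3, 3] true) (.leaf [1, 1, 3, 3, 1, 2, 2, 0, 0, 3, 1, 3, 3, 0, 2, 2, 1, 3, 0, 3, 1, 3, 1, 3] true)) (.node (.leaf [1, 1, 1, 3, 1, 3, 3, 1, 3, 3, 3, 1, 2, 0, 0, 0, 3, 1, 3, 1, 3, 3, 1, 3] true) (.nil)))) (.node (.node (.node (.leaf [1, 1, 1, 1, 3, 0, 2, 1, 1, 2, 1, 3, 0, 0, 0, 3, 0, 2, 1,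 1, 2, 1, 3] true) (.leaf [1, 1, 3, 1, 3, 1, 1, 2, 1, 3, 1, 1, 2, 2, 1, 1, 3, 0, 0, 2, 2, 0, 2, 2] true)) (.node (.leaf [1, 1, 1, 1, 2, 1, 1, 1, 3, 3, 0, 3, 3, 0, 0, 0, 0, 2, 1, 1, 2, 1, 2, 2] true) (.leaf [5, 3, 5, 2, 2, 5, 3, 1, 4, 3, 3, 0, 2, 1, 2, 0, 3, 1, 3, 1, 1, 3, 0] true))) (.node (.node (.leaf [1, 1, 3, 3, 3, 1, 2, 2, 0, 0, 3, 3, 3, 1, 1, 2, 2, 2, 0, 0, 3, 1, 3] true) (.leaf [1, 1, 3, 0, 2, 1, 1, 3, 0, 2, 2, 0, 2, 1, 2, 1, 3, 1, 3, 0, 2, 1, 3, 3] true)) (.node (.leaf [1, 1, 1, 3, 0, 3, 1, 2, 2, 1, 3, 0, 3, 3, 0, 3, 1, 2, 0, 3, 3, 3, 3, 3] true) (.nil))))))) (.node (.node (.node (.node (.node (.node (.leaf [1, 1, 1, 2, 1, 1, 2, 0, 2, 1, 3,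 3, 0, 0, 2, 2, 1, 3, 0, 3] true) (.leaf [1, 1, 1, 3, 0, 2, 1, 1, 3, 3, 0, 0, 2, 1, 3, 3, 3, 3, 0, 3, 3, 3, 3, 3] true)) (.node (.leaf [1, 1, 2, 0, 2, 1, 3, 3, 3, 3, 0, 0, 2, 2, 2, 1, 3, 0, 2, 1, 3, 0, 2] true) (.leaf [1, 1, 2, 1, 3, 3, 3, 3, 1, 3, 3, 3, 3, 1, 3, 3, 0, 3, 1, 2, 2, 0, 2, 2] true))) (.node (.node (.leaf [1, 1, 1, 3, 1, 1, 2, 2, 1, 2, 0, 3, 0, 3, 3, 1, 1, 1, 3, 0, 3, 1, 2] true) (.leaf [1, 1, 3, 1, 3, 0, 3, 1, 3, 0, 0, 2, 1, 3, 0, 0, 3, 0, 3, 3, 1, 2, 0, 2] true)) (.node (.leaf [1, 1, 1, 1, 2, 0, 2, 1, 3, 3, 1, 3, 3, 3, 0, 2, 1, 3, 3, 3, 0, 3, 0, 3] true) (.nil)))) (.node (.node (.node (.leaf [1, 1, 3, 3, 1, 2, 0, 3, 3, 1, 3, 3, 0, 2,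 0, 2, 1, 1, 3, 3, 0, 2] true) (.leaf [1, 1, 1, 2, 0, 2, 0, 0, 2, 0, 3, 3, 3, 1, 3, 0, 3, 1, 3, 0, 0, 2, 0, 2] true)) (.node (.leaf [1, 1, 1, 1, 3, 1, 3, 0, 0, 0, 3, 1, 3, 3, 0, 0, 0, 3, 1, 1, 1, 3, 0, 3] true) (.leaf [4, 3, 0, 2, 0, 3, 1, 3, 0, 0, 3, 1, 2, 5, 3, 3, 3, 0, 0, 2, 0, 2, 0, 3] true))) (.node (.node (.leaf [1, 1, 1, 2, 0, 2, 1, 3, 0, 0, 3, 3, 1, 1, 3, 1, 1, 2, 2, 0, 2, 0, 3] true) (.leaf [1, 1, 3, 3, 0, 3, 1, 2, 1, 3, 3, 1, 2, 0, 3, 3, 0, 3, 1, 3, 1, 2, 0, 3] true)) (.node (.leaf [1, 1, 1, 3, 1, 2, 2, 1, 2, 1, 1, 2, 0, 0, 2, 1, 3, 3, 0, 2, 0, 2, 0, 2] true) (.nil))))) (.node (.node (.node (.node (.leaf [1, 1, 1, 1, 3, 0, 3, 3, 1, 2, 0, 3,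 3, 0, 2, 2, 0, 2, 2, 2, 1, 3] true) (.leaf [1, 1, 1, 2, 1, 2, 0, 3, 1, 3, 3, 1, 2, 2, 0, 2, 0, 3, 3, 0, 0, 3, 3, 3] true)) (.node (.leaf [1, 1, 1, 1, 1, 3, 3, 3, 1, 3, 0, 2, 2, 0, 0, 2, 1, 3, 0, 2, 0, 3, 3, 3] true) (.leaf [1, 1, 2, 2, 0, 3, 3, 3, 3, 3, 1, 2, 2, 2, 2, 2, 1, 3, 3, 3, 1, 3, 1, 2] true))) (.node (.node (.leaf [1, 1, 1, 3, 3, 0, 2, 2, 1, 1, 2, 2, 2, 1, 1, 3, 3, 0, 2, 2, 0, 0, 2] true) (.leaf [1, 1, 3, 3, 1, 3, 3, 3, 3, 0, 0, 2, 1, 1, 3, 0, 3, 3, 0, 0, 3, 3, 3, 3] true)) (.node (.leaf [1, 1, 1, 3, 1, 1, 2, 0, 0, 0, 2, 1, 1, 1, 3, 1, 2, 0, 0, 3, 0, 2, 1, 3] true) (.nil)))) (.node (.node (.node (.leaf [1, 1, 1, 1, 3, 1, 1, 2, 2, 2, 0, 3,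 3, 3, 1, 3, 0, 2, 2, 0, 3, 0, 2] true) (.leaf [1, 1, 3, 1, 1, 3, 0, 3, 3, 0, 3, 3, 1, 1, 2, 2, 1, 2, 2, 0, 0, 3, 1, 3] true)) (.node (.leaf [1, 1, 1, 1, 3, 0, 3, 0, 0, 3, 3, 0, 3, 3, 3, 3, 1, 3, 0, 0, 2, 0, 2, 2] true) (.leaf [4, 2, 1, 1, 2, 0, 0, 2, 0, 2, 5, 3, 0, 3, 1, 3, 0, 2, 2, 0, 2, 2, 1, 3, 1, 2] true))) (.node (.node (.leaf [1, 1, 3, 3, 1, 3, 1, 1, 2, 0, 2, 2, 2, 2, 1, 2, 2, 1, 3, 0, 3, 0, 3] true) (.leaf [1, 1, 3, 0, 3, 0, 2, 0, 2, 0, 3, 0, 3, 0, 3, 3, 3, 3, 3, 3, 0, 3, 0, 3] true)) (.node (.leaf [1, 1, 1, 3, 3, 0, 2, 2, 0, 0, 2, 2, 2, 1, 1, 2, 0, 0, 3, 1, 3, 0, 3, 3] true) (.nil)))))) (.node (.node (.node (.node (.node (.leaf [1, 1, 3, 1,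 1, 2, 0, 3, 0, 0, 3, 3, 3, 1, 2, 2, 2, 0, 2, 0, 3] true) (.leaf [1, 1, 1, 2, 1, 3, 3, 1, 1, 3, 3, 0, 2, 2, 1, 2, 1, 2, 2, 2, 1, 3, 1, 3] true)) (.node (.leaf [1, 1, 1, 1, 1, 1, 3, 3, 3, 0, 2, 0, 3, 0, 3, 1, 2, 1, 3, 3, 0, 2, 0, 2] true) (.leaf [1, 1, 2, 0, 3, 3, 1, 3, 1, 3, 1, 2, 2, 0, 3, 1, 2, 0, 2, 0, 2, 2, 0, 2] true))) (.node (.node (.leaf [1, 1, 1, 3, 3, 1, 3, 1, 3, 0, 3, 0, 0, 2, 0, 0, 2, 1, 1, 2, 1, 2, 2] true) (.leaf [1, 1, 3, 1, 2, 0, 3, 0, 0, 3, 1, 2, 1, 2, 0, 3, 0, 0, 3, 1, 3, 1, 3, 3] true)) (.node (.leaf [1, 1, 1, 1, 2, 2, 0, 2, 2, 1, 3, 0, 3, 0, 0, 0, 3, 3, 3, 3, 1, 2, 1, 3] true) (.nil)))) (.node (.node (.node (.leaf [1, 3, 1, 3, 0,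 3, 1, 3, 1, 2, 1, 3, 0, 2, 0, 3, 0, 3, 0, 2, 2, 2] true) (.leaf [1, 1, 1, 2, 2, 0, 3, 0, 2, 0, 0, 2, 2, 1, 2, 1, 2, 0, 0, 2, 2, 0, 3, 3] true)) (.node (.leaf [1, 1, 1, 1, 3, 3, 3, 3, 1, 2, 1, 3, 0, 0, 0, 2, 2, 0, 2, 2, 1, 3, 0, 3] true) (.leaf [5, 3, 1, 3, 4, 1, 1, 5, 1, 3, 5, 1, 2, 1, 1, 3, 3, 0, 3, 1, 2, 0, 2, 1] true))) (.node (.node (.leaf [1, 1, 3, 1, 3, 3, 1, 3, 3, 0, 2, 2, 2, 0, 2, 2, 2, 0, 3, 1, 2, 0, 2] true) (.leaf [1, 1, 3, 0, 3, 1, 3, 3, 0, 3, 1, 3, 1, 1, 3, 0, 3, 1, 3, 3, 0, 3, 1, 3] true)) (.node (.leaf [1, 1, 1, 3, 3, 3, 3, 3, 0, 3, 3, 0, 2, 0, 2, 1, 3, 1, 2, 2, 2, 2, 0, 2] true) (.nil))))) (.node (.node (.node (.node (.leaf [1, 1, 1,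 3, 0, 2, 1, 1, 3, 0, 3, 3, 3, 3, 3, 3, 3, 0, 3, 1, 1, 2] true) (.leaf [1, 1, 1, 2, 0, 3, 0, 2, 0, 3, 1, 2, 2, 0, 3, 0, 3, 3, 3, 0, 0, 2, 1, 2] true)) (.node (.leaf [1, 1, 1, 1, 1, 2, 2, 0, 2, 2, 1, 2, 2, 1, 2, 2, 0, 2, 1, 2, 2, 0, 0, 2] true) (.leaf [1, 3, 1, 2, 1, 2, 1, 3, 0, 3, 1, 3, 3, 3, 0, 3, 1, 3, 1, 2, 0, 3, 1, 2] true))) (.node (.node (.leaf [1, 1, 1, 2, 1, 1, 1, 2, 2, 1, 1, 2, 1, 3, 0, 3, 0, 2, 0, 0, 3, 3, 3] true) (.leaf [1, 1, 3, 3, 3, 3, 3, 1, 2, 0, 3, 1, 1, 2, 1, 2, 1, 1, 2, 1, 3, 3, 3, 3] true)) (.node (.leaf [1, 1, 1, 3, 1, 3, 0, 0, 2, 1, 3, 3, 1, 3, 1, 2, 1, 2, 2, 1, 1, 2, 0, 3] true) (.nil)))) (.node (.node (.node (.leaf [1, 1, 1,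 1, 2, 1, 3, 1, 2, 2, 1, 1, 3, 1, 1, 2, 2, 1, 1, 1, 3, 1, 2] true) (.leaf [1, 1, 3, 1, 3, 3, 1, 2, 1, 2, 1, 1, 2, 0, 3, 0, 3, 3, 3, 3, 3, 0, 0, 2] true)) (.node (.leaf [1, 1, 1, 1, 2, 1, 3, 1, 3, 3, 0, 0, 2, 0, 0, 2, 2, 1, 1, 2, 0, 3, 1, 3] true) (.leaf [1, 1, 3, 0, 3, 3, 1, 3, 3, 1, 1, 3, 0, 3, 3, 1, 3, 3] true))) (.node (.node (.leaf [1, 1, 3, 0, 3, 3, 1, 1, 2, 0, 0, 2, 1, 2, 0, 2, 1, 3, 1, 2, 0, 0, 3] true) (.leaf [1, 1, 3, 0, 2, 0, 3, 0, 0, 3, 0, 3, 3, 1, 1, 2, 1, 3, 3, 3, 3, 1, 2, 2] true)) (.node (.leaf [1, 1, 1, 3, 0, 3, 0, 2, 0, 2, 0, 3, 0, 3, 0, 3, 3, 3, 3, 3, 1, 2, 1, 2] true) (.nil)))))))) (.node (.node (.node (.node (.node (.node (.node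 (.leaf [1, 1, 1, 1, 1, 1, 2, 0, 2, 0, 2, 0, 2, 0, 2, 0, 2, 0, 2] true) (.leaf [1, 1, 1, 3, 0, 0, 2, 2, 0, 0, 3, 0, 3, 0, 0, 0, 3, 3, 3, 3, 0, 2, 1, 3] true)) (.node (.leaf [1, 1, 2, 1, 2, 1, 3, 3, 0, 2, 0, 3, 1, 2, 1, 3, 0, 3, 3, 1, 2, 0, 3] true) (.leaf [1, 1, 2, 1, 1, 2, 0, 2, 0, 3, 3, 0, 0, 2, 1, 1, 2, 2, 0, 2, 0, 3, 0, 2] true))) (.node (.node (.leaf [1, 1, 1, 3, 1, 1, 3, 3, 0, 3, 3, 3, 0, 3, 3, 3, 1, 3, 0, 2, 0, 0, 2] true) (.leaf [1, 1, 3, 1, 3, 3, 0, 2, 1, 3, 3, 1, 1, 2, 2, 0, 0, 2, 2, 2, 0, 0, 3, 3] true)) (.node (.leaf [1, 1, 1, 1, 2, 0, 3, 3, 3, 1, 3, 3, 0, 3, 1, 3, 0, 0, 3, 1, 1, 1, 3, 3] true) (.nil)))) (.node (.node (.node (.leaf [1, 1,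 3, 1, 3, 3, 0, 0, 3, 3, 1, 3, 1, 2, 2, 1, 2, 1, 3, 1, 1, 2] true) (.leaf [1, 1, 1, 2, 0, 2, 1, 3, 1, 1, 2, 1, 2, 2, 1, 2, 1, 2, 0, 0, 3, 1, 3, 3] true)) (.node (.leaf [1, 1, 1, 1, 3, 1, 3, 3, 1, 2, 1, 2, 2, 2, 0, 2, 2, 0, 2, 1, 2, 2, 1, 3] true) (.leaf [4, 1, 5, 2, 2, 0, 0, 0, 3, 3] true))) (.node (.node (.leaf [1, 1, 1, 2, 0, 3, 3, 3, 3, 3, 1, 2, 1, 2, 2, 2, 1, 2, 1, 2, 0, 3, 3] true) (.leaf [1, 1, 3, 3, 0, 3, 1, 1, 2, 1, 2, 0, 3, 0, 2, 1, 1, 2, 0, 2, 2, 2, 2, 2] true)) (.node (.leaf [1, 1, 1, 3, 1, 2, 0, 0, 2, 2, 2, 1, 1, 2, 2, 1, 1, 3, 0, 0, 2, 2, 0, 3] true) (.nil))))) (.node (.node (.node (.node (.leaf [1, 1, 1, 1, 3, 1, 2, 2, 0, 2, 1, 2, 0, 0,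 3, 3, 1, 1, 2, 2, 1, 3] true) (.leaf [1, 1, 1, 2, 1, 2, 1, 3, 3, 0, 2, 1, 1, 2, 1, 2, 2, 2, 1, 3, 3, 3, 3, 3] true)) (.node (.leaf [1, 1, 1, 1, 1, 3, 1, 2, 0, 2, 1, 2, 0, 0, 0, 0, 2, 2, 1, 1, 3, 3, 3, 3] true) (.leaf [1, 1, 2, 0, 2, 2, 0, 3, 3, 3, 1, 2, 1, 1, 2, 0, 2, 2, 0, 3, 3, 3, 1, 2] true))) (.node (.node (.leaf [1, 1, 1, 3, 3, 0, 3, 3, 0, 0, 3, 1, 1, 2, 1, 2, 0, 2, 0, 2, 2, 1, 2] true) (.leaf [1, 1, 3, 3, 1, 1, 2, 2, 2, 0, 0, 3, 3, 3, 3, 3, 0, 2, 2, 2, 0, 3, 1, 3] true)) (.node (.leaf [1, 1, 1, 3, 1, 1, 3, 0, 0, 3, 3, 3, 3, 0, 0, 3, 0, 0, 3, 1, 1, 3, 1, 2] true) (.nil)))) (.node (.node (.node (.leaf [1, 1, 1, 1, 1, 2, 2, 0, 2, 2, 0, 0, 0, 0,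 3, 3, 0, 3, 1, 3, 3, 0, 3] true) (.leaf [1, 1, 1, 2, 2, 2, 2, 2, 1, 2, 1, 3, 0, 3, 0, 2, 0, 2, 2, 0, 0, 2, 0, 3] true)) (.node (.leaf [1, 1, 1, 1, 3, 3, 0, 2, 2, 2, 1, 3, 3, 0, 2, 2, 0, 0, 0, 2, 0, 3, 1, 3] true) (.leaf [4, 3, 0, 0, 3, 1, 1, 1, 2, 2, 1, 2, 0, 2, 2, 5, 0, 0, 3, 0, 3, 0, 2, 2] true))) (.node (.node (.leaf [1, 1, 3, 1, 2, 2, 2, 2, 0, 2, 1, 3, 3, 3, 3, 1, 2, 1, 2, 2, 0, 3, 3] true) (.leaf [1, 1, 3, 0, 3, 0, 2, 1, 3, 3, 3, 0, 3, 1, 2, 1, 3, 0, 2, 1, 1, 2, 1, 2] true)) (.node (.leaf [1, 1, 1, 3, 3, 0, 2, 1, 2, 2, 2, 1, 1, 1, 2, 1, 2, 2, 1, 3, 1, 2, 1, 3] true) (.nil)))))) (.node (.node (.node (.node (.node (.leaf [1, 1, 1, 2, 1, 2, 2, 0,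 3, 3, 3, 0, 2, 2, 2, 0, 2, 0, 3, 0, 2] true) (.leaf [1, 1, 1, 2, 1, 3, 1, 3, 0, 3, 0, 3, 3, 3, 0, 3, 1, 1, 3, 0, 0, 0, 2, 2] true)) (.node (.leaf [1, 3, 1, 2, 2, 2, 0, 3, 1, 2, 0, 2, 2, 2, 0, 3, 1, 3, 0, 3, 0, 2, 2] true) (.leaf [1, 1, 2, 1, 2, 2, 2, 1, 2, 0, 2, 1, 3, 0, 3, 0, 3, 0, 2, 2, 1, 2, 0, 2] true))) (.node (.node (.leaf [1, 1, 1, 3, 1, 2, 0, 3, 0, 0, 2, 1, 2, 0, 3, 3, 3, 0, 0, 2, 0, 3, 3] true) (.leaf [1, 1, 3, 1, 2, 1, 2, 2, 1, 2, 1, 2, 0, 2, 1, 1, 3, 0, 2, 2, 0, 3, 0, 3] true)) (.node (.leaf [1, 1, 1, 1, 2, 2, 1, 2, 1, 3, 0, 3, 3, 0, 0, 2, 0, 0, 0, 3, 0, 2, 1, 2] true) (.nil)))) (.node (.node (.node (.leaf [1, 1, 2, 2, 1, 2, 0, 2, 0, 2,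 1, 3, 3, 3, 0, 3, 1, 2, 2, 2, 1, 2] true) (.leaf [1, 1, 1, 2, 2, 1, 2, 0, 3, 3, 1, 3, 0, 3, 0, 3, 0, 2, 1, 3, 0, 2, 0, 3] true)) (.node (.leaf [1, 1, 1, 1, 3, 3, 1, 2, 1, 3, 3, 0, 3, 1, 2, 0, 2, 1, 2, 2, 1, 3, 0, 3] true) (.leaf [5, 1, 2, 4, 1, 5, 1, 3, 4, 1, 1, 2, 2, 0, 3, 3, 0, 2, 2, 0, 2, 0] true))) (.node (.node (.leaf [1, 1, 3, 1, 1, 3, 3, 0, 2, 0, 2, 0, 0, 2, 0, 3, 3, 0, 2, 1, 2, 1, 3] true) (.leaf [1, 1, 3, 3, 0, 2, 2, 0, 2, 0, 2, 1, 3, 0, 2, 1, 3, 0, 2, 1, 3, 0, 0, 2] true)) (.node (.leaf [1, 1, 1, 3, 3, 3, 1, 3, 3, 1, 2, 0, 0, 3, 3, 1, 2, 1, 2, 1, 2, 0, 0, 3] true) (.nil))))) (.node (.node (.node (.node (.leaf [1, 1, 1, 3, 0, 3, 0, 0, 0, 3,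 3, 1, 3, 1, 2, 1, 1, 2, 1, 2, 2, 2] true) (.leaf [1, 1, 1, 2, 0, 3, 3, 3, 1, 3, 1, 3, 3, 3, 1, 3, 1, 1, 2, 2, 0, 2, 0, 2] true)) (.node (.leaf [1, 1, 1, 1, 1, 2, 0, 2, 0, 2, 0, 3, 3, 3, 1, 2, 2, 2, 0, 0, 2, 1, 2, 2] true) (.leaf [1, 3, 1, 3, 0, 3, 3, 0, 3, 1, 3, 3, 3, 0, 3, 1, 2, 0, 2, 2, 2, 0, 3, 3] true))) (.node (.node (.leaf [1, 1, 1, 3, 0, 2, 2, 1, 3, 3, 0, 2, 1, 3, 3, 0, 0, 3, 3, 0, 2, 0, 2] true) (.leaf [1, 1, 3, 3, 3, 1, 2, 0, 0, 2, 0, 2, 1, 2, 2, 0, 3, 1, 2, 1, 1, 2, 1, 2] true)) (.node (.leaf [1, 1, 1, 3, 1, 3, 3, 0, 0, 0, 2, 0, 0, 2, 2, 0, 3, 0, 0, 0, 2, 1, 3, 3] true) (.nil)))) (.node (.node (.node (.leaf [1, 1, 1, 1, 2, 1, 1, 3, 3, 0,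 2, 2, 1, 3, 0, 0, 3, 3, 1, 1, 2, 2, 2] true) (.leaf [1, 1, 3, 1, 3, 1, 3, 3, 0, 0, 2, 2, 2, 2, 2, 2, 2, 2, 1, 3, 1, 3, 3, 3] true)) (.node (.leaf [1, 1, 1, 1, 2, 1, 1, 2, 0, 2, 1, 2, 2, 0, 2, 2, 2, 1, 3, 1, 1, 1, 2, 2] true) (.leaf [1, 1, 1, 1, 1, 1, 1] true))) (.node (.node (.leaf [1, 1, 3, 3, 0, 2, 2, 2, 1, 3, 3, 3, 1, 2, 0, 0, 3, 0, 2, 2, 0, 3, 3] true) (.leaf [1, 1, 3, 0, 2, 1, 2, 0, 3, 3, 3, 3, 0, 3, 1, 1, 2, 0, 3, 1, 3, 3, 1, 3] true)) (.node (.leaf [1, 1, 1, 3, 0, 3, 3, 3, 0, 2, 2, 1, 2, 2, 2, 2, 2, 1, 2, 1, 2, 2, 0, 2] true) (.nil))))))) (.node (.node (.node (.node (.node (.node (.leaf [1, 3, 3, 3, 1, 3, 3, 3, 1, 3, 3, 3, 1, 3, 3, 3, 1, 3,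 3, 3] true) (.leaf [1, 1, 1, 3, 0, 2, 2, 2, 2, 1, 1, 3, 1, 1, 3, 1, 2, 0, 0, 3, 1, 3, 3, 3] true)) (.node (.leaf [1, 1, 2, 2, 0, 3, 3, 3, 3, 0, 2, 1, 3, 1, 2, 0, 3, 3, 1, 3, 3, 1, 3] true) (.leaf [1, 1, 2, 1, 3, 3, 0, 0, 2, 1, 3, 3, 0, 3, 1, 3, 0, 2, 0, 2, 1, 3, 1, 2] true))) (.node (.node (.leaf [1, 1, 1, 3, 1, 3, 3, 1, 2, 2, 0, 0, 2, 2, 1, 3, 3, 0, 3, 1, 2, 0, 3] true) (.leaf [1, 1, 3, 1, 3, 0, 0, 2, 2, 1, 2, 1, 3, 3, 3, 3, 0, 2, 1, 3, 3, 3, 3, 3] true)) (.node (.leaf [1, 1, 1, 1, 2, 0, 2, 2, 0, 0, 0, 2, 0, 0, 2, 1, 2, 2, 0, 2, 2, 0, 0, 2] true) (.nil)))) (.node (.node (.node (.leaf [1, 1, 3, 0, 3, 0, 2, 0, 2, 2, 1, 2, 1, 3, 3, 3, 3, 3, 0, 3, 0,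 3] true) (.leaf [1, 1, 1, 2, 0, 2, 2, 1, 3, 3, 0, 0, 2, 1, 2, 2, 1, 1, 3, 1, 2, 0, 0, 3] true)) (.node (.leaf [1, 1, 1, 1, 3, 1, 2, 1, 3, 0, 0, 3, 1, 2, 2, 0, 3, 3, 3, 3, 0, 0, 2, 2] true) (.leaf [1, 0] true))) (.node (.node (.leaf [1, 1, 1, 2, 2, 1, 2, 2, 0, 0, 3, 3, 1, 1, 2, 0, 3, 1, 3, 3, 0, 2, 2] true) (.leaf [1, 1, 3, 3, 0, 0, 3, 0, 3, 1, 2, 0, 2, 0, 2, 1, 3, 1, 2, 2, 1, 3, 1, 2] true)) (.node (.leaf [1, 1, 1, 3, 3, 1, 3, 0, 3, 0, 0, 2, 1, 2, 1, 1, 1, 2, 1, 1, 3, 1, 1, 2] true) (.nil))))) (.node (.node (.node (.node (.leaf [1, 1, 1, 3, 1, 2, 1, 3, 3, 1, 2, 0, 2, 2, 2, 1, 3, 3, 3, 0, 0, 2] true) (.leaf [1, 1, 1, 2, 1, 2, 0, 2, 1, 3, 0, 2, 1, 2,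 1, 3, 1, 2, 2, 2, 2, 1, 1, 2] true)) (.node (.leaf [1, 1, 1, 1, 1, 2, 1, 3, 1, 2, 2, 2, 2, 0, 3, 1, 1, 2, 1, 1, 2, 2, 1, 2] true) (.leaf [1, 1, 2, 2, 2, 0, 2, 2, 1, 3, 3, 3, 0, 2, 1, 3, 3, 0, 3, 1, 2, 1, 2, 2] true))) (.node (.node (.leaf [1, 1, 1, 3, 0, 3, 0, 3, 0, 0, 3, 3, 1, 1, 2, 2, 0, 3, 1, 3, 0, 0, 3] true) (.leaf [1, 1, 3, 3, 1, 2, 1, 3, 1, 2, 0, 0, 3, 1, 2, 2, 0, 2, 2, 2, 2, 0, 0, 3] true)) (.node (.leaf [1, 1, 1, 3, 1, 3, 1, 1, 1, 3, 0, 3, 0, 0, 2, 2, 1, 3, 1, 1, 2, 0, 0, 3] true) (.nil)))) (.node (.node (.node (.leaf [1, 1, 1, 1, 3, 3, 3, 0, 2, 0, 0, 3, 0, 0, 0, 3, 3, 3, 0, 2, 0, 0, 3] true) (.leaf [1, 1, 3, 1, 1, 2, 1, 2, 2, 0, 0, 3, 1,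 3, 1, 1, 3, 3, 3, 0, 3, 0, 0, 2] true)) (.node (.leaf [1, 1, 1, 1, 3, 0, 2, 1, 2, 0, 0, 0, 2, 2, 1, 2, 1, 3, 0, 3, 3, 0, 0, 2] true) (.leaf [4, 3, 1, 1, 3, 3, 3, 3, 1, 1, 2, 5, 0, 2, 0, 2, 2, 0, 3, 1, 2, 0, 2, 1, 2, 2] true))) (.node (.node (.leaf [1, 1, 3, 3, 3, 1, 3, 3, 3, 1, 3, 0, 3, 0, 0, 3, 0, 2, 2, 2, 0, 2, 2] true) (.leaf [1, 1, 3, 0, 0, 3, 3, 3, 0, 2, 0, 3, 1, 3, 3, 1, 3, 1, 3, 3, 3, 3, 1, 3] true)) (.node (.leaf [1, 1, 1, 3, 0, 3, 1, 1, 2, 1, 2, 1, 1, 2, 2, 0, 3, 0, 3, 3, 3, 1, 1, 2] true) (.nil)))))) (.node (.node (.node (.node (.node (.leaf [1, 1, 3, 3, 3, 0, 2, 2, 2, 2, 0, 2, 0, 2, 0, 2, 1, 3, 3, 0, 3] true) (.leaf [1, 1, 1, 2, 1, 3, 0,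 3, 0, 2, 2, 2, 1, 2, 0, 0, 3, 1, 2, 2, 2, 0, 2, 2] true)) (.node (.leaf [1, 1, 1, 1, 1, 1, 2, 1, 2, 1, 3, 1, 2, 2, 2, 1, 3, 1, 3, 1, 2, 2, 0, 3] true) (.leaf [1, 1, 2, 0, 3, 3, 3, 3, 0, 3, 1, 3, 3, 3, 3, 3, 3, 0, 2, 2, 1, 3, 1, 2] true))) (.node (.node (.leaf [1, 1, 1, 3, 3, 1, 2, 1, 3, 3, 1, 3, 1, 2, 1, 2, 1, 1, 2, 0, 0, 3, 3] true) (.leaf [1, 1, 3, 1, 2, 2, 1, 2, 2, 0, 0, 3, 3, 0, 3, 0, 3, 3, 3, 3, 0, 2, 2, 2] true)) (.node (.leaf [1, 1, 1, 3, 1, 1, 1, 2, 1, 1, 2, 2, 1, 1, 2, 0, 0, 0, 3, 1, 1, 2, 0, 3] true) (.nil)))) (.node (.node (.node (.leaf [1, 1, 1, 1, 1, 1, 2, 2, 1, 2, 0, 0, 2, 2, 0, 2, 2, 1, 2, 0, 0, 2, 2] true) (.leaf [1, 1, 1, 2, 2, 0,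 2, 1, 2, 2, 1, 3, 0, 0, 2, 2, 2, 2, 2, 1, 3, 1, 3, 3] true)) (.node (.leaf [1, 1, 1, 1, 3, 3, 3, 0, 0, 0, 3, 1, 3, 0, 3, 0, 2, 2, 2, 1, 1, 3, 1, 2] true) (.leaf [4, 2, 2, 2, 0, 0, 0, 3, 0, 3, 5, 1, 1, 3, 3, 1, 1, 3, 1, 3, 0, 3, 0, 0, 3, 1] true))) (.node (.node (.leaf [1, 1, 3, 1, 3, 3, 0, 0, 2, 0, 2, 2, 2, 0, 3, 1, 2, 2, 1, 3, 0, 2, 2] true) (.leaf [1, 1, 3, 0, 3, 1, 2, 2, 1, 2, 0, 0, 2, 2, 2, 2, 2, 1, 2, 0, 3, 0, 0, 3] true)) (.node (.leaf [1, 1, 1, 3, 3, 3, 0, 3, 1, 2, 2, 1, 1, 2, 2, 2, 2, 0, 3, 1, 3, 0, 2, 2] true) (.nil))))) (.node (.node (.node (.node (.leaf [1, 1, 1, 2, 0, 3, 3, 0, 3, 1, 2, 1, 1, 2, 0, 2, 2, 1, 1, 2, 0, 3] true) (.leaf [1, 1,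 1, 2, 0, 0, 3, 3, 1, 3, 1, 2, 0, 2, 0, 3, 3, 3, 0, 0, 2, 2, 1, 2] true)) (.node (.leaf [1, 1, 1, 1, 3, 1, 1, 1, 3, 0, 3, 0, 0, 0, 3, 1, 3, 0, 0, 0, 3, 1, 3, 3] true) (.leaf [1, 3, 3, 1, 2, 2, 2, 0, 3, 3, 0, 2, 1, 3, 3, 1, 2, 2, 2, 0, 3, 3, 0, 2] true))) (.node (.node (.leaf [1, 1, 1, 2, 1, 3, 3, 3, 1, 3, 3, 0, 2, 0, 2, 1, 3, 1, 1, 3, 3, 1, 2] true) (.leaf [1, 1, 3, 3, 3, 0, 0, 2, 0, 3, 3, 1, 3, 1, 3, 3, 0, 2, 2, 1, 2, 1, 3, 3] true)) (.node (.leaf [1, 1, 1, 3, 1, 3, 0, 2, 0, 3, 1, 2, 0, 2, 0, 0, 2, 1, 3, 1, 1, 2, 0, 2] true) (.nil)))) (.node (.node (.node (.leaf [1, 1, 1, 1, 2, 2, 1, 2, 2, 0, 0, 0, 3, 1, 1, 1, 3, 3, 0, 3, 0, 0, 3] true) (.leaf [1,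 1, 3, 1, 3, 3, 3, 1, 2, 0, 2, 0, 3, 0, 3, 3, 3, 1, 2, 2, 1, 1, 2, 2] true)) (.node (.leaf [1, 1, 1, 1, 2, 1, 3, 0, 2, 2, 0, 0, 3, 3, 3, 0, 2, 2, 0, 3, 0, 2, 0, 3] true) (.leaf [1, 2, 1, 2, 1, 2, 1, 2, 1, 2] true))) (.node (.node (.leaf [1, 1, 3, 0, 2, 1, 2, 2, 2, 2, 1, 3, 3, 3, 3, 1, 2, 0, 2, 0, 3, 1, 3] true) (.leaf [1, 1, 3, 0, 2, 2, 0, 3, 1, 2, 0, 3, 0, 0, 3, 0, 2, 2, 1, 2, 2, 2, 2, 2] true)) (.node (.leaf [1, 1, 1, 3, 0, 0, 3, 0, 2, 2, 1, 1, 3, 1, 1, 2, 1, 1, 1, 3, 0, 2, 1, 3] true) (.nil))))))))))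

/-- the twists of the words -/
def evL : List (List ℕ) := [[0, 0, 0, 0, 0, 0, 0, 0, 0], [0, 0, 0, 0, 0, 0, 0, 0, 0], [0, 0, 0, 0, 0, 0, 0, 0, 0], [0, 0, 0, 0, 0, 0, 0, 0, 0], [0, 0, 0, 0, 0, 0, 0, 0, 0], [0, 0, 0, 0, 0, 0, 0, 0, 0], [0, 0, 0, 0, 0, 0, 0, 0, 0], [0, 0, 0, 0, 0, 0, 0, 0, 0], [0, 0, 0, 0, 0, 0, 0, 0, 0], [0, 0, 0, 0, 0, 0, 0, 0, 0], [0, 0, 0, 0, 0, 0, 0, 0, 0], [0, 0, 0, 0, 0, 0, 0, 0, 0], [0, 0, 0, 0, 0, 0, 0, 0, 0], [0, 0, 0, 0, 0, 0, 0, 0, 0], [0, 0, 0, 0, 0, 0, 0, 0, 0], [0, 0, 0, 0, 0, 0, 0, 0, 0], [0, 0, 0, 0, 0, 0, 0, 0, 0], [0, 0, 0, 0, 0, 0, 0, 0, 0], [0, 0, 0, 0, 0, 0, 0, 0, 0], [0, 0, 0, 0, 0, 0, 0, 0, 0], [0, 0, 0, 0, 0,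 0, 0, 0, 0], [0, 0, 0, 0, 0, 0, 0, 0, 0], [0, 0, 0, 0, 0, 0, 0, 0, 0], [0, 0, 0, 0, 0, 0, 0, 0, 0], [0, 0, 0, 0, 0, 0, 0, 0, 0], [0, 0, 0, 0, 0, 0, 0, 0, 0], [0, 0, 0, 0, 0, 0, 0, 0, 0], [0, 0, 0, 0, 0, 0, 0, 0, 0], [0, 0, 0, 0, 0, 0, 0, 0, 0], [0, 0, 0, 0, 0, 0, 0, 0, 0], [0, 0, 0, 0, 0, 0, 0, 0, 0], [0, 0, 0, 0, 0, 0, 0, 0, 0], [0, 0, 0, 0, 0, 0, 0, 0, 0], [0, 0, 0, 0, 0, 0, 0, 0, 0], [0, 0, 0, 0, 0, 0, 0, 0, 0], [0, 0, 0, 0, 0, 0, 0, 0, 0], [0, 0, 0, 0, 0, 0, 0, 0, 0], [0, 0, 0, 0, 0, 0, 0, 0, 0], [0, 0, 0, 0, 0, 0, 0, 0, 0], [0, 0, 0, 0, 0, 0, 0, 0, 0], [0, 0, 0, 0, 0, 0, 0, 0, 0], [0, 0, 0, 0, 0, 0, 0, 0, 0], [0, 0, 0, 0, 0, 0, 0, 0, 0], [0, 0,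 0, 0, 0, 0, 0, 0, 0], [0, 0, 0, 0, 0, 0, 0, 0, 0], [0, 0, 0, 0, 0, 0, 0, 0, 0], [0, 0, 0, 0, 0, 0, 0, 0, 0], [0, 0, 0, 0, 0, 0, 0, 0, 0], [0, 0, 0, 0, 0, 0, 0, 0, 0], [0, 0, 0, 0, 0, 0, 0, 0, 0], [0, 0, 0, 0, 0, 0, 0, 0, 0], [0, 0, 0, 0, 0, 0, 0, 0, 0], [0, 0, 0, 0, 0, 0, 0, 0, 0], [0, 0, 0, 0, 0, 0, 0, 0, 0], [0, 0, 0, 0, 0, 0, 0, 0, 0], [0, 0, 0, 0, 0, 0, 0, 0, 0], [0, 0, 0, 0, 0, 0, 0, 0, 0], [0, 0, 0, 0, 0, 0, 0, 0, 0], [0, 0, 0, 0, 0, 0, 0, 0, 0], [0, 0, 0, 0, 0, 0, 0, 0, 0], [0, 0, 0, 0, 0, 0, 0, 0, 0], [0, 0, 0, 0, 0, 0, 0, 0, 0], [0, 0, 0, 0, 0, 0, 0, 0, 0], [0, 0, 0, 0, 0, 0, 0, 0, 0], [0, 0, 0, 0, 0, 0, 0, 0, 0], [0, 0, 0, 0, 0, 0, 0, 0,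 0], [0, 0, 0, 0, 0, 0, 0, 0, 0], [0, 0, 0, 0, 0, 0, 0, 0, 0], [0, 0, 0, 0, 0, 0, 0, 0, 0], [0, 0, 0, 0, 0, 0, 0, 0, 0], [0, 0, 0, 0, 0, 0, 0, 0, 0], [0, 0, 0, 0, 0, 0, 0, 0, 0], [0, 0, 0, 0, 0, 0, 0, 0, 0], [0, 0, 0, 0, 0, 0, 0, 0, 0], [0, 0, 0, 0, 0, 0, 0, 0, 0], [0, 0, 0, 0, 0, 0, 0, 0, 0], [0, 0, 0, 0, 0, 0, 0, 0, 0], [0, 0, 0, 0, 0, 0, 0, 0, 0], [0, 0, 0, 0, 0, 0, 0, 0, 0], [0, 0, 0, 0, 0, 0, 0, 0, 0], [0, 0, 0, 0, 0, 0, 0, 0, 0], [0, 0, 0, 0, 0, 0, 0, 0, 0], [0, 0, 0, 0, 0, 0, 0, 0, 0], [0, 0, 0, 0, 0, 0, 0, 0, 0], [0, 0, 0, 0, 0, 0, 0, 0, 0], [0, 0, 0, 0, 0, 0, 0, 0, 0], [0, 0, 0, 0, 0, 0, 0, 0, 0], [0, 0, 0, 0, 0, 0, 0, 0, 0], [0, 0, 0, 0, 0,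 0, 0, 0, 0], [0, 0, 0, 0, 0, 0, 0, 0, 0], [0, 0, 0, 0, 0, 0, 0, 0, 0], [0, 0, 0, 0, 0, 0, 0, 0, 0], [0, 0, 0, 0, 0, 0, 0, 0, 0], [0, 0, 0, 0, 0, 0, 0, 0, 0], [0, 0, 0, 0, 0, 0, 0, 0, 0], [0, 0, 0, 0, 0, 0, 0, 0, 0], [0, 0, 0, 0, 0, 0, 0, 0, 0], [0, 0, 0, 0, 0, 0, 0, 0, 0], [0, 0, 0, 0, 0, 0, 0, 0, 0], [0, 0, 0, 0, 0, 0, 0, 0, 0], [0, 0, 0, 0, 0, 0, 0, 0, 0], [0, 0, 0, 0, 0, 0, 0, 0, 0], [0, 0, 0, 0, 0, 0, 0, 0, 0], [0, 0, 0, 0, 0, 0, 0, 0, 0], [0, 0, 0, 0, 0, 0, 0, 0, 0], [0, 0, 0, 0, 0, 0, 0, 0, 0], [0, 0, 0, 0, 0, 0, 0, 0, 0], [0, 0, 0, 0, 0, 0, 0, 0, 0], [0, 0, 0, 0, 0, 0, 0, 0, 0], [0, 0, 0, 0, 0, 0, 0, 0, 0], [0, 0, 0, 0, 0, 0, 0, 0, 0], [0, 0,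 0, 0, 0, 0, 0, 0, 0], [0, 0, 0, 0, 0, 0, 0, 0, 0], [0, 0, 0, 0, 0, 0, 0, 0, 0], [0, 0, 0, 0, 0, 0, 0, 0, 0], [0, 0, 0, 0, 0, 0, 0, 0, 0], [0, 0, 0, 0, 0, 0, 0, 0, 0], [0, 0, 0, 0, 0, 0, 0, 0, 0], [0, 0, 0, 0, 0, 0, 0, 0, 0], [0, 0, 0, 0, 0, 0, 0, 0, 0], [0, 0, 0, 0, 0, 0, 0, 0, 0], [0, 0, 0, 0, 0, 0, 0, 0, 0], [0, 0, 0, 0, 0, 0, 0, 0, 0], [0, 0, 0, 0, 0, 0, 0, 0, 0], [0, 0, 0, 0, 0, 0, 0, 0, 0], [0, 0, 0, 0, 0, 0, 0, 0, 0], [0, 0, 0, 0, 0, 0, 0, 0, 0], [0, 0, 0, 0, 0, 0, 0, 0, 0], [0, 0, 0, 0, 0, 0, 0, 0, 0], [0, 0, 0, 0, 0, 0, 0, 0, 0], [0, 0, 0, 0, 0, 0, 0, 0, 0], [0, 0, 0, 0, 0, 0, 0, 0, 0], [0, 0, 0, 0, 0, 0, 0, 0, 0], [0, 0, 0, 0, 0, 0, 0, 0,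 0], [0, 0, 0, 0, 0, 0, 0, 0, 0], [0, 0, 0, 0, 0, 0, 0, 0, 0], [0, 0, 0, 0, 0, 0, 0, 0, 0], [0, 0, 0, 0, 0, 0, 0, 0, 0], [0, 0, 0, 0, 0, 0, 0, 0, 0], [0, 0, 0, 0, 0, 0, 0, 0, 0], [0, 0, 0, 0, 0, 0, 0, 0, 0], [0, 0, 0, 0, 0, 0, 0, 0, 0], [0, 0, 0, 0, 0, 0, 0, 0, 0], [0, 0, 0, 0, 0, 0, 0, 0, 0], [0, 0, 0, 0, 0, 0, 0, 0, 0], [0, 0, 0, 0, 0, 0, 0, 0, 0], [0, 0, 0, 0, 0, 0, 0, 0, 0], [0, 0, 0, 0, 0, 0, 0, 0, 0], [0, 0, 0, 0, 0, 0, 0, 0, 0], [0, 0, 0, 0, 0, 0, 0, 0, 0], [0, 0, 0, 0, 0, 0, 0, 0, 0], [0, 0, 0, 0, 0, 0, 0, 0, 0], [0, 0, 0, 0, 0, 0, 0, 0, 0], [0, 0, 0, 0, 0, 0, 0, 0, 0], [0, 0, 0, 0, 0, 0, 0, 0, 0], [0, 0, 0, 0, 0, 0, 0, 0, 0], [0, 0, 0, 0, 0,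 0, 0, 0, 0], [0, 0, 0, 0, 0, 0, 0, 0, 0], [0, 0, 0, 0, 0, 0, 0, 0, 0], [0, 0, 0, 0, 0, 0, 0, 0, 0], [0, 0, 0, 0, 0, 0, 0, 0, 0], [0, 0, 0, 0, 0, 0, 0, 0, 0], [0, 0, 0, 0, 0, 0, 0, 0, 0], [0, 0, 0, 0, 0, 0, 0, 0, 0], [0, 0, 0, 0, 0, 0, 0, 0, 0], [0, 0, 0, 0, 0, 0, 0, 0, 0], [0, 0, 0, 0, 0, 0, 0, 0, 0], [0, 0, 0, 0, 0, 0, 0, 0, 0], [0, 0, 0, 0, 0, 0, 0, 0, 0], [0, 0, 0, 0, 0, 0, 0, 0, 0], [0, 0, 0, 0, 0, 0, 0, 0, 0], [0, 0, 0, 0, 0, 0, 0, 0, 0], [0, 0, 0, 0, 0, 0, 0, 0, 0], [0, 0, 0, 0, 0, 0, 0, 0, 0], [0, 0, 0, 0, 0, 0, 0, 0, 0], [0, 0, 0, 0, 0, 0, 0, 0, 0], [0, 0, 0, 0, 0, 0, 0, 0, 0], [0, 0, 0, 0, 0, 0, 0, 0, 0], [0, 0, 0, 0, 0, 0, 0, 0, 0], [0, 0,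 0, 0, 0, 0, 0, 0, 0], [0, 0, 0, 0, 0, 0, 0, 0, 0], [0, 0, 0, 0, 0, 0, 0, 0, 0], [0, 0, 0, 0, 0, 0, 0, 0, 0], [0, 0, 0, 0, 0, 0, 0, 0, 0], [0, 0, 0, 0, 0, 0, 0, 0, 0], [0, 0, 0, 0, 0, 0, 0, 0, 0], [0, 0, 0, 0, 0, 0, 0, 0, 0], [0, 0, 0, 0, 0, 0, 0, 0, 0], [0, 0, 0, 0, 0, 0, 0, 0, 0], [0, 0, 0, 0, 0, 0, 0, 0, 0], [0, 0, 0, 0, 0, 0, 0, 0, 0], [0, 0, 0, 0, 0, 0, 0, 0, 0], [0, 0, 0, 0, 0, 0, 0, 0, 0], [0, 0, 0, 0, 0, 0, 0, 0, 0], [0, 0, 0, 0, 0, 0, 0, 0, 0], [0, 0, 0, 0, 0, 0, 0, 0, 0], [0, 0, 0, 0, 0, 0, 0, 0, 0], [0, 0, 0, 0, 0, 0, 0, 0, 0], [0, 0, 0, 0, 0, 0, 0, 0, 0], [0, 0, 0, 0, 0, 0, 0, 0, 0], [0, 0, 0, 0, 0, 0, 0, 0, 0], [0, 0, 0, 0, 0, 0, 0, 0,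 0], [0, 0, 0, 0, 0, 0, 0, 0, 0], [0, 0, 0, 0, 0, 0, 0, 0, 0], [0, 0, 0, 0, 0, 0, 0, 0, 0], [0, 0, 0, 0, 0, 0, 0, 0, 0], [0, 0, 0, 0, 0, 0, 0, 0, 0], [0, 0, 0, 0, 0, 0, 0, 0, 0], [0, 0, 0, 0, 0, 0, 0, 0, 0], [0, 0, 0, 0, 0, 0, 0, 0, 0], [0, 0, 0, 0, 0, 0, 0, 0, 0], [0, 0, 0, 0, 0, 0, 0, 0, 0], [0, 0, 0, 0, 0, 0, 0, 0, 0], [0, 0, 0, 0, 0, 0, 0, 0, 0], [0, 0, 0, 0, 0, 0, 0, 0, 0], [0, 0, 0, 0, 0, 0, 0, 0, 0], [0, 0, 0, 0, 0, 0, 0, 0, 0], [0, 0, 0, 0, 0, 0, 0, 0, 0], [0, 0, 0, 0, 0, 0, 0, 0, 0], [0, 0, 0, 0, 0, 0, 0, 0, 0], [0, 0, 0, 0, 0, 0, 0, 0, 0], [0, 0, 0, 0, 0, 0, 0, 0, 0], [0, 0, 0, 0, 0, 0, 0, 0, 0], [0, 0, 0, 0, 0, 0, 0, 0, 0], [0, 0, 0, 0, 0,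 0, 0, 0, 0], [0, 0, 0, 0, 0, 0, 0, 0, 0], [0, 0, 0, 0, 0, 0, 0, 0, 0], [0, 0, 0, 0, 0, 0, 0, 0, 0], [0, 0, 0, 0, 0, 0, 0, 0, 0], [0, 0, 0, 0, 0, 0, 0, 0, 0], [0, 0, 0, 0, 0, 0, 0, 0, 0], [0, 0, 0, 0, 0, 0, 0, 0, 0], [0, 0, 0, 0, 0, 0, 0, 0, 0], [0, 0, 0, 0, 0, 0, 0, 0, 0], [0, 0, 0, 0, 0, 0, 0, 0, 0], [0, 0, 0, 0, 0, 0, 0, 0, 0], [0, 0, 0, 0, 0, 0, 0, 0, 0], [0, 0, 0, 0, 0, 0, 0, 0, 0], [0, 0, 0, 0, 0, 0, 0, 0, 0], [0, 0, 0, 0, 0, 0, 0, 0, 0], [0, 0, 0, 0, 0, 0, 0, 0, 0], [0, 0, 0, 0, 0, 0, 0, 0, 0], [0, 0, 0, 0, 0, 0, 0, 0, 0], [0, 0, 0, 0, 0, 0, 0, 0, 0], [0, 0, 0, 0, 0, 0, 0, 0, 0], [0, 0, 0, 0, 0, 0, 0, 0, 0], [0, 0, 0, 0, 0, 0, 0, 0, 0], [0, 0,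 0, 0, 0, 0, 0, 0, 0], [0, 0, 0, 0, 0, 0, 0, 0, 0], [0, 0, 0, 0, 0, 0, 0, 0, 0], [0, 0, 0, 0, 0, 0, 0, 0, 0], [0, 0, 0, 0, 0, 0, 0, 0, 0], [0, 0, 0, 0, 0, 0, 0, 0, 0], [0, 0, 0, 0, 0, 0, 0, 0, 0], [0, 0, 0, 0, 0, 0, 0, 0, 0], [0, 0, 0, 0, 0, 0, 0, 0, 0], [0, 0, 0, 0, 0, 0, 0, 0, 0], [0, 0, 0, 0, 0, 0, 0, 0, 0], [0, 0, 0, 0, 0, 0, 0, 0, 0], [0, 0, 0, 0, 0, 0, 0, 0, 0], [0, 0, 0, 0, 0, 0, 0, 0, 0], [0, 0, 0, 0, 0, 0, 0, 0, 0], [0, 0, 0, 0, 0, 0, 0, 0, 0], [0, 0, 0, 0, 0, 0, 0, 0, 0], [0, 0, 0, 0, 0, 0, 0, 0, 0], [0, 0, 0, 0, 0, 0, 0, 0, 0], [0, 0, 0, 0, 0, 0, 0, 0, 0], [0, 0, 0, 0, 0, 0, 0, 0, 0], [0, 0, 0, 0, 0, 0, 0, 0, 0], [0, 0, 0, 0, 0, 0, 0, 0,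 0], [0, 0, 0, 0, 0, 0, 0, 0, 0], [0, 0, 0, 0, 0, 0, 0, 0, 0], [0, 0, 0, 0, 0, 0, 0, 0, 0], [0, 0, 0, 0, 0, 0, 0, 0, 0], [0, 0, 0, 0, 0, 0, 0, 0, 0], [0, 0, 0, 0, 0, 0, 0, 0, 0], [0, 0, 0, 0, 0, 0, 0, 0, 0], [0, 0, 0, 0, 0, 0, 0, 0, 0], [0, 0, 0, 0, 0, 0, 0, 0, 0], [0, 0, 0, 0, 0, 0, 0, 0, 0], [0, 0, 0, 0, 0, 0, 0, 0, 0], [0, 0, 0, 0, 0, 0, 0, 0, 0], [0, 0, 0, 0, 0, 0, 0, 0, 0], [0, 0, 0, 0, 0, 0, 0, 0, 0], [0, 0, 0, 0, 0, 0, 0, 0, 0], [0, 0, 0, 0, 0, 0, 0, 0, 0], [0, 0, 0, 0, 0, 0, 0, 0, 0], [0, 0, 0, 0, 0, 0, 0, 0, 0], [0, 0, 0, 0, 0, 0, 0, 0, 0], [0, 0, 0, 0, 0, 0, 0, 0, 0], [0, 0, 0, 0, 0, 0, 0, 0, 0], [0, 0, 0, 0, 0, 0, 0, 0, 0], [0, 0, 0, 0, 0,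 0, 0, 0, 0], [0, 0, 0, 0, 0, 0, 0, 0, 0], [0, 0, 0, 0, 0, 0, 0, 0, 0], [0, 0, 0, 0, 0, 0, 0, 0, 0], [0, 0, 0, 0, 0, 0, 0, 0, 0], [0, 0, 0, 0, 0, 0, 0, 0, 0], [0, 0, 0, 0, 0, 0, 0, 0, 0], [0, 0, 0, 0, 0, 0, 0, 0, 0], [0, 0, 0, 0, 0, 0, 0, 0, 0], [0, 0, 0, 0, 0, 0, 0, 0, 0], [0, 0, 0, 0, 0, 0, 0, 0, 0], [0, 0, 0, 0, 0, 0, 0, 0, 0], [0, 0, 0, 0, 0, 0, 0, 0, 0], [0, 0, 0, 0, 0, 0, 0, 0, 0], [0, 0, 0, 0, 0, 0, 0, 0, 0], [0, 0, 0, 0, 0, 0, 0, 0, 0], [0, 0, 0, 0, 0, 0, 0, 0, 0], [0, 0, 0, 0, 0, 0, 0, 0, 0], [0, 0, 0, 0, 0, 0, 0, 0, 0], [0, 0, 0, 0, 0, 0, 0, 0, 0], [0, 0, 0, 0, 0, 0, 0, 0, 0], [0, 0, 0, 0, 0, 0, 0, 0, 0], [0, 0, 0, 0, 0, 0, 0, 0, 0], [0, 0,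 0, 0, 0, 0, 0, 0, 0], [0, 0, 0, 0, 0, 0, 0, 0, 0], [0, 0, 0, 0, 0, 0, 0, 0, 0], [0, 0, 0, 0, 0, 0, 0, 0, 0], [0, 0, 0, 0, 0, 0, 0, 0, 0], [0, 0, 0, 0, 0, 0, 0, 0, 0], [0, 0, 0, 0, 0, 0, 0, 0, 0], [0, 0, 0, 0, 0, 0, 0, 0, 0], [0, 0, 0, 0, 0, 0, 0, 0, 0], [0, 0, 0, 0, 0, 0, 0, 0, 0], [0, 0, 0, 0, 0, 0, 0, 0, 0], [0, 0, 0, 0, 0, 0, 0, 0, 0], [0, 0, 0, 0, 0, 0, 0, 0, 0], [0, 0, 0, 0, 0, 0, 0, 0, 0], [0, 0, 0, 0, 0, 0, 0, 0, 0], [0, 0, 0, 0, 0, 0, 0, 0, 0], [0, 0, 0, 0, 0, 0, 0, 0, 0], [0, 0, 0, 0, 0, 0, 0, 0, 0], [0, 0, 0, 0, 0, 0, 0, 0, 0], [0, 0, 0, 0, 0, 0, 0, 0, 0], [0, 0, 0, 0, 0, 0, 0, 0, 0], [0, 0, 0, 0, 0, 0, 0, 0, 0], [0, 0, 0, 0, 0, 0, 0, 0,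 0], [0, 0, 0, 0, 0, 0, 0, 0, 0], [0, 0, 0, 0, 0, 0, 0, 0, 0], [0, 0, 0, 0, 0, 0, 0, 0, 0], [0, 0, 0, 0, 0, 0, 0, 0, 0], [0, 0, 0, 0, 0, 0, 0, 0, 0], [0, 0, 0, 0, 0, 0, 0, 0, 0], [0, 0, 0, 0, 0, 0, 0, 0, 0], [0, 0, 0, 0, 0, 0, 0, 0, 0], [0, 0, 0, 0, 0, 0, 0, 0, 0], [0, 0, 0, 0, 0, 0, 0, 0, 0], [0, 0, 0, 0, 0, 0, 0, 0, 0], [0, 0, 0, 0, 0, 0, 0, 0, 0], [0, 0, 0, 0, 0, 0, 0, 0, 0], [0, 0, 0, 0, 0, 0, 0, 0, 0], [0, 0, 0, 0, 0, 0, 0, 0, 0], [0, 0, 0, 0, 0, 0, 0, 0, 0], [0, 0, 0, 0, 0, 0, 0, 0, 0], [0, 0, 0, 0, 0, 0, 0, 0, 0], [0, 0, 0, 0, 0, 0, 0, 0, 0], [0, 0, 0, 0, 0, 0, 0, 0, 0], [0, 0, 0, 0, 0, 0, 0, 0, 0], [0, 0, 0, 0, 0, 0, 0, 0, 0], [0, 0, 0, 0, 0,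 0, 0, 0, 0], [0, 0, 0, 0, 0, 0, 0, 0, 0], [0, 0, 0, 0, 0, 0, 0, 0, 0], [0, 0, 0, 0, 0, 0, 0, 0, 0], [0, 0, 0, 0, 0, 0, 0, 0, 0], [0, 0, 0, 0, 0, 0, 0, 0, 0], [0, 0, 0, 0, 0, 0, 0, 0, 0], [0, 0, 0, 0, 0, 0, 0, 0, 0], [0, 0, 0, 0, 0, 0, 0, 0, 0], [0, 0, 0, 0, 0, 0, 0, 0, 0], [0, 0, 0, 0, 0, 0, 0, 0, 0], [0, 0, 0, 0, 0, 0, 0, 0, 0], [0, 0, 0, 0, 0, 0, 0, 0, 0], [0, 0, 0, 0, 0, 0, 0, 0, 0], [0, 0, 0, 0, 0, 0, 0, 0, 0], [0, 0, 0, 0, 0, 0, 0, 0, 0], [0, 0, 0, 0, 0, 0, 0, 0, 0], [0, 0, 0, 0, 0, 0, 0, 0, 0], [0, 0, 0, 0, 0, 0, 0, 0, 0], [0, 0, 0, 0, 0, 0, 0, 0, 0], [0, 0, 0, 0, 0, 0, 0, 0, 0], [0, 0, 0, 0, 0, 0, 0, 0, 0], [0, 0, 0, 0, 0, 0, 0, 0, 0], [0, 0,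 0, 0, 0, 0, 0, 0, 0], [0, 0, 0, 0, 0, 0, 0, 0, 0], [0, 0, 0, 0, 0, 0, 0, 0, 0], [0, 0, 0, 0, 0, 0, 0, 0, 0], [0, 0, 0, 0, 0, 0, 0, 0, 0], [0, 0, 0, 0, 0, 0, 0, 0, 0], [0, 0, 0, 0, 0, 0, 0, 0, 0], [0, 0, 0, 0, 0, 0, 0, 0, 0], [0, 0, 0, 0, 0, 0, 0, 0, 0], [0, 0, 0, 0, 0, 0, 0, 0, 0], [0, 0, 0, 0, 0, 0, 0, 0, 0], [0, 0, 0, 0, 0, 0, 0, 0, 0], [0, 0, 0, 0, 0, 0, 0, 0, 0], [0, 0, 0, 0, 0, 0, 0, 0, 0], [0, 0, 0, 0, 0, 0, 0, 0, 0], [0, 0, 0, 0, 0, 0, 0, 0, 0], [0, 0, 0, 0, 0, 0, 0, 0, 0], [0, 0, 0, 0, 0, 0, 0, 0, 0], [0, 0, 0, 0, 0, 0, 0, 0, 0], [0, 0, 0, 0, 0, 0, 0, 0, 0], [0, 0, 0, 0, 0, 0, 0, 0, 0], [0, 0, 0, 0, 0, 0, 0, 0, 0], [0, 0, 0, 0, 0, 0, 0, 0,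 0], [0, 0, 0, 0, 0, 0, 0, 0, 0], [0, 0, 0, 0, 0, 0, 0, 0, 0], [0, 0, 0, 0, 0, 0, 0, 0, 0], [0, 0, 0, 0, 0, 0, 0, 0, 0], [0, 0, 0, 0, 0, 0, 0, 0, 0], [0, 0, 0, 0, 0, 0, 0, 0, 0], [0, 0, 0, 0, 0, 0, 0, 0, 0], [0, 0, 0, 0, 0, 0, 0, 0, 0], [0, 0, 0, 0, 0, 0, 0, 0, 0], [0, 0, 0, 0, 0, 0, 0, 0, 0], [0, 0, 0, 0, 0, 0, 0, 0, 0], [0, 0, 0, 0, 0, 0, 0, 0, 0], [0, 0, 0, 0, 0, 0, 0, 0, 0], [0, 0, 0, 0, 0, 0, 0, 0, 0], [0, 0, 0, 0, 0, 0, 0, 0, 0], [0, 0, 0, 0, 0, 0, 0, 0, 0], [0, 0, 0, 0, 0, 0, 0, 0, 0], [0, 0, 0, 0, 0, 0, 0, 0, 0], [0, 0, 0, 0, 0, 0, 0, 0, 0], [0, 0, 0, 0, 0, 0, 0, 0, 0], [0, 0, 0, 0, 0, 0, 0, 0, 0], [0, 0, 0, 0, 0, 0, 0, 0, 0], [0, 0, 0, 0, 0,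 0, 0, 0, 0], [0, 0, 0, 0, 0, 0, 0, 0, 0], [0, 0, 0, 0, 0, 0, 0, 0, 0], [0, 0, 0, 0, 0, 0, 0, 0, 0], [0, 0, 0, 0, 0, 0, 0, 0, 0], [0, 0, 0, 0, 0, 0, 0, 0, 0], [0, 0, 0, 0, 0, 0, 0, 0, 0], [0, 0, 0, 0, 0, 0, 0, 0, 0], [0, 0, 0, 0, 0, 0, 0, 0, 0], [0, 0, 0, 0, 0, 0, 0, 0, 0], [0, 0, 0, 0, 0, 0, 0, 0, 0], [0, 0, 0, 0, 0, 0, 0, 0, 0], [0, 0, 0, 0, 0, 0, 0, 0, 0], [0, 0, 0, 0, 0, 0, 0, 0, 0], [0, 0, 0, 0, 0, 0, 0, 0, 0], [0, 0, 0, 0, 0, 0, 0, 0, 0], [0, 0, 0, 0, 0, 0, 0, 0, 0], [0, 0, 0, 0, 0, 0, 0, 0, 0], [0, 0, 0, 0, 0, 0, 0, 0, 0], [0, 0, 0, 0, 0, 0, 0, 0, 0], [0, 0, 0, 0, 0, 0, 0, 0, 0], [0, 0, 0, 0, 0, 0, 0, 0, 0], [0, 0, 0, 0, 0, 0, 0, 0, 0], [0, 0,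 0, 0, 0, 0, 0, 0, 0], [0, 0, 0, 0, 0, 0, 0, 0, 0], [0, 0, 0, 0, 0, 0, 0, 0, 0], [0, 0, 0, 0, 0, 0, 0, 0, 0], [0, 0, 0, 0, 0, 0, 0, 0, 0], [0, 0, 0, 0, 0, 0, 0, 0, 0], [0, 0, 0, 0, 0, 0, 0, 0, 0], [0, 0, 0, 0, 0, 0, 0, 0, 0], [0, 0, 0, 0, 0, 0, 0, 0, 0], [0, 0, 0, 0, 0, 0, 0, 0, 0], [0, 0, 0, 0, 0, 0, 0, 0, 0], [0, 0, 0, 0, 0, 0, 0, 0, 0], [0, 0, 0, 0, 0, 0, 0, 0, 0], [0, 0, 0, 0, 0, 0, 0, 0, 0], [0, 0, 0, 0, 0, 0, 0, 0, 0], [0, 0, 0, 0, 0, 0, 0, 0, 0], [0, 0, 0, 0, 0, 0, 0, 0, 0], [0, 0, 0, 0, 0, 0, 0, 0, 0], [0, 0, 0, 0, 0, 0, 0, 0, 0], [0, 0, 0, 0, 0, 0, 0, 0, 0], [0, 0, 0, 0, 0, 0, 0, 0, 0], [0, 0, 0, 0, 0, 0, 0, 0, 0], [0, 0, 0, 0, 0, 0, 0, 0,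 0], [0, 0, 0, 0, 0, 0, 0, 0, 0], [0, 0, 0, 0, 0, 0, 0, 0, 0], [0, 0, 0, 0, 0, 0, 0, 0, 0], [0, 0, 0, 0, 0, 0, 0, 0, 0], [0, 0, 0, 0, 0, 0, 0, 0, 0], [0, 0, 0, 0, 0, 0, 0, 0, 0], [0, 0, 0, 0, 0, 0, 0, 0, 0], [0, 0, 0, 0, 0, 0, 0, 0, 0], [0, 0, 0, 0, 0, 0, 0, 0, 0], [0, 0, 0, 0, 0, 0, 0, 0, 0], [0, 0, 0, 0, 0, 0, 0, 0, 0], [0, 0, 0, 0, 0, 0, 0, 0, 0], [0, 0, 0, 0, 0, 0, 0, 0, 0], [0, 0, 0, 0, 0, 0, 0, 0, 0], [0, 0, 0, 0, 0, 0, 0, 0, 0], [0, 0, 0, 0, 0, 0, 0, 0, 0], [0, 0, 0, 0, 0, 0, 0, 0, 0], [0, 0, 0, 0, 0, 0, 0, 0, 0], [0, 0, 0, 0, 0, 0, 0, 0, 0], [0, 0, 0, 0, 0, 0, 0, 0, 0], [0, 0, 0, 0, 0, 0, 0, 0, 0], [0, 0, 0, 0, 0, 0, 0, 0, 0], [0, 0, 0, 0, 0,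 0, 0, 0, 0], [0, 0, 0, 0, 0, 0, 0, 0, 0], [0, 0, 0, 0, 0, 0, 0, 0, 0], [0, 0, 0, 0, 0, 0, 0, 0, 0], [0, 0, 0, 0, 0, 0, 0, 0, 0], [0, 0, 0, 0, 0, 0, 0, 0, 0], [0, 0, 0, 0, 0, 0, 0, 0, 0], [0, 0, 0, 0, 0, 0, 0, 0, 0], [0, 0, 0, 0, 0, 0, 0, 0, 0], [0, 0, 0, 0, 0, 0, 0, 0, 0], [0, 0, 0, 0, 0, 0, 0, 0, 0], [0, 0, 0, 0, 0, 0, 0, 0, 0], [0, 0, 0, 0, 0, 0, 0, 0, 0], [0, 0, 0, 0, 0, 0, 0, 0, 0], [0, 0, 0, 0, 0, 0, 0, 0, 0], [0, 0, 0, 0, 0, 0, 0, 0, 0], [0, 0, 0, 0, 0, 0, 0, 0, 0], [0, 0, 0, 0, 0, 0, 0, 0, 0], [0, 0, 0, 0, 0, 0, 0, 0, 0], [0, 0, 0, 0, 0, 0, 0, 0, 0], [0, 0, 0, 0, 0, 0, 0, 0, 0], [0, 0, 0, 0, 0, 0, 0, 0, 0], [0, 0, 0, 0, 0, 0, 0, 0, 0], [0, 0,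 0, 0, 0, 0, 0, 0, 0], [0, 0, 0, 0, 0, 0, 0, 0, 0], [0, 0, 0, 0, 0, 0, 0, 0, 0], [0, 0, 0, 0, 0, 0, 0, 0, 0], [0, 0, 0, 0, 0, 0, 0, 0, 0], [0, 0, 0, 0, 0, 0, 0, 0, 0], [0, 0, 0, 0, 0, 0, 0, 0, 0], [0, 0, 0, 0, 0, 0, 0, 0, 0], [0, 0, 0, 0, 0, 0, 0, 0, 0], [0, 0, 0, 0, 0, 0, 0, 0, 0], [0, 0, 0, 0, 0, 0, 0, 0, 0], [0, 0, 0, 0, 0, 0, 0, 0, 0], [0, 0, 0, 0, 0, 0, 0, 0, 0], [0, 0, 0, 0, 0, 0, 0, 0, 0], [0, 0, 0, 0, 0, 0, 0, 0, 0], [0, 0, 0, 0, 0, 0, 0, 0, 0], [0, 0, 0, 0, 0, 0, 0, 0, 0], [0, 0, 0, 0, 0, 0, 0, 0, 0], [0, 0, 0, 0, 0, 0, 0, 0, 0], [0, 0, 0, 0, 0, 0, 0, 0, 0], [0, 0, 0, 0, 0, 0, 0, 0, 0], [0, 0, 0, 0, 0, 0, 0, 0, 0], [0, 0, 0, 0, 0, 0, 0, 0,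 0], [0, 0, 0, 0, 0, 0, 0, 0, 0], [0, 0, 0, 0, 0, 0, 0, 0, 0], [0, 0, 0, 0, 0, 0, 0, 0, 0], [0, 0, 0, 0, 0, 0, 0, 0, 0], [0, 0, 0, 0, 0, 0, 0, 0, 0], [0, 0, 0, 0, 0, 0, 0, 0, 0], [0, 0, 0, 0, 0, 0, 0, 0, 0], [0, 0, 0, 0, 0, 0, 0, 0, 0], [0, 0, 0, 0, 0, 0, 0, 0, 0], [0, 0, 0, 0, 0, 0, 0, 0, 0], [0, 0, 0, 0, 0, 0, 0, 0, 0], [0, 0, 0, 0, 0, 0, 0, 0, 0], [0, 0, 0, 0, 0, 0, 0, 0, 0], [0, 0, 0, 0, 0, 0, 0, 0, 0], [0, 0, 0, 0, 0, 0, 0, 0, 0], [0, 0, 0, 0, 0, 0, 0, 0, 0], [0, 0, 0, 0, 0, 0, 0, 0, 0], [0, 0, 0, 0, 0, 0, 0, 0, 0], [0, 0, 0, 0, 0, 0, 0, 0, 0], [0, 0, 0, 0, 0, 0, 0, 0, 0], [0, 0, 0, 0, 0, 0, 0, 0, 0], [0, 0, 0, 0, 0, 0, 0, 0, 0], [0, 0, 0, 0, 0,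 0, 0, 0, 0], [0, 0, 0, 0, 0, 0, 0, 0, 0], [0, 0, 0, 0, 0, 0, 0, 0, 0], [0, 0, 0, 0, 0, 0, 0, 0, 0], [0, 0, 0, 0, 0, 0, 0, 0, 0], [0, 0, 0, 0, 0, 0, 0, 0, 0], [0, 0, 0, 0, 0, 0, 0, 0, 0], [0, 0, 0, 0, 0, 0, 0, 0, 0], [0, 0, 0, 0, 0, 0, 0, 0, 0], [0, 0, 0, 0, 0, 0, 0, 0, 0], [0, 0, 0, 0, 0, 0, 0, 0, 0], [0, 0, 0, 0, 0, 0, 0, 0, 0], [0, 0, 0, 0, 0, 0, 0, 0, 0], [0, 0, 0, 0, 0, 0, 0, 0, 0], [0, 0, 0, 0, 0, 0, 0, 0, 0], [0, 0, 0, 0, 0, 0, 0, 0, 0], [0, 0, 0, 0, 0, 0, 0, 0, 0], [0, 0, 0, 0, 0, 0, 0, 0, 0], [0, 0, 0, 0, 0, 0, 0, 0, 0], [0, 0, 0, 0, 0, 0, 0, 0, 0], [0, 0, 0, 0, 0, 0, 0, 0, 0], [0, 0, 0, 0, 0, 0, 0, 0, 0], [0, 0, 0, 0, 0, 0, 0, 0, 0], [0, 0,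 0, 0, 0, 0, 0, 0, 0], [0, 0, 0, 0, 0, 0, 0, 0, 0], [0, 0, 0, 0, 0, 0, 0, 0, 0], [0, 0, 0, 0, 0, 0, 0, 0, 0], [0, 0, 0, 0, 0, 0, 0, 0, 0], [0, 0, 0, 0, 0, 0, 0, 0, 0], [0, 0, 0, 0, 0, 0, 0, 0, 0], [0, 0, 0, 0, 0, 0, 0, 0, 0], [0, 0, 0, 0, 0, 0, 0, 0, 0], [0, 0, 0, 0, 0, 0, 0, 0, 0], [0, 0, 0, 0, 0, 0, 0, 0, 0], [0, 0, 0, 0, 0, 0, 0, 0, 0], [0, 0, 0, 0, 0, 0, 0, 0, 0], [0, 0, 0, 0, 0, 0, 0, 0, 0], [0, 0, 0, 0, 0, 0, 0, 0, 0], [0, 0, 0, 0, 0, 0, 0, 0, 0], [0, 0, 0, 0, 0, 0, 0, 0, 0], [0, 0, 0, 0, 0, 0, 0, 0, 0], [0, 0, 0, 0, 0, 0, 0, 0, 0], [0, 0, 0, 0, 0, 0, 0, 0, 0], [0, 0, 0, 0, 0, 0, 0, 0, 0], [0, 0, 0, 0, 0, 0, 0, 0, 0], [0, 0, 0, 0, 0, 0, 0, 0,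 0], [0, 0, 0, 0, 0, 0, 0, 0, 0], [0, 0, 0, 0, 0, 0, 0, 0, 0], [0, 0, 0, 0, 0, 0, 0, 0, 0], [0, 0, 0, 0, 0, 0, 0, 0, 0], [0, 0, 0, 0, 0, 0, 0, 0, 0], [0, 0, 0, 0, 0, 0, 0, 0, 0], [0, 0, 0, 0, 0, 0, 0, 0, 0], [0, 0, 0, 0, 0, 0, 0, 0, 0], [0, 0, 0, 0, 0, 0, 0, 0, 0], [0, 0, 0, 0, 0, 0, 0, 0, 0], [0, 0, 0, 0, 0, 0, 0, 0, 0], [0, 0, 0, 0, 0, 0, 0, 0, 0], [0, 0, 0, 0, 0, 0, 0, 0, 0], [0, 0, 0, 0, 0, 0, 0, 0, 0], [0, 0, 0, 0, 0, 0, 0, 0, 0], [0, 0, 0, 0, 0, 0, 0, 0, 0], [0, 0, 0, 0, 0, 0, 0, 0, 0], [0, 0, 0, 0, 0, 0, 0, 0, 0], [0, 0, 0, 0, 0, 0, 0, 0, 0], [0, 0, 0, 0, 0, 0, 0, 0, 0], [0, 0, 0, 0, 0, 0, 0, 0, 0], [0, 0, 0, 0, 0, 0, 0, 0, 0], [0, 0, 0, 0, 0,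 0, 0, 0, 0], [0, 0, 0, 0, 0, 0, 0, 0, 0], [0, 0, 0, 0, 0, 0, 0, 0, 0], [0, 0, 0, 0, 0, 0, 0, 0, 0], [0, 0, 0, 0, 0, 0, 0, 0, 0], [0, 0, 0, 0, 0, 0, 0, 0, 0], [0, 0, 0, 0, 0, 0, 0, 0, 0], [0, 0, 0, 0, 0, 0, 0, 0, 0], [0, 0, 0, 0, 0, 0, 0, 0, 0], [0, 0, 0, 0, 0, 0, 0, 0, 0], [0, 0, 0, 0, 0, 0, 0, 0, 0], [0, 0, 0, 0, 0, 0, 0, 0, 0], [0, 0, 0, 0, 0, 0, 0, 0, 0], [0, 0, 0, 0, 0, 0, 0, 0, 0], [0, 0, 0, 0, 0, 0, 0, 0, 0], [0, 0, 0, 0, 0, 0, 0, 0, 0], [0, 0, 0, 0, 0, 0, 0, 0, 0], [0, 0, 0, 0, 0, 0, 0, 0, 0], [0, 0, 0, 0, 0, 0, 0, 0, 0], [0, 0, 0, 0, 0, 0, 0, 0, 0], [0, 0, 0, 0, 0, 0, 0, 0, 0], [0, 0, 0, 0, 0, 0, 0, 0, 0], [0, 0, 0, 0, 0, 0, 0, 0, 0], [0, 0,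 0, 0, 0, 0, 0, 0, 0], [0, 0, 0, 0, 0, 0, 0, 0, 0], [0, 0, 0, 0, 0, 0, 0, 0, 0], [0, 0, 0, 0, 0, 0, 0, 0, 0], [0, 0, 0, 0, 0, 0, 0, 0, 0], [0, 0, 0, 0, 0, 0, 0, 0, 0], [0, 0, 0, 0, 0, 0, 0, 0, 0], [0, 0, 0, 0, 0, 0, 0, 0, 0], [0, 0, 0, 0, 0, 0, 0, 0, 0], [0, 0, 0, 0, 0, 0, 0, 0, 0], [0, 0, 0, 0, 0, 0, 0, 0, 0], [0, 0, 0, 0, 0, 0, 0, 0, 0], [0, 0, 0, 0, 0, 0, 0, 0, 0], [0, 0, 0, 0, 0, 0, 0, 0, 0], [0, 0, 0, 0, 0, 0, 0, 0, 0], [0, 0, 0, 0, 0, 0, 0, 0, 0], [0, 0, 0, 0, 0, 0, 0, 0, 0], [0, 0, 0, 0, 0, 0, 0, 0, 0], [0, 0, 0, 0, 0, 0, 0, 0, 0], [0, 0, 0, 0, 0, 0, 0, 0, 0], [0, 0, 0, 0, 0, 0, 0, 0, 0], [0, 0, 0, 0, 0, 0, 0, 0, 0], [0, 0, 0, 0, 0, 0, 0, 0,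 0], [0, 0, 0, 0, 0, 0, 0, 0, 0], [0, 0, 0, 0, 0, 0, 0, 0, 0], [0, 0, 0, 0, 0, 0, 0, 0, 0], [0, 0, 0, 0, 0, 0, 0, 0, 0], [0, 0, 0, 0, 0, 0, 0, 0, 0], [0, 0, 0, 0, 0, 0, 0, 0, 0], [0, 0, 0, 0, 0, 0, 0, 0, 0], [0, 0, 0, 0, 0, 0, 0, 0, 0], [0, 0, 0, 0, 0, 0, 0, 0, 0], [0, 0, 0, 0, 0, 0, 0, 0, 0], [0, 0, 0, 0, 0, 0, 0, 0, 0], [0, 0, 0, 0, 0, 0, 0, 0, 0], [0, 0, 0, 0, 0, 0, 0, 0, 0], [0, 0, 0, 0, 0, 0, 0, 0, 0], [0, 0, 0, 0, 0, 0, 0, 0, 0], [0, 0, 0, 0, 0, 0, 0, 0, 0], [0, 0, 0, 0, 0, 0, 0, 0, 0], [0, 0, 0, 0, 0, 0, 0, 0, 0], [0, 0, 0, 0, 0, 0, 0, 0, 0], [0, 0, 0, 0, 0, 0, 0, 0, 0], [0, 0, 0, 0, 0, 0, 0, 0, 0], [0, 0, 0, 0, 0, 0, 0, 0, 0], [0, 0, 0, 0, 0,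 0, 0, 0, 0], [0, 0, 0, 0, 0, 0, 0, 0, 0], [0, 0, 0, 0, 0, 0, 0, 0, 0], [0, 0, 0, 0, 0, 0, 0, 0, 0], [0, 0, 0, 0, 0, 0, 0, 0, 0], [0, 0, 0, 0, 0, 0, 0, 0, 0], [0, 0, 0, 0, 0, 0, 0, 0, 0], [0, 0, 0, 0, 0, 0, 0, 0, 0], [0, 0, 0, 0, 0, 0, 0, 0, 0], [0, 0, 0, 0, 0, 0, 0, 0, 0], [0, 0, 0, 0, 0, 0, 0, 0, 0], [0, 0, 0, 0, 0, 0, 0, 0, 0], [0, 0, 0, 0, 0, 0, 0, 0, 0], [0, 0, 0, 0, 0, 0, 0, 0, 0], [0, 0, 0, 0, 0, 0, 0, 0, 0], [0, 0, 0, 0, 0, 0, 0, 0, 0], [0, 0, 0, 0, 0, 0, 0, 0, 0], [0, 0, 0, 0, 0, 0, 0, 0, 0], [0, 0, 0, 0, 0, 0, 0, 0, 0], [0, 0, 0, 0, 0, 0, 0, 0, 0], [0, 0, 0, 0, 0, 0, 0, 0, 0], [0, 0, 0, 0, 0, 0, 0, 0, 0], [0, 0, 0, 0, 0, 0, 0, 0, 0], [0, 0,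 0, 0, 0, 0, 0, 0, 0], [0, 0, 0, 0, 0, 0, 0, 0, 0], [0, 0, 0, 0, 0, 0, 0, 0, 0], [0, 0, 0, 0, 0, 0, 0, 0, 0], [0, 0, 0, 0, 0, 0, 0, 0, 0], [0, 0, 0, 0, 0, 0, 0, 0, 0], [0, 0, 0, 0, 0, 0, 0, 0, 0], [0, 0, 0, 0, 0, 0, 0, 0, 0], [0, 0, 0, 0, 0, 0, 0, 0, 0], [0, 0, 0, 0, 0, 0, 0, 0, 0], [0, 0, 0, 0, 0, 0, 0, 0, 0], [0, 0, 0, 0, 0, 0, 0, 0, 0], [0, 0, 0, 0, 0, 0, 0, 0, 0], [0, 0, 0, 0, 0, 0, 0, 0, 0], [0, 0, 0, 0, 0, 0, 0, 0, 0], [0, 0, 0, 0, 0, 0, 0, 0, 0], [0, 0, 0, 0, 0, 0, 0, 0, 0], [0, 0, 0, 0, 0, 0, 0, 0, 0], [0, 0, 0, 0, 0, 0, 0, 0, 0], [0, 0, 0, 0, 0, 0, 0, 0, 0], [0, 0, 0, 0, 0, 0, 0, 0, 0], [0, 0, 0, 0, 0, 0, 0, 0, 0], [0, 0, 0, 0, 0, 0, 0, 0,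 0], [0, 0, 0, 0, 0, 0, 0, 0, 0], [0, 0, 0, 0, 0, 0, 0, 0, 0], [0, 0, 0, 0, 0, 0, 0, 0, 0], [0, 0, 0, 0, 0, 0, 0, 0, 0], [0, 0, 0, 0, 0, 0, 0, 0, 0], [0, 0, 0, 0, 0, 0, 0, 0, 0], [0, 0, 0, 0, 0, 0, 0, 0, 0], [0, 0, 0, 0, 0, 0, 0, 0, 0], [0, 0, 0, 0, 0, 0, 0, 0, 0], [0, 0, 0, 0, 0, 0, 0, 0, 0], [0, 0, 0, 0, 0, 0, 0, 0, 0], [0, 0, 0, 0, 0, 0, 0, 0, 0], [0, 0, 0, 0, 0, 0, 0, 0, 0], [0, 0, 0, 0, 0, 0, 0, 0, 0], [0, 0, 0, 0, 0, 0, 0, 0, 0], [0, 0, 0, 0, 0, 0, 0, 0, 0], [0, 0, 0, 0, 0, 0, 0, 0, 0], [0, 0, 0, 0, 0, 0, 0, 0, 0], [0, 0, 0, 0, 0, 0, 0, 0, 0], [0, 0, 0, 0, 0, 0, 0, 0, 0], [0, 0, 0, 0, 0, 0, 0, 0, 0], [0, 0, 0, 0, 0, 0, 0, 0, 0], [0, 0, 0, 0, 0,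 0, 0, 0, 0], [0, 0, 0, 0, 0, 0, 0, 0, 0], [0, 0, 0, 0, 0, 0, 0, 0, 0], [0, 0, 0, 0, 0, 0, 0, 0, 0], [0, 0, 0, 0, 0, 0, 0, 0, 0], [0, 0, 0, 0, 0, 0, 0, 0, 0], [0, 0, 0, 0, 0, 0, 0, 0, 0], [0, 0, 0, 0, 0, 0, 0, 0, 0], [0, 0, 0, 0, 0, 0, 0, 0, 0], [0, 0, 0, 0, 0, 0, 0, 0, 0], [0, 0, 0, 0, 0, 0, 0, 0, 0], [0, 0, 0, 0, 0, 0, 0, 0, 0], [0, 0, 0, 0, 0, 0, 0, 0, 0], [0, 0, 0, 0, 0, 0, 0, 0, 0], [0, 0, 0, 0, 0, 0, 0, 0, 0], [0, 0, 0, 0, 0, 0, 0, 0, 0], [0, 0, 0, 0, 0, 0, 0, 0, 0], [0, 0, 0, 0, 0, 0, 0, 0, 0], [0, 0, 0, 0, 0, 0, 0, 0, 0], [0, 0, 0, 0, 0, 0, 0, 0, 0], [0, 0, 0, 0, 0, 0, 0, 0, 0], [0, 0, 0, 0, 0, 0, 0, 0, 0], [0, 0, 0, 0, 0, 0, 0, 0, 0], [0, 0,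 0, 0, 0, 0, 0, 0, 0], [0, 0, 0, 0, 0, 0, 0, 0, 0], [0, 0, 0, 0, 0, 0, 0, 0, 0], [0, 0, 0, 0, 0, 0, 0, 0, 0], [0, 0, 0, 0, 0, 0, 0, 0, 0], [0, 0, 0, 0, 0, 0, 0, 0, 0], [0, 0, 0, 0, 0, 0, 0, 0, 0], [0, 0, 0, 0, 0, 0, 0, 0, 0], [0, 0, 0, 0, 0, 0, 0, 0, 0], [0, 0, 0, 0, 0, 0, 0, 0, 0], [0, 0, 0, 0, 0, 0, 0, 0, 0], [0, 0, 0, 0, 0, 0, 0, 0, 0], [0, 0, 0, 0, 0, 0, 0, 0, 0], [0, 0, 0, 0, 0, 0, 0, 0, 0], [0, 0, 0, 0, 0, 0, 0, 0, 0], [0, 0, 0, 0, 0, 0, 0, 0, 0], [0, 0, 0, 0, 0, 0, 0, 0, 0], [0, 0, 0, 0, 0, 0, 0, 0, 0], [0, 0, 0, 0, 0, 0, 0, 0, 0], [0, 0, 0, 0, 0, 0, 0, 0, 0], [0, 0, 0, 0, 0, 0, 0, 0, 0], [0, 0, 0, 0, 0, 0, 0, 0, 0], [0, 0, 0, 0, 0, 0, 0, 0,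 0], [0, 0, 0, 0, 0, 0, 0, 0, 0], [0, 0, 0, 0, 0, 0, 0, 0, 0], [0, 0, 0, 0, 0, 0, 0, 0, 0], [0, 0, 0, 0, 0, 0, 0, 0, 0], [0, 0, 0, 0, 0, 0, 0, 0, 0], [0, 0, 0, 0, 0, 0, 0, 0, 0], [0, 0, 0, 0, 0, 0, 0, 0, 0], [0, 0, 0, 0, 0, 0, 0, 0, 0], [0, 0, 0, 0, 0, 0, 0, 0, 0], [0, 0, 0, 0, 0, 0, 0, 0, 0], [0, 0, 0, 0, 0, 0, 0, 0, 0], [0, 0, 0, 0, 0, 0, 0, 0, 0], [0, 0, 0, 0, 0, 0, 0, 0, 0], [0, 0, 0, 0, 0, 0, 0, 0, 0], [0, 0, 0, 0, 0, 0, 0, 0, 0], [0, 0, 0, 0, 0, 0, 0, 0, 0], [0, 0, 0, 0, 0, 0, 0, 0, 0], [0, 0, 0, 0, 0, 0, 0, 0, 0], [0, 0, 0, 0, 0, 0, 0, 0, 0], [0, 0, 0, 0, 0, 0, 0, 0, 0], [0, 0, 0, 0, 0, 0, 0, 0, 0], [0, 0, 0, 0, 0, 0, 0, 0, 0], [0, 0, 0, 0, 0,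 0, 0, 0, 0], [0, 0, 0, 0, 0, 0, 0, 0, 0], [0, 0, 0, 0, 0, 0, 0, 0, 0], [0, 0, 0, 0, 0, 0, 0, 0, 0], [0, 0, 0, 0, 0, 0, 0, 0, 0], [0, 0, 0, 0, 0, 0, 0, 0, 0], [0, 0, 0, 0, 0, 0, 0, 0, 0], [0, 0, 0, 0, 0, 0, 0, 0, 0], [0, 0, 0, 0, 0, 0, 0, 0, 0], [0, 0, 0, 0, 0, 0, 0, 0, 0], [0, 0, 0, 0, 0, 0, 0, 0, 0], [0, 0, 0, 0, 0, 0, 0, 0, 0], [0, 0, 0, 0, 0, 0, 0, 0, 0], [0, 0, 0, 0, 0, 0, 0, 0, 0], [0, 0, 0, 0, 0, 0, 0, 0, 0], [0, 0, 0, 0, 0, 0, 0, 0, 0], [1, 0, 0, 0, 0, 0, 0, 0, 0], [0, 1, 0, 0, 0, 0, 0, 0, 0], [0, 0, 1, 0, 0, 0, 0, 0, 0], [0, 0, 0, 1, 0, 0, 0, 0, 0], [0, 0, 0, 0, 1, 0, 0, 0, 0], [0, 0, 0, 0, 0, 1, 0, 0, 0], [0, 0, 0, 0, 0, 0, 1, 0, 0], [0, 0,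 0, 0, 0, 0, 0, 1, 0], [0, 0, 0, 0, 0, 0, 0, 0, 1], [0, 0, 22, 0, 1, 0, 29, 0, 0], [0, 0, 27, 0, 1, 0, 1, 0, 0], [0, 0, 20, 29, 25, 0, 7, 0, 0], [0, 0, 23, 0, 0, 0, 28, 0, 0], [0, 0, 1, 0, 0, 0, 0, 0, 0], [28, 0, 22, 2, 10, 28, 14, 0, 0], [0, 0, 0, 0, 0, 0, 2, 0, 0], [0, 0, 29, 0, 0, 0, 1, 0, 0], [0, 0, 16, 0, 0, 0, 2, 0, 0], [0, 0, 8, 0, 0, 0, 29, 0, 0], [0, 0, 10, 3, 2, 0, 13, 0, 0], [0, 0, 13, 0, 0, 0, 0, 0, 0], [0, 0, 28, 0, 0, 0, 1, 0, 0], [0, 0, 12, 21, 6, 0, 2, 0, 0], [0, 0, 15, 0, 1, 0, 4, 0, 0], [0, 0, 1, 0, 0, 0, 0, 0, 0], [0, 0, 23, 0, 0, 0, 2, 0, 0], [0, 28, 16, 28, 22, 28, 18, 0, 0], [0, 0, 25, 0, 0, 0, 2, 0, 0], [0, 0, 6, 0, 29, 0, 0,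 0, 0], [0, 0, 24, 0, 0, 0, 29, 0, 0], [0, 0, 28, 19, 10, 0, 20, 2, 0], [0, 0, 7, 24, 29, 0, 24, 1, 0], [9, 3, 24, 14, 14, 9, 24, 11, 14], [0, 0, 2, 0, 29, 0, 0, 0, 0], [0, 0, 0, 29, 29, 0, 1, 0, 0], [0, 0, 27, 0, 0, 0, 1, 0, 0], [0, 0, 1, 2, 29, 0, 1, 0, 0], [1, 0, 29, 25, 29, 1, 1, 0, 3], [1, 29, 27, 1, 0, 2, 27, 28, 2], [29, 0, 27, 5, 29, 1, 28, 29, 1], [27, 1, 0, 3, 29, 4, 2, 2, 1], [28, 29, 24, 28, 1, 28, 28, 0, 29], [27, 29, 28, 1, 29, 0, 23, 28, 1], [28, 24, 2, 1, 2, 29, 2, 0, 5]]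

/-- the twist of a word -/
noncomputable def Ev (w : ℕ) : List ℕ := lnthN evL w

/-- all relator words -/
def relL : List (List ℕ) := [[1, 1, 1, 1, 1, 1, 1], [1, 2, 1, 2, 1, 2, 1, 2, 1, 2], [1, 3, 1, 3, 1, 3, 1, 3, 1, 3, 1, 3, 1, 3], [1, 1, 1, 1, 1, 1, 3, 0, 3, 0, 3, 0, 3, 0, 3], [1, 1, 3, 0, 3, 3, 1, 3, 3, 1, 1, 3, 0, 3, 3, 1, 3, 3], [1, 1, 1, 1, 1, 1, 2, 0, 2, 0, 2, 0, 2, 0, 2, 0, 2, 0, 2], [1, 1, 1, 3, 3, 0, 3, 1, 3, 3, 0, 3, 0, 0, 2, 2, 0, 2, 2], [1, 3, 1, 3, 1, 2, 2, 0, 3, 0, 2, 1, 2, 1, 3, 1, 2, 2, 2], [1, 1, 1, 1, 3, 3, 1, 3, 3, 1, 1, 2, 1, 2, 2, 0, 2, 1, 2, 2], [1, 1, 1, 2, 1, 1, 2, 0, 2, 1, 3, 3, 0, 0, 2, 2, 1, 3, 0, 3], [1, 1, 1, 2, 0, 3,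 1, 1, 2, 2, 1, 1, 1, 2, 0, 3, 1, 1, 2, 2], [1, 1, 1, 2, 2, 1, 1, 3, 3, 3, 3, 0, 0, 3, 1, 2, 0, 2, 1, 2], [1, 1, 3, 3, 0, 2, 1, 1, 2, 2, 0, 2, 1, 2, 0, 2, 2, 2, 1, 2], [1, 3, 3, 3, 1, 3, 3, 3, 1, 3, 3, 3, 1, 3, 3, 3, 1, 3, 3, 3], [1, 1, 1, 1, 1, 2, 2, 0, 2, 2, 1, 2, 0, 0, 2, 2, 0, 2, 2, 1, 2], [1, 1, 1, 1, 3, 3, 0, 0, 2, 1, 3, 0, 0, 0, 3, 3, 0, 0, 2, 1, 3], [1, 1, 1, 1, 3, 0, 3, 1, 3, 0, 2, 1, 1, 2, 2, 2, 2, 0, 0, 3, 3], [1, 1, 1, 1, 2, 1, 2, 0, 3, 3, 1, 1, 2, 2, 0, 3, 1, 3, 0, 0, 3], [1, 1, 1, 3, 1, 1, 2, 0, 3, 3, 0, 2, 0, 2, 2, 0, 3, 3, 1, 2, 2], [1, 1, 1, 3, 3, 0, 3, 1, 3, 1, 2, 1, 2, 1, 2, 0, 2, 2, 0, 2, 2], [1, 1, 1, 2, 1, 2, 0, 2, 1, 1, 3, 3,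 0, 2, 0, 2, 0, 2, 1, 1, 2], [1, 1, 1, 2, 1, 2, 2, 0, 3, 3, 3, 0, 2, 2, 2, 0, 2, 0, 3, 0, 2], [1, 1, 1, 2, 0, 3, 3, 3, 1, 3, 3, 1, 2, 2, 1, 3, 0, 2, 2, 1, 2], [1, 1, 1, 2, 0, 3, 3, 0, 0, 2, 2, 1, 1, 3, 0, 3, 1, 3, 3, 0, 2], [1, 1, 3, 1, 1, 3, 3, 0, 3, 1, 3, 3, 0, 3, 3, 0, 3, 3, 1, 3, 3], [1, 1, 3, 1, 1, 2, 0, 3, 0, 0, 3, 3, 3, 1, 2, 2, 2, 0, 2, 0, 3], [1, 1, 3, 3, 1, 2, 0, 2, 2, 2, 1, 1, 2, 2, 2, 1, 3, 1, 2, 0, 3], [1, 1, 3, 3, 3, 0, 2, 2, 0, 3, 3, 3, 3, 3, 3, 0, 2, 0, 2, 2, 2], [1, 1, 3, 3, 3, 0, 2, 2, 2, 1, 3, 1, 3, 1, 3, 1, 1, 3, 3, 0, 3], [1, 1, 3, 3, 3, 0, 2, 2, 2, 2, 0, 2, 0, 2, 0, 2, 1, 3, 3, 0, 3], [1, 1, 3, 0, 3, 3, 0, 0, 3, 0, 0, 2, 1, 3,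 3, 3, 3, 0, 2, 0, 3], [1, 1, 3, 0, 3, 0, 2, 2, 0, 3, 1, 2, 2, 2, 0, 2, 2, 0, 3, 1, 3], [1, 1, 3, 0, 0, 2, 2, 2, 2, 2, 2, 1, 3, 1, 2, 0, 3, 3, 0, 2, 2], [1, 1, 2, 1, 3, 3, 0, 2, 0, 2, 0, 3, 3, 3, 0, 2, 2, 1, 2, 1, 2], [1, 1, 2, 0, 3, 3, 1, 2, 1, 3, 0, 3, 1, 2, 1, 3, 1, 3, 3, 3, 3], [1, 1, 1, 1, 1, 2, 2, 0, 2, 2, 1, 1, 1, 3, 3, 0, 3, 1, 3, 3, 0, 3], [1, 1, 1, 1, 3, 1, 2, 1, 3, 1, 3, 3, 3, 1, 2, 2, 2, 1, 3, 3, 0, 3], [1, 1, 1, 1, 3, 1, 2, 2, 0, 2, 1, 2, 0, 0, 3, 3, 1, 1, 2, 2, 1, 3], [1, 1, 1, 1, 3, 3, 1, 3, 3, 1, 3, 0, 3, 0, 3, 0, 2, 0, 2, 1, 2, 2], [1, 1, 1, 1, 3, 3, 0, 0, 2, 1, 3, 1, 1, 1, 1, 3, 3, 0, 0, 2, 1, 3], [1, 1, 1, 1, 3, 3, 0, 2, 2, 1, 3,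 3, 1, 3, 1, 2, 2, 1, 3, 0, 0, 2], [1, 1, 1, 1, 3, 0, 3, 3, 1, 2, 0, 3, 3, 0, 2, 2, 0, 2, 2, 2, 1, 3], [1, 1, 1, 1, 3, 0, 0, 3, 1, 3, 1, 3, 1, 2, 2, 0, 0, 3, 1, 3, 0, 3], [1, 1, 1, 3, 1, 3, 3, 3, 0, 2, 1, 3, 0, 0, 0, 2, 2, 2, 0, 2, 0, 3], [1, 1, 1, 3, 1, 3, 0, 3, 1, 1, 2, 0, 2, 2, 0, 2, 2, 2, 2, 0, 0, 2], [1, 1, 1, 3, 1, 2, 1, 3, 3, 1, 2, 0, 2, 2, 2, 1, 3, 3, 3, 0, 0, 2], [1, 1, 1, 3, 1, 2, 1, 3, 3, 3, 1, 2, 0, 0, 3, 0, 0, 3, 1, 2, 0, 3], [1, 1, 1, 3, 1, 2, 0, 0, 0, 2, 1, 3, 1, 2, 2, 1, 1, 3, 1, 1, 2, 2], [1, 1, 1, 3, 3, 3, 1, 3, 3, 1, 2, 0, 0, 3, 3, 3, 0, 3, 0, 0, 0, 3], [1, 1, 1, 3, 3, 3, 1, 3, 3, 3, 0, 0, 0, 3, 0, 2, 2, 2, 1, 1, 3, 3], [1, 1, 1,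 3, 3, 3, 0, 0, 2, 2, 1, 1, 2, 0, 3, 3, 1, 2, 2, 0, 0, 3], [1, 1, 1, 3, 3, 0, 3, 3, 1, 1, 1, 2, 1, 1, 2, 1, 2, 2, 0, 0, 0, 2], [1, 1, 1, 3, 3, 0, 2, 0, 3, 0, 2, 1, 3, 0, 0, 2, 1, 3, 3, 0, 0, 3], [1, 1, 1, 3, 0, 3, 0, 0, 0, 3, 3, 1, 3, 1, 2, 1, 1, 2, 1, 2, 2, 2], [1, 1, 1, 3, 0, 3, 0, 2, 0, 2, 2, 1, 2, 1, 3, 3, 3, 3, 1, 2, 1, 2], [1, 1, 1, 3, 0, 0, 0, 3, 1, 3, 3, 0, 3, 1, 2, 0, 3, 0, 0, 2, 1, 3], [1, 1, 1, 3, 0, 0, 2, 2, 2, 2, 2, 0, 3, 0, 3, 1, 1, 2, 0, 3, 3, 3], [1, 1, 1, 3, 0, 2, 1, 1, 3, 0, 3, 3, 3, 3, 3, 3, 3, 0, 3, 1, 1, 2], [1, 1, 1, 3, 0, 2, 1, 2, 2, 2, 1, 1, 2, 1, 2, 0, 3, 3, 3, 0, 3, 3], [1, 1, 1, 2, 1, 1, 3, 1, 2, 2, 2, 1, 1, 1, 2, 1, 1, 3,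 1, 2, 2, 2], [1, 1, 1, 2, 1, 2, 1, 2, 1, 3, 1, 3, 3, 1, 1, 3, 0, 3, 3, 1, 3, 3], [1, 1, 1, 2, 0, 3, 3, 0, 3, 1, 2, 1, 1, 2, 0, 2, 2, 1, 1, 2, 0, 3], [1, 1, 1, 2, 0, 3, 0, 0, 3, 1, 2, 1, 1, 1, 2, 0, 3, 0, 0, 3, 1, 2], [1, 1, 1, 2, 2, 1, 2, 0, 3, 3, 1, 1, 2, 1, 2, 2, 1, 3, 0, 2, 0, 3], [1, 1, 3, 1, 1, 3, 1, 3, 1, 1, 3, 3, 1, 1, 2, 1, 1, 2, 2, 2, 2, 2], [1, 1, 3, 1, 1, 3, 1, 3, 0, 3, 1, 1, 2, 1, 1, 2, 1, 3, 0, 2, 1, 2], [1, 1, 3, 1, 1, 2, 1, 2, 0, 0, 3, 3, 3, 0, 2, 2, 0, 2, 2, 2, 2, 2], [1, 1, 3, 1, 3, 1, 3, 1, 3, 1, 3, 1, 3, 1, 1, 2, 1, 2, 1, 2, 1, 2], [1, 1, 3, 1, 3, 3, 1, 2, 1, 1, 2, 2, 0, 3, 3, 0, 3, 1, 1, 3, 3, 3], [1, 1, 3, 1, 3, 3, 0, 0, 3, 3,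 1, 3, 1, 2, 2, 1, 2, 1, 3, 1, 1, 2], [1, 1, 3, 1, 3, 0, 0, 3, 1, 3, 3, 0, 2, 1, 1, 3, 3, 3, 1, 1, 3, 3], [1, 1, 3, 1, 2, 2, 2, 0, 2, 1, 2, 1, 1, 2, 2, 1, 1, 2, 0, 2, 1, 3], [1, 1, 3, 3, 1, 3, 3, 1, 3, 3, 3, 3, 3, 1, 3, 0, 0, 2, 1, 3, 0, 3], [1, 1, 3, 3, 1, 2, 0, 3, 3, 1, 3, 3, 0, 2, 0, 2, 1, 1, 3, 3, 0, 2], [1, 1, 3, 3, 1, 2, 2, 2, 1, 2, 0, 0, 3, 0, 2, 0, 3, 0, 0, 2, 0, 2], [1, 1, 3, 3, 3, 3, 3, 0, 2, 0, 3, 3, 1, 2, 2, 0, 3, 3, 3, 0, 2, 2], [1, 1, 3, 3, 3, 3, 0, 0, 3, 1, 2, 0, 0, 3, 0, 3, 0, 3, 1, 1, 2, 2], [1, 1, 3, 0, 3, 0, 2, 0, 2, 2, 1, 2, 1, 3, 3, 3, 3, 3, 0, 3, 0, 3], [1, 1, 3, 0, 2, 0, 3, 1, 3, 3, 0, 2, 2, 2, 1, 2, 0, 3, 3, 0, 3, 3], [1, 1,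 3, 0, 2, 0, 3, 3, 3, 0, 3, 1, 1, 3, 0, 2, 0, 3, 3, 3, 0, 3], [1, 1, 2, 1, 3, 0, 3, 1, 1, 2, 2, 2, 1, 1, 2, 2, 0, 3, 3, 3, 0, 2], [1, 1, 2, 1, 2, 2, 0, 3, 3, 3, 0, 3, 1, 1, 2, 0, 3, 3, 1, 2, 1, 3], [1, 1, 2, 1, 2, 2, 0, 2, 0, 3, 0, 3, 3, 0, 2, 2, 2, 2, 0, 2, 2, 2], [1, 1, 2, 1, 2, 2, 2, 1, 2, 0, 2, 1, 1, 2, 1, 2, 2, 2, 1, 2, 0, 2], [1, 1, 2, 2, 1, 1, 2, 2, 1, 2, 0, 3, 3, 3, 3, 0, 2, 1, 2, 0, 2, 2], [1, 1, 2, 2, 1, 2, 0, 2, 0, 2, 1, 3, 3, 3, 0, 3, 1, 2, 2, 2, 1, 2], [1, 1, 2, 2, 0, 3, 0, 2, 1, 3, 0, 2, 2, 0, 2, 2, 2, 0, 3, 3, 1, 3], [1, 1, 2, 2, 0, 2, 1, 3, 1, 3, 1, 1, 2, 2, 2, 2, 0, 3, 1, 2, 0, 2], [1, 1, 2, 2, 0, 2, 1, 2, 0, 2, 2, 0, 3, 0, 3, 0, 3,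 1, 3, 3, 0, 2], [1, 3, 1, 3, 0, 3, 1, 3, 1, 2, 1, 3, 0, 2, 0, 3, 0, 3, 0, 2, 2, 2], [1, 3, 1, 3, 0, 3, 1, 3, 1, 2, 1, 3, 0, 2, 2, 1, 2, 1, 2, 2, 2, 2], [1, 3, 1, 2, 2, 1, 2, 2, 2, 2, 2, 1, 3, 1, 2, 2, 1, 2, 2, 2, 2, 2], [1, 1, 1, 1, 1, 1, 3, 3, 1, 3, 3, 1, 1, 3, 0, 3, 3, 1, 3, 3, 1, 1, 3], [1, 1, 1, 1, 1, 1, 2, 2, 1, 2, 0, 0, 2, 2, 0, 2, 2, 1, 2, 0, 0, 2, 2], [1, 1, 1, 1, 1, 3, 1, 2, 0, 2, 1, 2, 1, 1, 1, 2, 2, 1, 1, 3, 3, 3, 3], [1, 1, 1, 1, 1, 3, 1, 2, 2, 0, 0, 3, 0, 3, 3, 3, 1, 3, 0, 3, 1, 3, 3], [1, 1, 1, 1, 1, 3, 3, 0, 0, 0, 3, 0, 3, 1, 3, 0, 2, 1, 1, 2, 2, 2, 2], [1, 1, 1, 1, 1, 3, 0, 3, 3, 3, 1, 3, 0, 3, 1, 3, 3, 0, 0, 3, 1, 2, 2], [1, 1, 1,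 1, 1, 3, 0, 0, 0, 2, 1, 2, 0, 3, 3, 1, 1, 2, 2, 0, 3, 1, 3], [1, 1, 1, 1, 1, 2, 1, 3, 0, 0, 0, 3, 3, 0, 0, 2, 1, 3, 0, 0, 0, 3, 3], [1, 1, 1, 1, 1, 2, 2, 1, 3, 0, 3, 1, 1, 1, 2, 1, 1, 2, 0, 2, 1, 3, 3], [1, 1, 1, 1, 1, 2, 2, 0, 2, 2, 0, 0, 0, 0, 3, 3, 0, 3, 1, 3, 3, 0, 3], [1, 1, 1, 1, 3, 1, 1, 1, 3, 3, 3, 1, 3, 3, 1, 2, 0, 0, 3, 3, 3, 0, 3], [1, 1, 1, 1, 3, 1, 1, 1, 3, 3, 0, 3, 0, 0, 3, 0, 0, 0, 2, 2, 1, 2, 2], [1, 1, 1, 1, 3, 1, 1, 3, 3, 3, 3, 1, 3, 3, 1, 3, 0, 0, 2, 1, 2, 0, 2], [1, 1, 1, 1, 3, 1, 1, 2, 2, 2, 0, 3, 3, 3, 1, 3, 0, 2, 2, 0, 3, 0, 2], [1, 1, 1, 1, 3, 1, 3, 3, 0, 3, 1, 2, 0, 3, 0, 0, 2, 1, 3, 1, 1, 1, 3], [1, 1, 1, 1, 3, 3, 1, 3, 1,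 2, 1, 1, 2, 1, 2, 2, 2, 1, 1, 1, 3, 0, 3], [1, 1, 1, 1, 3, 3, 3, 0, 3, 0, 0, 3, 0, 2, 0, 2, 2, 1, 1, 1, 2, 1, 2], [1, 1, 1, 1, 3, 3, 3, 0, 2, 0, 0, 3, 0, 0, 0, 3, 3, 3, 0, 2, 0, 0, 3], [1, 1, 1, 1, 3, 3, 0, 0, 2, 0, 0, 3, 3, 0, 2, 0, 3, 1, 1, 1, 3, 0, 2], [1, 1, 1, 1, 3, 0, 3, 0, 2, 2, 2, 2, 0, 3, 0, 3, 3, 1, 3, 1, 2, 1, 2], [1, 1, 1, 1, 3, 0, 0, 2, 1, 2, 2, 2, 2, 2, 2, 2, 1, 2, 0, 0, 3, 1, 2], [1, 1, 1, 1, 3, 0, 2, 1, 1, 2, 1, 3, 0, 0, 0, 3, 0, 2, 1, 1, 2, 1, 3], [1, 1, 1, 1, 3, 0, 2, 2, 2, 1, 1, 3, 3, 1, 1, 1, 3, 3, 3, 1, 3, 3, 3], [1, 1, 1, 1, 2, 1, 1, 1, 3, 3, 0, 3, 3, 1, 1, 1, 2, 1, 1, 2, 1, 2, 2], [1, 1, 1, 1, 2, 1, 1, 1, 2, 1, 2, 2, 2, 1, 1,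 3, 0, 2, 2, 0, 2, 2, 2], [1, 1, 1, 1, 2, 1, 1, 3, 3, 0, 2, 2, 1, 3, 0, 0, 3, 3, 1, 1, 2, 2, 2], [1, 1, 1, 1, 2, 1, 1, 2, 2, 0, 3, 1, 1, 2, 0, 3, 1, 2, 1, 3, 1, 2, 2], [1, 1, 1, 1, 2, 1, 3, 1, 3, 3, 3, 1, 1, 1, 2, 0, 3, 1, 2, 2, 2, 0, 2], [1, 1, 1, 1, 2, 1, 3, 1, 2, 0, 3, 3, 0, 3, 0, 0, 2, 2, 1, 3, 0, 3, 3], [1, 1, 1, 1, 2, 1, 3, 1, 2, 2, 1, 1, 3, 1, 1, 2, 2, 1, 1, 1, 3, 1, 2], [1, 1, 1, 1, 2, 1, 3, 0, 0, 3, 3, 1, 3, 0, 0, 3, 0, 2, 1, 2, 2, 1, 3], [1, 1, 1, 1, 2, 1, 3, 0, 2, 1, 1, 2, 1, 1, 3, 0, 2, 2, 2, 0, 3, 0, 2], [1, 1, 1, 1, 2, 0, 3, 1, 1, 2, 1, 3, 0, 2, 1, 2, 2, 0, 2, 1, 1, 1, 2], [1, 1, 1, 1, 2, 2, 1, 2, 2, 0, 0, 0, 3, 1, 1, 1, 3, 3, 0, 3, 0,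 0, 3], [1, 1, 1, 1, 2, 2, 1, 2, 2, 2, 1, 3, 0, 3, 0, 0, 3, 3, 3, 0, 3, 1, 2], [1, 1, 1, 1, 2, 2, 0, 0, 3, 3, 3, 1, 2, 1, 1, 1, 2, 2, 2, 0, 2, 2, 2], [1, 1, 1, 1, 2, 2, 0, 2, 2, 1, 2, 0, 0, 2, 2, 0, 2, 0, 3, 0, 3, 0, 3], [1, 1, 1, 1, 2, 2, 2, 1, 3, 0, 0, 2, 1, 2, 1, 3, 3, 3, 3, 3, 1, 1, 2], [1, 1, 1, 1, 2, 2, 2, 0, 2, 0, 3, 1, 1, 1, 3, 1, 3, 3, 3, 0, 2, 1, 3], [1, 1, 1, 3, 1, 1, 1, 3, 0, 0, 3, 1, 2, 2, 1, 1, 2, 1, 3, 0, 3, 3, 3], [1, 1, 1, 3, 1, 1, 3, 3, 1, 3, 3, 0, 3, 1, 1, 3, 1, 1, 1, 3, 3, 1, 3], [1, 1, 1, 3, 1, 1, 3, 3, 0, 3, 3, 3, 0, 3, 3, 3, 1, 3, 0, 2, 0, 0, 2], [1, 1, 1, 3, 1, 1, 3, 3, 0, 0, 3, 0, 0, 2, 2, 1, 2, 0, 2, 2, 0, 3, 3], [1, 1, 1,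 3, 1, 1, 2, 1, 1, 3, 0, 3, 3, 3, 1, 3, 3, 3, 0, 0, 3, 3, 3], [1, 1, 1, 3, 1, 1, 2, 1, 3, 3, 3, 1, 1, 3, 3, 0, 2, 1, 3, 0, 0, 2, 2], [1, 1, 1, 3, 1, 1, 2, 2, 1, 2, 0, 3, 0, 3, 3, 1, 1, 1, 3, 0, 3, 1, 2], [1, 1, 1, 3, 1, 1, 2, 2, 0, 3, 1, 3, 0, 3, 3, 1, 2, 1, 1, 2, 2, 2, 2], [1, 1, 1, 3, 1, 1, 2, 2, 2, 0, 2, 2, 2, 2, 2, 1, 2, 1, 1, 1, 2, 2, 2], [1, 1, 1, 3, 1, 3, 1, 1, 2, 2, 2, 1, 1, 1, 2, 2, 1, 3, 0, 0, 3, 0, 3], [1, 1, 1, 3, 1, 3, 3, 1, 2, 2, 0, 0, 2, 2, 1, 3, 3, 0, 3, 1, 2, 0, 3], [1, 1, 1, 3, 1, 3, 3, 3, 1, 1, 3, 3, 3, 0, 0, 3, 1, 1, 1, 3, 0, 2, 2], [1, 1, 1, 3, 1, 3, 3, 3, 1, 3, 1, 3, 1, 2, 1, 2, 2, 1, 3, 0, 0, 3, 3], [1, 1, 1, 3, 1, 3, 3, 3, 1,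 2, 2, 2, 2, 2, 1, 3, 0, 3, 3, 1, 3, 0, 3], [1, 1, 1, 3, 1, 3, 3, 3, 3, 0, 2, 0, 3, 3, 3, 3, 3, 3, 0, 3, 3, 0, 2], [1, 1, 1, 3, 1, 2, 1, 3, 0, 0, 3, 0, 3, 3, 0, 0, 3, 1, 2, 0, 3, 0, 2], [1, 1, 1, 3, 1, 2, 1, 2, 1, 3, 3, 1, 3, 1, 2, 0, 3, 3, 1, 3, 0, 3, 3], [1, 1, 1, 3, 1, 2, 1, 2, 1, 2, 1, 1, 3, 3, 0, 3, 0, 0, 2, 2, 0, 2, 2], [1, 1, 1, 3, 1, 2, 0, 3, 0, 0, 2, 1, 2, 0, 3, 3, 3, 0, 0, 2, 0, 3, 3], [1, 1, 1, 3, 1, 2, 0, 2, 1, 3, 0, 2, 0, 3, 3, 3, 0, 3, 3, 3, 0, 0, 2], [1, 1, 1, 3, 3, 1, 1, 2, 2, 2, 2, 1, 3, 3, 0, 2, 1, 1, 2, 0, 3, 0, 2], [1, 1, 1, 3, 3, 1, 3, 1, 1, 2, 0, 2, 2, 2, 2, 1, 2, 2, 1, 1, 2, 1, 2], [1, 1, 1, 3, 3, 1, 3, 1, 3, 0, 3, 0, 0, 2, 0,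 0, 2, 1, 1, 2, 1, 2, 2], [1, 1, 1, 3, 3, 1, 3, 3, 1, 3, 0, 0, 2, 2, 1, 1, 3, 3, 3, 1, 2, 0, 3], [1, 1, 1, 3, 3, 1, 3, 3, 0, 3, 1, 3, 0, 3, 3, 3, 3, 1, 3, 1, 1, 2, 2], [1, 1, 1, 3, 3, 1, 3, 0, 3, 3, 1, 2, 0, 3, 3, 0, 0, 3, 1, 3, 0, 0, 3], [1, 1, 1, 3, 3, 1, 2, 1, 3, 3, 1, 3, 1, 2, 1, 2, 1, 1, 2, 0, 0, 3, 3], [1, 1, 1, 3, 3, 1, 2, 1, 3, 3, 1, 3, 3, 0, 3, 0, 3, 1, 2, 0, 0, 3, 3], [1, 1, 1, 3, 3, 1, 2, 2, 0, 3, 1, 1, 2, 2, 1, 3, 3, 0, 2, 2, 1, 3, 3], [1, 1, 1, 3, 3, 1, 2, 2, 0, 3, 3, 3, 1, 2, 2, 1, 1, 1, 2, 0, 2, 1, 3], [1, 1, 1, 3, 3, 3, 3, 3, 3, 1, 3, 3, 0, 3, 1, 2, 1, 2, 2, 0, 0, 3, 3], [1, 1, 1, 3, 3, 3, 0, 3, 0, 0, 3, 0, 2, 0, 2, 2, 1, 1, 3, 0, 3,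 0, 3], [1, 1, 1, 3, 3, 3, 0, 3, 0, 2, 1, 3, 0, 0, 2, 2, 1, 3, 1, 2, 2, 0, 2], [1, 1, 1, 3, 3, 3, 0, 2, 0, 2, 1, 2, 0, 3, 0, 3, 1, 1, 2, 1, 2, 0, 3], [1, 1, 1, 3, 3, 0, 3, 3, 0, 0, 3, 1, 1, 2, 1, 2, 0, 2, 0, 2, 2, 1, 2], [1, 1, 1, 3, 3, 0, 3, 0, 3, 3, 3, 1, 3, 1, 2, 0, 3, 3, 1, 3, 0, 3, 3], [1, 1, 1, 3, 3, 0, 0, 0, 2, 0, 3, 3, 3, 1, 3, 3, 0, 3, 1, 3, 0, 0, 3], [1, 1, 1, 3, 3, 0, 2, 0, 0, 2, 2, 1, 3, 0, 2, 0, 0, 2, 1, 1, 2, 0, 3], [1, 1, 1, 3, 3, 0, 2, 2, 1, 1, 2, 2, 2, 1, 1, 3, 3, 0, 2, 2, 0, 0, 2], [1, 1, 1, 3, 0, 3, 1, 1, 3, 1, 1, 2, 1, 3, 1, 3, 3, 3, 1, 1, 2, 0, 2], [1, 1, 1, 3, 0, 3, 3, 1, 1, 3, 3, 1, 3, 1, 3, 1, 2, 0, 3, 3, 3, 0, 2], [1, 1, 1,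 3, 0, 3, 3, 3, 3, 1, 2, 2, 0, 3, 0, 0, 2, 1, 3, 0, 3, 0, 2], [1, 1, 1, 3, 0, 3, 0, 3, 0, 0, 3, 3, 1, 1, 2, 2, 0, 3, 1, 3, 0, 0, 3], [1, 1, 1, 3, 0, 3, 0, 0, 3, 0, 3, 3, 3, 1, 2, 2, 1, 2, 1, 1, 3, 0, 2], [1, 1, 1, 3, 0, 3, 0, 0, 0, 3, 1, 3, 0, 0, 0, 3, 1, 3, 3, 0, 0, 0, 3], [1, 1, 1, 3, 0, 3, 0, 2, 2, 2, 2, 0, 3, 0, 3, 3, 1, 3, 3, 0, 3, 0, 3], [1, 1, 1, 3, 0, 2, 1, 1, 2, 1, 1, 3, 1, 2, 1, 2, 0, 3, 1, 3, 0, 3, 3], [1, 1, 1, 3, 0, 2, 0, 3, 0, 3, 3, 0, 2, 0, 3, 0, 2, 2, 2, 2, 0, 0, 3], [1, 1, 1, 3, 0, 2, 0, 0, 3, 3, 3, 1, 2, 1, 2, 0, 2, 1, 1, 1, 2, 2, 2], [1, 1, 1, 3, 0, 2, 0, 0, 2, 1, 3, 1, 2, 1, 2, 0, 0, 3, 0, 0, 3, 0, 2], [1, 1, 1, 3, 0, 2, 2, 1, 3,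 3, 0, 2, 1, 3, 3, 0, 0, 3, 3, 0, 2, 0, 2], [1, 1, 1, 3, 0, 2, 2, 0, 3, 1, 2, 1, 2, 2, 2, 0, 3, 0, 0, 3, 0, 0, 2], [1, 1, 1, 3, 0, 2, 2, 2, 1, 2, 2, 2, 2, 0, 3, 0, 0, 2, 1, 1, 1, 2, 2], [1, 1, 1, 2, 1, 1, 1, 2, 1, 2, 0, 2, 1, 1, 3, 3, 3, 1, 3, 1, 3, 1, 3], [1, 1, 1, 2, 1, 1, 1, 2, 2, 1, 1, 2, 1, 3, 0, 3, 0, 2, 0, 0, 3, 3, 3], [1, 1, 1, 2, 1, 3, 1, 2, 1, 3, 3, 1, 2, 2, 2, 1, 1, 3, 3, 1, 2, 0, 3], [1, 1, 1, 2, 1, 3, 3, 1, 3, 0, 3, 1, 3, 3, 1, 2, 0, 3, 3, 0, 0, 2, 2], [1, 1, 1, 2, 1, 3, 3, 1, 2, 1, 1, 2, 2, 2, 2, 1, 1, 1, 2, 1, 3, 0, 3], [1, 1, 1, 2, 1, 3, 3, 3, 1, 3, 3, 0, 2, 0, 2, 1, 3, 1, 1, 3, 3, 1, 2], [1, 1, 1, 2, 1, 2, 1, 2, 2, 2, 0, 3, 1, 2, 2,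 2, 0, 2, 2, 0, 3, 1, 3], [1, 1, 1, 2, 1, 2, 0, 3, 3, 1, 3, 3, 1, 1, 1, 2, 0, 3, 0, 2, 2, 2, 2], [1, 1, 1, 2, 1, 2, 0, 3, 3, 0, 3, 1, 3, 0, 2, 1, 2, 2, 0, 3, 0, 2, 2], [1, 1, 1, 2, 1, 2, 0, 2, 1, 3, 1, 1, 3, 0, 0, 3, 0, 3, 3, 0, 2, 0, 2], [1, 1, 1, 2, 1, 2, 2, 1, 1, 3, 1, 1, 2, 1, 3, 3, 3, 0, 2, 0, 2, 0, 3], [1, 1, 1, 2, 0, 3, 1, 3, 3, 3, 3, 3, 3, 0, 0, 2, 1, 2, 1, 1, 2, 1, 3], [1, 1, 1, 2, 0, 3, 3, 3, 3, 3, 1, 2, 1, 2, 2, 0, 3, 0, 3, 0, 0, 3, 3], [1, 1, 1, 2, 0, 3, 3, 3, 3, 3, 1, 2, 1, 2, 2, 2, 1, 2, 1, 2, 0, 3, 3], [1, 1, 1, 2, 0, 3, 3, 0, 3, 1, 3, 3, 1, 3, 3, 3, 0, 3, 0, 2, 2, 0, 2], [1, 1, 1, 2, 0, 0, 2, 2, 1, 2, 2, 2, 0, 2, 1, 2, 2, 0, 0, 2, 2,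 2, 2], [1, 1, 1, 2, 0, 2, 1, 3, 0, 3, 1, 2, 0, 2, 1, 2, 0, 3, 3, 0, 3, 1, 3], [1, 1, 1, 2, 0, 2, 1, 3, 0, 0, 3, 3, 1, 1, 3, 1, 1, 2, 2, 0, 2, 0, 3], [1, 1, 1, 2, 0, 2, 2, 1, 1, 3, 1, 2, 1, 3, 0, 3, 3, 3, 0, 2, 2, 2, 2], [1, 1, 1, 2, 2, 1, 3, 1, 2, 0, 0, 2, 0, 2, 2, 2, 0, 3, 3, 1, 3, 0, 3], [1, 1, 1, 2, 2, 1, 2, 0, 2, 2, 2, 2, 2, 0, 2, 1, 1, 3, 1, 1, 3, 1, 2], [1, 1, 1, 2, 2, 1, 2, 2, 0, 0, 3, 3, 1, 1, 2, 0, 3, 1, 3, 3, 0, 2, 2], [1, 1, 1, 2, 2, 0, 3, 1, 2, 0, 0, 3, 3, 1, 1, 3, 0, 2, 0, 2, 2, 1, 2], [1, 1, 1, 2, 2, 0, 2, 1, 2, 2, 0, 3, 1, 3, 1, 1, 2, 1, 3, 1, 1, 2, 2], [1, 1, 1, 2, 2, 2, 1, 1, 2, 1, 3, 3, 1, 1, 2, 0, 3, 0, 0, 3, 3, 1, 3], [1, 1, 1,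 2, 2, 2, 1, 3, 1, 2, 2, 2, 2, 2, 0, 0, 2, 0, 2, 0, 3, 0, 2], [1, 1, 1, 2, 2, 2, 2, 0, 2, 0, 2, 0, 3, 1, 1, 3, 3, 0, 3, 0, 2, 1, 3], [1, 1, 3, 1, 1, 3, 3, 1, 1, 2, 1, 2, 2, 1, 3, 3, 1, 2, 0, 3, 3, 0, 3], [1, 1, 3, 1, 1, 3, 3, 1, 3, 3, 3, 3, 1, 3, 3, 0, 2, 1, 3, 0, 2, 0, 2], [1, 1, 3, 1, 1, 3, 3, 0, 2, 0, 2, 0, 0, 2, 0, 3, 3, 0, 2, 1, 2, 1, 3], [1, 1, 3, 1, 1, 2, 1, 1, 3, 0, 3, 1, 3, 0, 0, 2, 1, 3, 1, 2, 0, 2, 2], [1, 1, 3, 1, 1, 2, 1, 3, 0, 0, 2, 2, 2, 1, 1, 3, 3, 0, 0, 3, 0, 0, 2], [1, 1, 3, 1, 3, 3, 1, 1, 3, 1, 2, 0, 0, 3, 3, 3, 0, 2, 0, 2, 0, 2, 2], [1, 1, 3, 1, 3, 3, 1, 3, 3, 0, 2, 2, 2, 0, 2, 2, 2, 0, 3, 1, 2, 0, 2], [1, 1, 3, 1, 3, 3, 1, 2, 2,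 1, 3, 1, 1, 2, 0, 2, 1, 1, 2, 1, 2, 0, 2], [1, 1, 3, 1, 3, 3, 3, 0, 2, 0, 2, 1, 1, 3, 1, 2, 0, 0, 3, 1, 2, 0, 3], [1, 1, 3, 1, 3, 3, 0, 3, 1, 1, 2, 1, 2, 0, 3, 1, 3, 0, 3, 1, 3, 3, 3], [1, 1, 3, 1, 3, 3, 0, 0, 2, 0, 2, 2, 2, 0, 3, 1, 2, 2, 1, 3, 0, 2, 2], [1, 1, 3, 1, 3, 0, 3, 1, 3, 1, 2, 0, 2, 2, 1, 3, 3, 1, 1, 2, 0, 0, 3], [1, 1, 3, 1, 3, 0, 2, 2, 1, 1, 3, 0, 2, 1, 3, 1, 1, 2, 1, 2, 0, 3, 3], [1, 1, 3, 1, 2, 1, 1, 3, 1, 2, 0, 2, 1, 2, 1, 3, 0, 3, 1, 2, 0, 3, 3], [1, 1, 3, 1, 2, 1, 2, 0, 3, 1, 2, 2, 1, 3, 0, 3, 0, 0, 3, 3, 3, 1, 2], [1, 1, 3, 1, 2, 0, 2, 0, 2, 2, 2, 1, 1, 2, 2, 1, 2, 2, 1, 2, 1, 3, 3], [1, 1, 3, 1, 2, 2, 1, 1, 2, 2, 1, 3, 3, 0, 0,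 3, 3, 3, 1, 3, 0, 0, 2], [1, 1, 3, 1, 2, 2, 2, 1, 2, 2, 2, 2, 0, 2, 0, 2, 0, 3, 3, 1, 1, 3, 3], [1, 1, 3, 1, 2, 2, 2, 2, 0, 2, 1, 3, 3, 3, 3, 1, 2, 1, 2, 2, 0, 3, 3], [1, 1, 3, 3, 1, 1, 3, 3, 3, 1, 1, 3, 0, 0, 3, 3, 3, 1, 2, 2, 0, 3, 3], [1, 1, 3, 3, 1, 1, 3, 3, 0, 0, 2, 0, 2, 1, 3, 1, 3, 1, 1, 3, 3, 1, 2], [1, 1, 3, 3, 1, 1, 2, 1, 2, 0, 2, 1, 2, 2, 0, 0, 2, 1, 3, 0, 2, 1, 3], [1, 1, 3, 3, 1, 3, 1, 1, 2, 0, 2, 2, 2, 2, 1, 2, 2, 1, 3, 0, 3, 0, 3], [1, 1, 3, 3, 1, 3, 3, 3, 3, 1, 2, 0, 2, 1, 1, 2, 0, 0, 2, 1, 2, 0, 3], [1, 1, 3, 3, 1, 3, 3, 3, 0, 2, 0, 3, 3, 3, 1, 2, 1, 1, 2, 2, 0, 0, 2], [1, 1, 3, 3, 1, 3, 0, 2, 0, 2, 1, 2, 2, 0, 3, 1, 2, 0, 2, 1, 3,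 0, 2], [1, 1, 3, 3, 3, 1, 3, 3, 3, 1, 3, 0, 3, 0, 0, 3, 0, 2, 2, 2, 0, 2, 2], [1, 1, 3, 3, 3, 1, 2, 0, 3, 0, 3, 3, 0, 3, 1, 3, 1, 2, 1, 2, 0, 2, 2], [1, 1, 3, 3, 3, 1, 2, 0, 3, 0, 2, 1, 3, 1, 2, 2, 1, 2, 1, 3, 3, 3, 3], [1, 1, 3, 3, 3, 1, 2, 2, 0, 3, 3, 3, 3, 0, 3, 3, 0, 2, 1, 2, 0, 3, 3], [1, 1, 3, 3, 3, 1, 2, 2, 0, 0, 3, 3, 3, 1, 1, 2, 2, 2, 0, 0, 3, 1, 3], [1, 1, 3, 3, 3, 0, 3, 3, 3, 1, 3, 1, 2, 0, 3, 1, 1, 3, 0, 0, 3, 3, 3], [1, 1, 3, 3, 0, 2, 0, 3, 0, 2, 2, 2, 0, 3, 1, 3, 1, 2, 2, 0, 2, 0, 3], [1, 1, 3, 3, 0, 2, 0, 2, 0, 2, 1, 1, 2, 1, 1, 3, 0, 3, 0, 3, 0, 0, 2], [1, 1, 3, 3, 0, 2, 2, 2, 1, 3, 3, 3, 1, 2, 0, 0, 3, 0, 2, 2, 0, 3, 3], [1, 1, 3,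 0, 3, 1, 3, 3, 3, 1, 1, 3, 0, 3, 3, 3, 3, 3, 1, 3, 0, 0, 3], [1, 1, 3, 0, 3, 1, 3, 0, 2, 0, 3, 3, 3, 3, 3, 1, 3, 0, 3, 0, 0, 3, 3], [1, 1, 3, 0, 3, 1, 2, 0, 3, 1, 2, 1, 2, 0, 3, 3, 1, 3, 1, 3, 3, 0, 2], [1, 1, 3, 0, 3, 3, 1, 1, 2, 0, 0, 2, 1, 2, 0, 2, 1, 3, 1, 2, 0, 0, 3], [1, 1, 3, 0, 3, 0, 3, 0, 2, 0, 3, 3, 3, 0, 2, 2, 2, 0, 2, 0, 3, 0, 2], [1, 1, 3, 0, 2, 1, 3, 0, 0, 2, 1, 3, 0, 2, 2, 1, 3, 1, 2, 2, 2, 0, 2], [1, 1, 3, 0, 2, 1, 3, 0, 2, 0, 3, 3, 1, 2, 2, 1, 3, 1, 2, 0, 3, 0, 2], [1, 1, 3, 0, 2, 1, 2, 2, 2, 2, 1, 3, 3, 3, 3, 1, 2, 0, 2, 0, 3, 1, 3], [1, 1, 3, 0, 2, 2, 0, 2, 0, 3, 1, 2, 2, 1, 2, 0, 3, 3, 3, 1, 3, 0, 3], [1, 1, 2, 1, 1, 2, 0, 3, 0,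 0, 2, 1, 2, 2, 2, 0, 2, 1, 2, 0, 2, 1, 2], [1, 1, 2, 1, 1, 2, 2, 2, 2, 0, 3, 1, 3, 3, 0, 3, 0, 2, 1, 3, 3, 1, 3], [1, 1, 2, 1, 3, 1, 3, 1, 2, 2, 1, 2, 0, 3, 0, 0, 3, 0, 3, 3, 0, 0, 3], [1, 1, 2, 1, 3, 3, 1, 3, 3, 3, 1, 3, 3, 3, 0, 3, 3, 1, 3, 3, 3, 1, 2], [1, 1, 2, 1, 3, 3, 3, 1, 2, 2, 0, 2, 2, 0, 2, 2, 2, 0, 2, 1, 3, 1, 3], [1, 1, 2, 1, 3, 3, 3, 3, 1, 3, 0, 2, 0, 2, 1, 2, 2, 1, 2, 0, 3, 1, 2], [1, 1, 2, 1, 2, 1, 3, 3, 0, 2, 0, 3, 1, 2, 1, 3, 0, 3, 3, 1, 2, 0, 3], [1, 1, 2, 1, 2, 2, 2, 0, 3, 3, 0, 2, 0, 3, 1, 2, 0, 3, 1, 3, 3, 1, 2], [1, 1, 2, 0, 3, 3, 3, 1, 3, 3, 1, 2, 2, 1, 3, 0, 2, 0, 3, 0, 3, 0, 3], [1, 1, 2, 0, 3, 3, 3, 1, 2, 2, 0, 2, 1, 2, 1,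 3, 3, 0, 3, 1, 2, 2, 2], [1, 1, 2, 0, 2, 1, 3, 3, 3, 3, 0, 0, 2, 2, 2, 1, 3, 0, 2, 1, 3, 0, 2], [1, 1, 2, 0, 2, 0, 2, 1, 2, 0, 3, 3, 3, 1, 3, 0, 3, 3, 1, 2, 1, 2, 2], [1, 1, 2, 0, 2, 0, 2, 0, 3, 3, 0, 2, 2, 0, 2, 1, 3, 3, 0, 3, 1, 2, 2], [1, 1, 2, 2, 1, 3, 1, 2, 0, 3, 3, 1, 3, 3, 3, 0, 2, 0, 3, 1, 3, 1, 3], [1, 1, 2, 2, 0, 3, 3, 3, 3, 0, 2, 1, 3, 1, 2, 0, 3, 3, 1, 3, 3, 1, 3], [1, 1, 2, 2, 2, 2, 1, 2, 1, 3, 0, 3, 1, 2, 0, 2, 1, 3, 3, 3, 1, 3, 3], [1, 1, 2, 2, 2, 2, 1, 2, 2, 2, 1, 3, 1, 3, 1, 3, 0, 3, 1, 2, 2, 0, 2], [1, 3, 1, 3, 1, 3, 1, 3, 3, 3, 3, 0, 2, 0, 3, 0, 3, 1, 2, 1, 3, 3, 3], [1, 3, 1, 3, 1, 2, 2, 2, 1, 2, 1, 2, 1, 2, 2, 1, 2, 1, 3, 1, 2,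 2, 2], [1, 3, 1, 3, 3, 0, 2, 2, 0, 2, 2, 2, 2, 1, 3, 3, 3, 0, 3, 1, 3, 1, 2], [1, 3, 1, 3, 0, 2, 0, 3, 0, 2, 0, 2, 2, 1, 3, 3, 1, 2, 2, 2, 2, 1, 2], [1, 3, 1, 2, 2, 2, 1, 2, 1, 2, 0, 2, 1, 3, 0, 2, 2, 1, 2, 0, 3, 0, 2], [1, 3, 1, 2, 2, 2, 0, 3, 1, 2, 0, 2, 2, 2, 0, 3, 1, 3, 0, 3, 0, 2, 2], [3, 3, 3, 3, 3, 3, 3, 3, 3, 3, 3, 3, 3, 3, 3, 3, 3, 3, 3, 3, 3, 3, 3], [1, 1, 1, 1, 1, 1, 3, 1, 3, 3, 0, 3, 0, 0, 2, 2, 0, 2, 2, 1, 1, 1, 3, 3], [1, 1, 1, 1, 1, 1, 3, 1, 2, 1, 3, 3, 0, 2, 0, 2, 0, 3, 3, 3, 0, 2, 0, 3], [1, 1, 1, 1, 1, 1, 3, 3, 3, 0, 2, 0, 3, 0, 3, 1, 2, 1, 3, 3, 0, 2, 0, 2], [1, 1, 1, 1, 1, 1, 3, 0, 3, 1, 2, 1, 3, 3, 0, 2, 0, 2, 0, 3, 3, 3, 0, 2],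 [1, 1, 1, 1, 1, 1, 3, 0, 0, 2, 2, 0, 2, 2, 1, 1, 1, 3, 3, 0, 3, 1, 3, 3], [1, 1, 1, 1, 1, 1, 3, 0, 2, 1, 2, 1, 3, 1, 2, 2, 2, 1, 3, 1, 3, 1, 2, 2], [1, 1, 1, 1, 1, 1, 2, 1, 2, 1, 3, 1, 2, 2, 2, 1, 3, 1, 3, 1, 2, 2, 0, 3], [1, 1, 1, 1, 1, 1, 2, 1, 2, 2, 0, 0, 0, 3, 3, 1, 3, 3, 1, 1, 2, 1, 2, 2], [1, 1, 1, 1, 1, 1, 2, 0, 3, 3, 3, 0, 2, 0, 3, 0, 3, 1, 2, 1, 3, 3, 0, 2], [1, 1, 1, 1, 1, 1, 2, 0, 3, 0, 3, 1, 2, 1, 3, 3, 0, 2, 0, 2, 0, 3, 3, 3], [1, 1, 1, 1, 1, 1, 2, 0, 2, 0, 3, 3, 3, 0, 2, 0, 3, 0, 3, 1, 2, 1, 3, 3], [1, 1, 1, 1, 1, 1, 2, 2, 1, 1, 1, 3, 3, 0, 3, 1, 3, 3, 0, 3, 0, 0, 2, 2], [1, 1, 1, 1, 1, 3, 1, 3, 1, 3, 1, 2, 2, 0, 0, 3, 1, 3, 0, 3, 0,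 0, 0, 3], [1, 1, 1, 1, 1, 3, 1, 3, 0, 3, 0, 0, 0, 3, 0, 0, 3, 1, 3, 1, 3, 1, 2, 2], [1, 1, 1, 1, 1, 3, 1, 2, 0, 2, 1, 2, 0, 0, 0, 0, 2, 2, 1, 1, 3, 3, 3, 3], [1, 1, 1, 1, 1, 3, 3, 1, 1, 2, 2, 1, 3, 0, 0, 0, 3, 1, 2, 2, 0, 2, 1, 2], [1, 1, 1, 1, 1, 3, 3, 1, 2, 2, 1, 3, 0, 2, 0, 3, 3, 3, 3, 3, 3, 1, 1, 2], [1, 1, 1, 1, 1, 3, 3, 3, 1, 3, 1, 2, 2, 2, 2, 2, 2, 1, 3, 3, 1, 2, 2, 2], [1, 1, 1, 1, 1, 3, 3, 3, 1, 3, 0, 2, 2, 0, 0, 2, 1, 3, 0, 2, 0, 3, 3, 3], [1, 1, 1, 1, 1, 3, 3, 3, 1, 2, 2, 2, 0, 2, 0, 3, 1, 1, 3, 1, 1, 2, 0, 3], [1, 1, 1, 1, 1, 3, 0, 0, 2, 1, 3, 3, 3, 3, 0, 2, 0, 3, 1, 1, 3, 0, 3, 3], [1, 1, 1, 1, 1, 2, 1, 3, 1, 3, 3, 3, 0, 2, 2, 2, 1, 1,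 2, 1, 3, 0, 0, 2], [1, 1, 1, 1, 1, 2, 1, 3, 1, 2, 2, 2, 2, 0, 3, 1, 1, 2, 1, 1, 2, 2, 1, 2], [1, 1, 1, 1, 1, 2, 1, 3, 3, 3, 3, 0, 2, 0, 3, 1, 1, 3, 0, 3, 3, 0, 0, 3], [1, 1, 1, 1, 1, 2, 1, 3, 0, 2, 0, 3, 3, 3, 0, 0, 3, 3, 3, 1, 3, 0, 2, 2], [1, 1, 1, 1, 1, 2, 1, 2, 2, 0, 3, 1, 3, 1, 3, 1, 3, 3, 3, 3, 1, 2, 2, 2], [1, 1, 1, 1, 1, 2, 1, 2, 2, 0, 0, 2, 0, 2, 0, 2, 0, 3, 3, 3, 1, 2, 2, 2], [1, 1, 1, 1, 1, 2, 0, 0, 0, 3, 3, 0, 2, 2, 1, 3, 3, 1, 3, 1, 2, 2, 1, 3], [1, 1, 1, 1, 1, 2, 0, 0, 2, 1, 3, 1, 3, 3, 3, 0, 2, 2, 2, 1, 1, 2, 1, 3], [1, 1, 1, 1, 1, 2, 0, 2, 1, 3, 3, 1, 3, 3, 3, 0, 2, 1, 3, 3, 1, 2, 1, 2], [1, 1, 1, 1, 1, 2, 0, 2, 0, 2, 0, 3, 3, 3, 1,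 2, 2, 2, 0, 0, 2, 1, 2, 2], [1, 1, 1, 1, 1, 2, 2, 1, 1, 3, 0, 3, 1, 3, 3, 0, 2, 1, 1, 1, 2, 0, 3, 3], [1, 1, 1, 1, 1, 2, 2, 1, 3, 0, 3, 0, 0, 0, 0, 2, 1, 1, 2, 0, 2, 1, 3, 3], [1, 1, 1, 1, 1, 2, 2, 0, 2, 2, 1, 2, 1, 1, 1, 1, 1, 2, 2, 0, 2, 2, 1, 2], [1, 1, 1, 1, 1, 2, 2, 0, 2, 2, 1, 2, 2, 1, 2, 2, 0, 2, 1, 2, 2, 0, 0, 2], [1, 1, 1, 1, 1, 2, 2, 2, 2, 0, 2, 0, 3, 0, 2, 1, 2, 0, 3, 0, 2, 2, 1, 3], [1, 1, 1, 1, 1, 2, 2, 2, 2, 2, 2, 1, 3, 1, 2, 0, 3, 3, 0, 2, 2, 1, 1, 3], [1, 1, 1, 1, 3, 1, 1, 1, 3, 3, 0, 3, 0, 0, 3, 1, 1, 1, 1, 2, 2, 1, 2, 2], [1, 1, 1, 1, 3, 1, 1, 1, 3, 0, 3, 0, 0, 0, 3, 1, 3, 0, 0, 0, 3, 1, 3, 3], [1, 1, 1, 1, 3, 1, 1, 3, 1, 2, 0, 2,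 2, 2, 1, 2, 2, 2, 1, 2, 2, 0, 0, 2], [1, 1, 1, 1, 3, 1, 1, 3, 3, 1, 2, 2, 0, 0, 3, 3, 3, 0, 0, 3, 3, 1, 2, 2], [1, 1, 1, 1, 3, 1, 1, 2, 1, 1, 2, 1, 3, 3, 3, 0, 3, 0, 2, 1, 3, 3, 1, 2], [1, 1, 1, 1, 3, 1, 1, 2, 1, 3, 3, 3, 3, 0, 3, 3, 3, 1, 2, 0, 0, 0, 3, 3], [1, 1, 1, 1, 3, 1, 1, 2, 2, 2, 1, 2, 2, 2, 1, 3, 1, 2, 0, 3, 1, 3, 0, 2], [1, 1, 1, 1, 3, 1, 3, 1, 2, 2, 1, 1, 2, 2, 0, 3, 1, 2, 2, 0, 3, 3, 1, 2], [1, 1, 1, 1, 3, 1, 3, 1, 2, 2, 1, 2, 1, 1, 2, 0, 0, 2, 0, 3, 1, 3, 0, 3], [1, 1, 1, 1, 3, 1, 3, 3, 1, 2, 1, 2, 2, 2, 0, 2, 2, 0, 2, 1, 2, 2, 1, 3], [1, 1, 1, 1, 3, 1, 3, 3, 0, 0, 0, 3, 1, 1, 1, 3, 0, 3, 0, 0, 0, 3, 1, 3], [1, 1, 1, 1, 3, 1, 3, 3, 0,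 2, 0, 3, 3, 1, 1, 2, 0, 3, 1, 2, 1, 2, 2, 2], [1, 1, 1, 1, 3, 1, 3, 0, 3, 0, 2, 2, 2, 1, 1, 3, 1, 2, 0, 0, 0, 3, 3, 3], [1, 1, 1, 1, 3, 1, 3, 0, 0, 0, 3, 1, 3, 3, 0, 0, 0, 3, 1, 1, 1, 3, 0, 3], [1, 1, 1, 1, 3, 1, 3, 0, 0, 2, 2, 2, 0, 2, 0, 3, 0, 0, 2, 0, 0, 2, 1, 2], [1, 1, 1, 1, 3, 1, 2, 1, 1, 2, 1, 1, 3, 0, 3, 0, 2, 0, 3, 1, 1, 3, 1, 2], [1, 1, 1, 1, 3, 1, 2, 1, 3, 1, 3, 1, 1, 3, 3, 3, 3, 3, 0, 2, 0, 3, 3, 3], [1, 1, 1, 1, 3, 1, 2, 1, 3, 0, 0, 3, 1, 2, 2, 0, 3, 3, 3, 3, 0, 0, 2, 2], [1, 1, 1, 1, 3, 1, 2, 1, 3, 0, 2, 1, 1, 2, 2, 1, 2, 1, 1, 2, 0, 3, 0, 2], [1, 1, 1, 1, 3, 1, 2, 1, 2, 0, 3, 1, 1, 2, 1, 3, 3, 0, 2, 2, 2, 2, 1, 2], [1, 1, 1, 1, 3, 1,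 2, 0, 0, 3, 0, 3, 3, 0, 2, 2, 2, 1, 2, 1, 1, 2, 1, 2], [1, 1, 1, 1, 3, 1, 2, 2, 1, 2, 2, 2, 2, 2, 2, 1, 3, 1, 2, 2, 2, 2, 0, 2], [1, 1, 1, 1, 3, 1, 2, 2, 2, 1, 3, 0, 2, 0, 2, 0, 2, 2, 0, 0, 2, 2, 1, 2], [1, 1, 1, 1, 3, 3, 1, 1, 2, 0, 3, 1, 2, 2, 0, 0, 2, 2, 2, 0, 3, 0, 0, 2], [1, 1, 1, 1, 3, 3, 1, 1, 2, 2, 1, 3, 0, 2, 2, 0, 2, 1, 2, 0, 2, 2, 0, 3], [1, 1, 1, 1, 3, 3, 1, 2, 1, 3, 3, 0, 3, 1, 2, 0, 2, 1, 2, 2, 1, 3, 0, 3], [1, 1, 1, 1, 3, 3, 1, 2, 0, 0, 0, 2, 1, 1, 2, 2, 2, 0, 0, 2, 2, 2, 0, 2], [1, 1, 1, 1, 3, 3, 1, 2, 2, 0, 2, 1, 3, 0, 0, 2, 2, 1, 1, 3, 3, 0, 3, 3], [1, 1, 1, 1, 3, 3, 3, 3, 1, 1, 3, 3, 0, 3, 1, 3, 3, 3, 0, 3, 3, 1, 1, 3], [1, 1, 1,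 1, 3, 3, 3, 3, 1, 2, 1, 3, 0, 0, 0, 2, 2, 0, 2, 2, 1, 3, 0, 3], [1, 1, 1, 1, 3, 3, 3, 3, 1, 2, 2, 2, 1, 2, 0, 3, 0, 2, 0, 0, 3, 3, 1, 3], [1, 1, 1, 1, 3, 3, 3, 3, 0, 0, 3, 0, 2, 2, 1, 2, 0, 2, 1, 3, 3, 0, 0, 2], [1, 1, 1, 1, 3, 3, 3, 3, 0, 0, 3, 0, 2, 2, 0, 3, 0, 0, 0, 2, 1, 2, 0, 3], [1, 1, 1, 1, 3, 3, 3, 0, 0, 0, 3, 1, 3, 0, 3, 0, 2, 2, 2, 1, 1, 3, 1, 2], [1, 1, 1, 1, 3, 3, 3, 0, 0, 0, 3, 0, 3, 3, 3, 3, 3, 1, 3, 3, 3, 0, 0, 2], [1, 1, 1, 1, 3, 3, 3, 0, 0, 2, 0, 2, 0, 0, 0, 2, 1, 2, 1, 1, 2, 0, 3, 3], [1, 1, 1, 1, 3, 3, 3, 0, 2, 0, 0, 3, 1, 1, 1, 1, 3, 3, 3, 0, 2, 0, 0, 3], [1, 1, 1, 1, 3, 3, 0, 3, 0, 0, 3, 1, 1, 3, 1, 1, 2, 1, 2, 0, 2, 0, 2, 2],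 [1, 1, 1, 1, 3, 3, 0, 0, 0, 3, 1, 1, 2, 1, 3, 3, 3, 3, 0, 3, 3, 3, 1, 2], [1, 1, 1, 1, 3, 3, 0, 0, 2, 0, 3, 0, 0, 2, 0, 2, 1, 3, 3, 0, 3, 1, 3, 3], [1, 1, 1, 1, 3, 3, 0, 0, 2, 0, 2, 2, 2, 2, 1, 2, 0, 2, 1, 2, 2, 0, 2, 2], [1, 1, 1, 1, 3, 3, 0, 2, 2, 2, 1, 3, 3, 0, 2, 2, 0, 0, 0, 2, 0, 3, 1, 3], [1, 1, 1, 1, 3, 0, 3, 3, 1, 3, 1, 3, 0, 3, 0, 0, 2, 1, 1, 2, 2, 1, 2, 2], [1, 1, 1, 1, 3, 0, 3, 3, 1, 3, 1, 2, 0, 0, 2, 2, 1, 1, 3, 0, 2, 1, 3, 3], [1, 1, 1, 1, 3, 0, 3, 3, 3, 3, 3, 1, 3, 3, 3, 0, 0, 2, 0, 0, 0, 3, 3, 3], [1, 1, 1, 1, 3, 0, 3, 0, 0, 3, 3, 0, 3, 3, 3, 3, 1, 3, 0, 0, 2, 0, 2, 2], [1, 1, 1, 1, 3, 0, 0, 0, 2, 0, 2, 0, 2, 0, 2, 2, 2, 0, 0, 3, 1,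 3, 0, 3], [1, 1, 1, 1, 3, 0, 0, 0, 2, 2, 2, 1, 1, 3, 1, 2, 1, 2, 0, 3, 0, 0, 3, 3], [1, 1, 1, 1, 3, 0, 2, 1, 1, 2, 1, 3, 1, 1, 1, 1, 3, 0, 2, 1, 1, 2, 1, 3], [1, 1, 1, 1, 3, 0, 2, 1, 2, 0, 0, 0, 2, 2, 1, 2, 1, 3, 0, 3, 3, 0, 0, 2], [1, 1, 1, 1, 3, 0, 2, 0, 0, 2, 0, 0, 3, 1, 3, 3, 3, 3, 3, 1, 3, 0, 3, 3], [1, 1, 1, 1, 3, 0, 2, 2, 0, 0, 2, 0, 3, 1, 3, 1, 2, 2, 0, 2, 2, 2, 0, 3], [1, 1, 1, 1, 3, 0, 2, 2, 2, 1, 1, 3, 3, 0, 0, 0, 0, 3, 3, 3, 1, 3, 3, 3], [1, 1, 1, 1, 2, 1, 1, 1, 3, 3, 0, 3, 3, 0, 0, 0, 0, 2, 1, 1, 2, 1, 2, 2], [1, 1, 1, 1, 2, 1, 1, 1, 2, 2, 0, 2, 1, 1, 1, 2, 0, 2, 1, 1, 1, 2, 1, 2], [1, 1, 1, 1, 2, 1, 1, 3, 3, 3, 3, 1, 2, 1, 3, 1, 2, 2,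 1, 2, 1, 3, 1, 2], [1, 1, 1, 1, 2, 1, 1, 2, 0, 2, 1, 1, 2, 2, 1, 3, 0, 2, 2, 1, 2, 0, 2, 2], [1, 1, 1, 1, 2, 1, 1, 2, 0, 2, 1, 2, 2, 0, 2, 2, 2, 1, 3, 1, 1, 1, 2, 2], [1, 1, 1, 1, 2, 1, 1, 2, 2, 2, 0, 0, 2, 2, 2, 0, 2, 0, 0, 0, 3, 3, 1, 2], [1, 1, 1, 1, 2, 1, 3, 1, 3, 1, 2, 2, 2, 0, 3, 0, 0, 2, 0, 0, 3, 3, 0, 3], [1, 1, 1, 1, 2, 1, 3, 1, 3, 3, 3, 0, 0, 0, 0, 2, 0, 3, 1, 2, 2, 2, 0, 2], [1, 1, 1, 1, 2, 1, 3, 1, 3, 3, 0, 0, 2, 0, 0, 2, 2, 1, 1, 2, 0, 3, 1, 3], [1, 1, 1, 1, 2, 1, 3, 0, 3, 0, 0, 2, 1, 2, 1, 3, 0, 3, 1, 3, 1, 2, 2, 2], [1, 1, 1, 1, 2, 1, 3, 0, 0, 3, 1, 1, 3, 1, 2, 0, 3, 3, 1, 1, 3, 1, 2, 2], [1, 1, 1, 1, 2, 1, 3, 0, 2, 1, 2, 2, 0, 3, 3,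 1, 1, 3, 3, 0, 2, 2, 0, 2], [1, 1, 1, 1, 2, 1, 3, 0, 2, 2, 0, 0, 3, 3, 3, 0, 2, 2, 0, 3, 0, 2, 0, 3], [1, 1, 1, 1, 2, 1, 3, 0, 2, 2, 2, 0, 0, 3, 3, 1, 1, 2, 0, 2, 2, 0, 2, 2], [1, 1, 1, 1, 2, 1, 2, 1, 1, 2, 0, 3, 3, 0, 0, 0, 3, 3, 3, 0, 0, 2, 0, 2], [1, 1, 1, 1, 2, 1, 2, 0, 3, 0, 0, 0, 3, 3, 3, 3, 0, 0, 3, 0, 2, 2, 0, 3], [1, 1, 1, 1, 2, 1, 2, 0, 2, 2, 1, 3, 3, 3, 1, 3, 1, 1, 3, 0, 2, 0, 3, 3], [1, 1, 1, 1, 2, 1, 2, 0, 2, 2, 1, 2, 0, 3, 3, 3, 3, 3, 0, 2, 2, 2, 0, 2], [1, 1, 1, 1, 2, 0, 3, 1, 3, 0, 0, 0, 3, 3, 0, 2, 2, 2, 1, 3, 3, 0, 2, 2], [1, 1, 1, 1, 2, 0, 3, 1, 2, 1, 2, 2, 0, 0, 2, 1, 3, 1, 3, 1, 3, 3, 3, 3], [1, 1, 1, 1, 2, 0, 3, 3, 3, 1, 3, 3,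 0, 3, 1, 3, 0, 0, 3, 1, 1, 1, 3, 3], [1, 1, 1, 1, 2, 0, 3, 0, 0, 3, 0, 3, 1, 1, 2, 2, 2, 2, 2, 2, 0, 2, 1, 3], [1, 1, 1, 1, 2, 0, 0, 0, 2, 2, 2, 1, 2, 0, 3, 0, 0, 3, 3, 0, 2, 1, 1, 2], [1, 1, 1, 1, 2, 0, 0, 2, 1, 2, 2, 0, 2, 2, 0, 0, 2, 0, 0, 0, 2, 0, 2, 2], [1, 1, 1, 1, 2, 0, 2, 1, 3, 3, 1, 3, 3, 3, 0, 2, 1, 3, 3, 3, 0, 3, 0, 3], [1, 1, 1, 1, 2, 0, 2, 1, 2, 2, 1, 3, 0, 3, 1, 3, 0, 2, 1, 2, 0, 3, 1, 3], [1, 1, 1, 1, 2, 0, 2, 0, 2, 0, 2, 2, 2, 0, 0, 3, 1, 3, 0, 3, 0, 0, 0, 3], [1, 1, 1, 1, 2, 0, 2, 2, 1, 1, 2, 1, 3, 0, 0, 2, 2, 0, 3, 0, 0, 3, 3, 3], [1, 1, 1, 1, 2, 0, 2, 2, 0, 0, 0, 2, 0, 0, 2, 1, 2, 2, 0, 2, 2, 0, 0, 2], [1, 1, 1, 1, 2, 2, 1, 1, 3,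 3, 0, 3, 0, 2, 1, 2, 2, 0, 2, 2, 2, 2, 2, 2], [1, 1, 1, 1, 2, 2, 1, 1, 3, 0, 0, 3, 0, 3, 0, 2, 0, 2, 2, 0, 3, 0, 2, 2], [1, 1, 1, 1, 2, 2, 1, 1, 3, 0, 2, 1, 2, 1, 2, 2, 0, 2, 2, 0, 3, 0, 2, 2], [1, 1, 1, 1, 2, 2, 1, 1, 2, 1, 2, 1, 3, 3, 0, 3, 0, 2, 2, 2, 2, 2, 1, 3], [1, 1, 1, 1, 2, 2, 1, 1, 2, 0, 3, 3, 0, 3, 0, 2, 0, 2, 0, 2, 2, 2, 0, 2], [1, 1, 1, 1, 2, 2, 1, 3, 1, 1, 2, 2, 2, 1, 3, 0, 3, 1, 1, 2, 1, 3, 0, 2], [1, 1, 1, 1, 2, 2, 1, 3, 3, 1, 3, 0, 3, 3, 1, 1, 2, 1, 1, 2, 2, 0, 0, 2], [1, 1, 1, 1, 2, 2, 1, 2, 1, 3, 0, 3, 3, 0, 0, 2, 0, 0, 0, 3, 0, 2, 1, 2], [1, 1, 1, 1, 2, 2, 1, 2, 0, 2, 1, 3, 0, 3, 0, 2, 0, 0, 3, 0, 0, 3, 1, 2], [1, 1, 1, 1, 2, 2,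 1, 2, 0, 2, 2, 1, 3, 0, 2, 0, 2, 2, 0, 3, 0, 3, 0, 2], [1, 1, 1, 1, 2, 2, 0, 3, 3, 1, 2, 2, 0, 3, 3, 0, 0, 2, 1, 3, 3, 0, 2, 2], [1, 1, 1, 1, 2, 2, 0, 2, 2, 1, 3, 0, 3, 0, 0, 0, 3, 3, 3, 3, 1, 2, 1, 3], [1, 1, 1, 1, 2, 2, 2, 1, 1, 3, 1, 2, 1, 2, 0, 3, 0, 0, 3, 3, 0, 0, 0, 3], [1, 1, 1, 1, 2, 2, 2, 1, 1, 2, 2, 2, 0, 2, 2, 2, 1, 2, 0, 0, 3, 0, 0, 2], [1, 1, 1, 1, 2, 2, 2, 1, 2, 0, 3, 0, 0, 3, 3, 0, 2, 1, 1, 2, 0, 0, 0, 2], [1, 1, 1, 3, 1, 1, 1, 2, 1, 1, 2, 2, 1, 1, 2, 0, 0, 0, 3, 1, 1, 2, 0, 3], [1, 1, 1, 3, 1, 1, 1, 2, 0, 2, 2, 2, 0, 0, 2, 0, 0, 2, 0, 0, 3, 3, 1, 3], [1, 1, 1, 3, 1, 1, 3, 1, 3, 0, 2, 0, 0, 0, 2, 0, 0, 3, 1, 3, 1, 3, 3, 3], [1, 1, 1,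 3, 1, 1, 3, 1, 2, 1, 2, 0, 2, 2, 2, 2, 2, 0, 0, 2, 0, 2, 1, 2], [1, 1, 1, 3, 1, 1, 3, 1, 2, 0, 0, 2, 0, 0, 0, 2, 1, 2, 0, 0, 3, 1, 1, 3], [1, 1, 1, 3, 1, 1, 3, 1, 2, 0, 2, 1, 2, 1, 3, 0, 0, 0, 2, 1, 1, 2, 0, 3], [1, 1, 1, 3, 1, 1, 3, 3, 1, 2, 0, 3, 3, 1, 1, 3, 3, 3, 0, 3, 1, 1, 2, 2], [1, 1, 1, 3, 1, 1, 3, 0, 3, 3, 0, 3, 1, 3, 0, 0, 3, 3, 3, 3, 3, 0, 0, 2], [1, 1, 1, 3, 1, 1, 3, 0, 0, 3, 3, 3, 3, 0, 0, 3, 0, 0, 3, 1, 1, 3, 1, 2], [1, 1, 1, 3, 1, 1, 2, 1, 3, 1, 1, 3, 1, 3, 0, 0, 0, 2, 2, 1, 1, 2, 0, 2], [1, 1, 1, 3, 1, 1, 2, 1, 3, 0, 3, 3, 0, 2, 0, 2, 2, 0, 2, 0, 2, 2, 1, 2], [1, 1, 1, 3, 1, 1, 2, 1, 2, 2, 1, 3, 1, 2, 0, 2, 0, 0, 2, 1, 3, 3, 0, 2],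 [1, 1, 1, 3, 1, 1, 2, 0, 0, 0, 2, 1, 1, 1, 3, 1, 2, 0, 0, 3, 0, 2, 1, 3], [1, 1, 1, 3, 1, 1, 2, 2, 2, 1, 3, 3, 0, 0, 0, 3, 1, 1, 3, 1, 3, 0, 2, 2], [1, 1, 1, 3, 1, 1, 2, 2, 2, 0, 3, 0, 2, 0, 3, 0, 0, 3, 1, 2, 1, 2, 1, 3], [1, 1, 1, 3, 1, 1, 2, 2, 2, 0, 3, 0, 2, 0, 3, 0, 0, 3, 3, 0, 3, 0, 3, 3], [1, 1, 1, 3, 1, 3, 1, 1, 1, 3, 0, 3, 0, 0, 2, 2, 1, 3, 1, 1, 2, 0, 0, 3], [1, 1, 1, 3, 1, 3, 1, 1, 2, 2, 1, 1, 3, 1, 1, 1, 3, 1, 3, 3, 1, 1, 3, 3], [1, 1, 1, 3, 1, 3, 1, 3, 0, 0, 0, 3, 1, 2, 1, 3, 3, 3, 0, 0, 0, 2, 2, 2], [1, 1, 1, 3, 1, 3, 1, 2, 0, 0, 2, 0, 3, 0, 0, 3, 0, 0, 2, 0, 0, 2, 1, 3], [1, 1, 1, 3, 1, 3, 3, 1, 3, 3, 3, 1, 2, 0, 0, 0, 3, 1, 3, 1, 3,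 3, 1, 3], [1, 1, 1, 3, 1, 3, 3, 1, 3, 0, 0, 3, 3, 1, 2, 1, 3, 1, 3, 0, 2, 2, 1, 3], [1, 1, 1, 3, 1, 3, 3, 3, 1, 2, 1, 1, 3, 0, 0, 0, 2, 0, 2, 1, 2, 0, 0, 2], [1, 1, 1, 3, 1, 3, 3, 3, 0, 3, 3, 0, 2, 2, 1, 1, 3, 0, 0, 0, 3, 3, 0, 2], [1, 1, 1, 3, 1, 3, 3, 0, 0, 0, 2, 0, 0, 2, 2, 0, 3, 0, 0, 0, 2, 1, 3, 3], [1, 1, 1, 3, 1, 3, 0, 0, 3, 3, 3, 0, 3, 0, 0, 2, 1, 1, 1, 2, 1, 1, 2, 2], [1, 1, 1, 3, 1, 3, 0, 0, 3, 0, 0, 3, 3, 1, 1, 2, 2, 2, 2, 2, 0, 3, 1, 2], [1, 1, 1, 3, 1, 3, 0, 0, 3, 0, 2, 0, 2, 0, 3, 0, 3, 3, 0, 0, 2, 0, 2, 2], [1, 1, 1, 3, 1, 3, 0, 0, 2, 1, 3, 3, 1, 3, 1, 2, 1, 2, 2, 1, 1, 2, 0, 3], [1, 1, 1, 3, 1, 3, 0, 0, 2, 0, 3, 0, 3, 1, 3, 1, 3, 0,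 3, 1, 2, 1, 1, 3], [1, 1, 1, 3, 1, 3, 0, 2, 1, 3, 0, 0, 0, 2, 0, 3, 3, 3, 1, 2, 0, 3, 1, 2], [1, 1, 1, 3, 1, 3, 0, 2, 1, 2, 0, 3, 3, 3, 1, 3, 3, 3, 3, 0, 2, 0, 2, 2], [1, 1, 1, 3, 1, 3, 0, 2, 0, 3, 1, 2, 0, 2, 0, 0, 2, 1, 3, 1, 1, 2, 0, 2], [1, 1, 1, 3, 1, 3, 0, 2, 2, 1, 3, 0, 3, 3, 0, 3, 0, 2, 2, 1, 3, 1, 1, 2], [1, 1, 1, 3, 1, 2, 1, 1, 3, 0, 3, 3, 0, 2, 0, 2, 0, 3, 0, 2, 0, 3, 0, 2], [1, 1, 1, 3, 1, 2, 1, 3, 3, 1, 2, 2, 0, 2, 0, 0, 2, 2, 2, 0, 3, 1, 1, 3], [1, 1, 1, 3, 1, 2, 1, 2, 1, 2, 0, 3, 0, 0, 0, 2, 2, 1, 2, 2, 0, 0, 0, 3], [1, 1, 1, 3, 1, 2, 1, 2, 2, 1, 2, 0, 0, 2, 2, 1, 2, 0, 3, 0, 0, 3, 1, 3], [1, 1, 1, 3, 1, 2, 1, 2, 2, 0, 0, 3, 3, 3, 3,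 0, 3, 3, 1, 3, 3, 3, 1, 3], [1, 1, 1, 3, 1, 2, 0, 0, 3, 0, 3, 3, 0, 2, 2, 2, 1, 2, 1, 3, 0, 3, 0, 3], [1, 1, 1, 3, 1, 2, 0, 0, 2, 2, 2, 1, 1, 2, 2, 1, 1, 3, 0, 0, 2, 2, 0, 3], [1, 1, 1, 3, 1, 2, 0, 0, 2, 2, 2, 2, 0, 3, 0, 0, 2, 0, 2, 0, 0, 3, 3, 3], [1, 1, 1, 3, 1, 2, 0, 2, 0, 2, 2, 0, 3, 0, 3, 3, 1, 3, 3, 1, 2, 2, 0, 3], [1, 1, 1, 3, 1, 2, 0, 2, 2, 0, 3, 0, 2, 1, 3, 1, 1, 2, 0, 3, 1, 3, 0, 2], [1, 1, 1, 3, 1, 2, 2, 1, 2, 1, 1, 2, 0, 0, 2, 1, 3, 3, 0, 2, 0, 2, 0, 2], [1, 1, 1, 3, 3, 1, 1, 1, 3, 0, 0, 3, 0, 0, 2, 0, 2, 2, 1, 2, 2, 2, 0, 3], [1, 1, 1, 3, 3, 1, 1, 2, 0, 2, 1, 2, 1, 3, 1, 1, 1, 3, 0, 2, 2, 2, 1, 3], [1, 1, 1, 3, 3, 1, 3, 1, 1, 2, 1, 3,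 1, 2, 2, 0, 2, 1, 3, 0, 3, 1, 3, 3], [1, 1, 1, 3, 3, 1, 3, 0, 3, 0, 0, 2, 1, 2, 1, 1, 1, 2, 1, 1, 3, 1, 1, 2], [1, 1, 1, 3, 3, 1, 2, 1, 3, 3, 0, 3, 0, 0, 0, 2, 0, 2, 1, 3, 0, 3, 1, 2], [1, 1, 1, 3, 3, 1, 2, 0, 3, 1, 1, 3, 3, 3, 0, 0, 3, 0, 0, 2, 0, 0, 2, 2], [1, 1, 1, 3, 3, 1, 2, 2, 2, 1, 1, 3, 0, 3, 3, 1, 3, 1, 1, 3, 3, 1, 1, 2], [1, 1, 1, 3, 3, 1, 2, 2, 2, 1, 3, 3, 1, 3, 3, 3, 3, 0, 0, 3, 0, 0, 0, 3], [1, 1, 1, 3, 3, 3, 1, 1, 3, 3, 3, 3, 3, 0, 3, 1, 3, 1, 3, 3, 3, 3, 3, 3], [1, 1, 1, 3, 3, 3, 1, 1, 3, 0, 2, 0, 0, 3, 0, 3, 0, 2, 1, 1, 3, 3, 0, 2], [1, 1, 1, 3, 3, 3, 1, 1, 3, 0, 2, 0, 2, 1, 2, 1, 2, 2, 1, 1, 3, 3, 0, 2], [1, 1, 1, 3, 3, 3, 1, 3, 3,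 1, 2, 0, 0, 3, 3, 1, 2, 1, 2, 1, 2, 0, 0, 3], [1, 1, 1, 3, 3, 3, 1, 2, 1, 3, 0, 0, 3, 1, 3, 1, 3, 0, 3, 1, 2, 2, 2, 2], [1, 1, 1, 3, 3, 3, 3, 1, 2, 1, 1, 3, 1, 1, 2, 1, 3, 1, 2, 0, 0, 2, 0, 3], [1, 1, 1, 3, 3, 3, 3, 3, 3, 3, 0, 0, 2, 1, 3, 0, 0, 2, 2, 2, 2, 1, 3, 3], [1, 1, 1, 3, 3, 3, 3, 3, 0, 3, 3, 0, 2, 0, 2, 1, 3, 1, 2, 2, 2, 2, 0, 2], [1, 1, 1, 3, 3, 3, 3, 3, 0, 0, 0, 2, 0, 3, 0, 3, 1, 1, 3, 3, 1, 3, 0, 3], [1, 1, 1, 3, 3, 3, 3, 0, 3, 1, 3, 3, 1, 2, 0, 3, 3, 1, 3, 1, 1, 3, 0, 2], [1, 1, 1, 3, 3, 3, 3, 0, 2, 1, 3, 1, 3, 0, 0, 3, 3, 1, 1, 2, 1, 2, 0, 2], [1, 1, 1, 3, 3, 3, 0, 3, 1, 2, 2, 1, 1, 2, 2, 2, 2, 0, 3, 1, 3, 0, 2, 2], [1, 1, 1, 3, 3, 3,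 0, 3, 3, 1, 1, 2, 0, 0, 3, 1, 2, 2, 0, 3, 3, 3, 1, 3], [1, 1, 1, 3, 3, 3, 0, 0, 2, 1, 2, 0, 2, 2, 0, 2, 2, 0, 2, 0, 0, 3, 1, 2], [1, 1, 1, 3, 3, 3, 0, 2, 1, 3, 1, 3, 1, 3, 3, 3, 0, 2, 1, 2, 1, 3, 3, 3], [1, 1, 1, 3, 3, 0, 3, 1, 1, 3, 3, 1, 2, 0, 3, 3, 0, 3, 1, 1, 3, 1, 2, 2], [1, 1, 1, 3, 3, 0, 3, 3, 0, 2, 0, 2, 2, 1, 2, 0, 2, 2, 0, 2, 0, 3, 1, 3], [1, 1, 1, 3, 3, 0, 0, 2, 0, 2, 2, 0, 3, 0, 0, 0, 3, 3, 0, 2, 1, 3, 0, 2], [1, 1, 1, 3, 3, 0, 2, 1, 1, 3, 0, 2, 0, 2, 2, 1, 1, 1, 3, 0, 0, 2, 1, 3], [1, 1, 1, 3, 3, 0, 2, 1, 2, 2, 2, 1, 1, 1, 2, 1, 2, 2, 1, 3, 1, 2, 1, 3], [1, 1, 1, 3, 3, 0, 2, 1, 2, 2, 2, 0, 3, 1, 2, 2, 0, 3, 0, 0, 3, 3, 0, 2], [1, 1, 1,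 3, 3, 0, 2, 0, 3, 1, 2, 0, 3, 1, 3, 0, 2, 2, 1, 1, 1, 2, 1, 2], [1, 1, 1, 3, 3, 0, 2, 2, 0, 3, 3, 1, 1, 2, 1, 3, 3, 3, 3, 3, 3, 3, 1, 2], [1, 1, 1, 3, 3, 0, 2, 2, 0, 0, 2, 2, 2, 1, 1, 2, 0, 0, 3, 1, 3, 0, 3, 3], [1, 1, 1, 3, 3, 0, 2, 2, 2, 0, 2, 2, 0, 2, 1, 2, 0, 3, 1, 2, 1, 3, 3, 3], [1, 1, 1, 3, 0, 3, 1, 1, 3, 3, 3, 3, 3, 3, 3, 0, 2, 2, 1, 1, 2, 1, 1, 2], [1, 1, 1, 3, 0, 3, 1, 1, 3, 0, 0, 3, 1, 3, 3, 3, 0, 2, 1, 3, 0, 2, 0, 2], [1, 1, 1, 3, 0, 3, 1, 1, 2, 1, 2, 1, 1, 2, 2, 0, 3, 0, 3, 3, 3, 1, 1, 2], [1, 1, 1, 3, 0, 3, 1, 3, 1, 2, 1, 3, 3, 1, 1, 1, 2, 0, 2, 2, 2, 1, 3, 3], [1, 1, 1, 3, 0, 3, 1, 3, 0, 3, 0, 3, 1, 2, 2, 0, 3, 0, 3, 3, 3, 1, 1, 2],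 [1, 1, 1, 3, 0, 3, 1, 2, 0, 2, 0, 2, 2, 2, 1, 3, 3, 3, 1, 1, 3, 0, 2, 2], [1, 1, 1, 3, 0, 3, 1, 2, 2, 1, 3, 0, 3, 3, 0, 3, 1, 2, 0, 3, 3, 3, 3, 3], [1, 1, 1, 3, 0, 3, 3, 1, 2, 1, 3, 0, 2, 0, 3, 1, 3, 1, 1, 2, 2, 2, 2, 2], [1, 1, 1, 3, 0, 3, 3, 3, 3, 0, 0, 3, 3, 3, 0, 3, 1, 2, 1, 2, 0, 0, 3, 3], [1, 1, 1, 3, 0, 3, 3, 3, 0, 2, 2, 1, 2, 2, 2, 2, 0, 3, 0, 3, 0, 2, 0, 2], [1, 1, 1, 3, 0, 3, 3, 3, 0, 2, 2, 1, 2, 2, 2, 2, 2, 1, 2, 1, 2, 2, 0, 2], [1, 1, 1, 3, 0, 3, 0, 3, 1, 2, 0, 3, 3, 0, 0, 0, 3, 3, 3, 0, 0, 2, 0, 2], [1, 1, 1, 3, 0, 3, 0, 0, 3, 0, 0, 2, 2, 0, 0, 2, 2, 0, 0, 3, 1, 3, 3, 3], [1, 1, 1, 3, 0, 3, 0, 0, 0, 3, 3, 1, 3, 1, 2, 1, 3, 0, 3, 0, 3,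 0, 2, 2], [1, 1, 1, 3, 0, 3, 0, 2, 0, 2, 0, 3, 0, 3, 0, 3, 3, 3, 3, 3, 1, 2, 1, 2], [1, 1, 1, 3, 0, 0, 3, 3, 1, 1, 2, 1, 1, 2, 2, 1, 1, 1, 2, 0, 2, 0, 2, 2], [1, 1, 1, 3, 0, 0, 3, 3, 1, 2, 1, 1, 3, 3, 0, 3, 3, 1, 1, 3, 0, 2, 1, 2], [1, 1, 1, 3, 0, 0, 3, 0, 2, 2, 1, 1, 1, 2, 2, 2, 2, 2, 2, 2, 1, 2, 0, 3], [1, 1, 1, 3, 0, 0, 3, 0, 2, 2, 1, 1, 3, 1, 1, 2, 1, 1, 1, 3, 0, 2, 1, 3], [1, 1, 1, 3, 0, 0, 3, 0, 2, 2, 1, 2, 0, 2, 1, 2, 0, 2, 2, 2, 2, 2, 1, 2], [1, 1, 1, 3, 0, 0, 0, 3, 3, 3, 1, 1, 3, 3, 0, 2, 2, 0, 2, 1, 1, 2, 1, 3], [1, 1, 1, 3, 0, 0, 0, 3, 0, 2, 1, 1, 3, 1, 1, 3, 1, 1, 3, 3, 0, 3, 0, 2], [1, 1, 1, 3, 0, 0, 0, 2, 1, 3, 3, 0, 0, 0, 2, 1, 3, 3,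 3, 1, 3, 0, 0, 3], [1, 1, 1, 3, 0, 0, 2, 1, 2, 2, 0, 2, 0, 2, 2, 0, 0, 3, 3, 1, 3, 1, 1, 2], [1, 1, 1, 3, 0, 0, 2, 0, 3, 3, 3, 1, 3, 3, 0, 2, 1, 3, 1, 2, 2, 2, 0, 2], [1, 1, 1, 3, 0, 0, 2, 0, 2, 0, 2, 2, 1, 1, 1, 3, 0, 2, 0, 2, 2, 0, 3, 3], [1, 1, 1, 3, 0, 0, 2, 2, 0, 0, 3, 0, 3, 0, 0, 0, 3, 3, 3, 3, 0, 2, 1, 3], [1, 1, 1, 3, 0, 0, 2, 2, 0, 2, 1, 2, 1, 2, 0, 0, 3, 3, 3, 3, 0, 2, 1, 3], [1, 1, 1, 3, 0, 0, 2, 2, 2, 2, 2, 2, 1, 2, 1, 2, 1, 1, 1, 2, 0, 3, 3, 3], [1, 1, 1, 3, 0, 2, 1, 1, 1, 2, 0, 3, 1, 3, 0, 2, 1, 2, 0, 2, 2, 2, 2, 2], [1, 1, 1, 3, 0, 2, 1, 1, 3, 3, 0, 0, 2, 1, 3, 3, 3, 3, 0, 3, 3, 3, 3, 3], [1, 1, 1, 3, 0, 2, 1, 2, 2, 2, 1, 3, 0, 3, 0,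 3, 0, 0, 3, 3, 3, 0, 3, 3], [1, 1, 1, 3, 0, 2, 0, 2, 0, 2, 2, 0, 3, 1, 2, 2, 0, 2, 2, 0, 3, 1, 1, 3], [1, 1, 1, 3, 0, 2, 2, 0, 3, 3, 1, 3, 0, 3, 1, 2, 2, 1, 3, 3, 0, 2, 2, 2], [1, 1, 1, 3, 0, 2, 2, 2, 2, 1, 1, 3, 1, 1, 3, 1, 2, 0, 0, 3, 1, 3, 3, 3], [1, 1, 1, 3, 0, 2, 2, 2, 2, 1, 3, 0, 3, 1, 3, 0, 3, 3, 3, 1, 2, 2, 0, 3], [1, 1, 1, 2, 1, 1, 1, 2, 1, 1, 3, 3, 0, 0, 3, 0, 2, 1, 2, 2, 0, 2, 0, 2], [1, 1, 1, 2, 1, 1, 1, 2, 1, 1, 2, 0, 2, 1, 3, 1, 2, 2, 1, 3, 0, 2, 0, 3], [1, 1, 1, 2, 1, 1, 1, 2, 2, 0, 2, 1, 1, 1, 2, 0, 2, 1, 1, 3, 0, 3, 0, 3], [1, 1, 1, 2, 1, 1, 3, 3, 0, 0, 2, 0, 0, 2, 1, 2, 2, 0, 0, 3, 0, 2, 0, 2], [1, 1, 1, 2, 1, 3, 1, 1, 3, 1, 3, 3,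 3, 1, 3, 0, 2, 1, 1, 2, 1, 1, 2, 2], [1, 1, 1, 2, 1, 3, 1, 1, 2, 1, 2, 1, 3, 3, 0, 3, 1, 1, 3, 0, 0, 0, 2, 2], [1, 1, 1, 2, 1, 3, 1, 3, 0, 3, 0, 3, 3, 3, 0, 3, 1, 1, 3, 0, 0, 0, 2, 2], [1, 1, 1, 2, 1, 3, 1, 2, 2, 1, 2, 0, 2, 2, 0, 3, 3, 3, 0, 3, 3, 0, 3, 3], [1, 1, 1, 2, 1, 3, 1, 2, 2, 0, 3, 3, 0, 2, 2, 0, 3, 3, 3, 0, 3, 1, 1, 3], [1, 1, 1, 2, 1, 3, 3, 1, 1, 3, 3, 0, 2, 0, 3, 0, 3, 0, 2, 2, 1, 3, 1, 3], [1, 1, 1, 2, 1, 3, 3, 1, 1, 3, 3, 0, 2, 2, 1, 2, 1, 2, 2, 2, 1, 3, 1, 3], [1, 1, 1, 2, 1, 3, 3, 3, 3, 1, 2, 0, 2, 0, 2, 0, 3, 1, 2, 1, 2, 0, 2, 2], [1, 1, 1, 2, 1, 3, 3, 3, 3, 3, 0, 2, 1, 1, 1, 2, 1, 3, 3, 3, 3, 3, 0, 2], [1, 1, 1, 2, 1, 3, 3, 0, 3,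 1, 2, 0, 0, 3, 3, 0, 2, 0, 3, 1, 3, 0, 3, 3], [1, 1, 1, 2, 1, 3, 0, 3, 0, 2, 2, 2, 1, 2, 0, 0, 3, 1, 2, 2, 2, 0, 2, 2], [1, 1, 1, 2, 1, 3, 0, 0, 3, 1, 3, 0, 0, 3, 0, 2, 1, 1, 2, 1, 2, 1, 1, 3], [1, 1, 1, 2, 1, 3, 0, 0, 3, 1, 3, 0, 0, 3, 0, 2, 1, 3, 0, 3, 0, 3, 1, 3], [1, 1, 1, 2, 1, 3, 0, 2, 1, 3, 0, 3, 1, 2, 1, 2, 0, 2, 0, 2, 0, 0, 3, 3], [1, 1, 1, 2, 1, 3, 0, 2, 1, 2, 1, 1, 3, 0, 3, 1, 1, 3, 3, 3, 3, 1, 3, 3], [1, 1, 1, 2, 1, 3, 0, 2, 2, 1, 3, 1, 3, 3, 0, 2, 1, 2, 0, 3, 1, 2, 1, 2], [1, 1, 1, 2, 1, 2, 1, 1, 2, 2, 1, 2, 0, 2, 2, 2, 0, 3, 0, 0, 3, 3, 0, 2], [1, 1, 1, 2, 1, 2, 1, 3, 1, 1, 3, 1, 2, 1, 3, 3, 0, 0, 0, 2, 2, 1, 3, 3], [1, 1, 1, 2, 1, 2,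 1, 3, 3, 0, 2, 1, 1, 2, 1, 2, 2, 2, 1, 3, 3, 3, 3, 3], [1, 1, 1, 2, 1, 2, 1, 3, 0, 3, 0, 0, 2, 0, 3, 1, 3, 0, 0, 0, 2, 2, 0, 2], [1, 1, 1, 2, 1, 2, 1, 2, 0, 2, 0, 0, 3, 3, 3, 3, 3, 1, 3, 3, 1, 2, 2, 2], [1, 1, 1, 2, 1, 2, 1, 2, 2, 0, 2, 2, 1, 2, 1, 3, 3, 3, 3, 3, 0, 3, 0, 3], [1, 1, 1, 2, 1, 2, 0, 3, 1, 3, 3, 1, 2, 2, 0, 2, 0, 3, 3, 0, 0, 3, 3, 3], [1, 1, 1, 2, 1, 2, 0, 3, 3, 1, 1, 3, 3, 0, 0, 2, 2, 2, 1, 3, 0, 2, 1, 3], [1, 1, 1, 2, 1, 2, 0, 3, 0, 2, 1, 1, 2, 2, 1, 3, 3, 1, 1, 3, 3, 1, 3, 3], [1, 1, 1, 2, 1, 2, 0, 0, 3, 3, 3, 0, 3, 0, 0, 0, 2, 0, 0, 3, 3, 3, 1, 2], [1, 1, 1, 2, 1, 2, 0, 2, 1, 3, 0, 2, 1, 2, 1, 3, 1, 2, 2, 2, 2, 1, 1, 2], [1, 1, 1,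 2, 1, 2, 0, 2, 0, 3, 0, 2, 2, 1, 3, 3, 0, 2, 0, 3, 3, 3, 0, 3], [1, 1, 1, 2, 1, 2, 2, 0, 0, 2, 1, 2, 0, 3, 0, 0, 3, 0, 0, 3, 1, 1, 3, 3], [1, 1, 1, 2, 1, 2, 2, 0, 2, 2, 1, 3, 0, 3, 3, 1, 3, 0, 3, 1, 1, 3, 0, 2], [1, 1, 1, 2, 1, 2, 2, 2, 1, 3, 1, 2, 1, 3, 3, 0, 0, 2, 0, 2, 2, 0, 0, 2], [1, 1, 1, 2, 1, 2, 2, 2, 2, 2, 2, 1, 2, 0, 3, 3, 3, 1, 1, 3, 1, 3, 1, 2], [1, 1, 1, 2, 0, 3, 1, 1, 1, 2, 2, 0, 3, 0, 0, 2, 2, 1, 3, 0, 2, 2, 0, 3], [1, 1, 1, 2, 0, 3, 1, 3, 1, 1, 2, 1, 2, 2, 0, 0, 3, 3, 0, 3, 3, 3, 3, 3], [1, 1, 1, 2, 0, 3, 3, 3, 1, 3, 1, 3, 3, 3, 1, 3, 1, 1, 2, 2, 0, 2, 0, 2], [1, 1, 1, 2, 0, 3, 3, 0, 2, 2, 0, 0, 2, 1, 1, 2, 2, 1, 2, 2, 1, 2, 0, 2],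 [1, 1, 1, 2, 0, 3, 0, 3, 1, 3, 3, 3, 3, 0, 2, 0, 0, 2, 0, 3, 0, 0, 3, 3], [1, 1, 1, 2, 0, 3, 0, 3, 0, 0, 3, 3, 1, 1, 2, 2, 2, 2, 0, 2, 2, 2, 1, 3], [1, 1, 1, 2, 0, 3, 0, 2, 0, 3, 1, 2, 2, 0, 3, 0, 3, 3, 3, 0, 0, 2, 1, 2], [1, 1, 1, 2, 0, 3, 0, 2, 2, 1, 2, 1, 3, 3, 0, 3, 1, 2, 0, 2, 1, 1, 3, 3], [1, 1, 1, 2, 0, 3, 0, 2, 2, 2, 2, 0, 2, 1, 1, 2, 0, 2, 1, 3, 3, 0, 3, 3], [1, 1, 1, 2, 0, 0, 3, 1, 2, 2, 0, 2, 1, 3, 1, 2, 0, 3, 3, 1, 1, 2, 2, 2], [1, 1, 1, 2, 0, 0, 3, 3, 1, 3, 1, 2, 0, 2, 0, 3, 3, 3, 0, 0, 2, 2, 1, 2], [1, 1, 1, 2, 0, 0, 3, 3, 0, 0, 2, 1, 1, 2, 1, 1, 3, 1, 3, 3, 0, 2, 1, 3], [1, 1, 1, 2, 0, 0, 2, 1, 1, 3, 0, 0, 3, 0, 3, 3, 1, 1, 2, 0, 3,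 1, 1, 3], [1, 1, 1, 2, 0, 0, 2, 1, 3, 0, 0, 3, 0, 2, 0, 3, 3, 0, 2, 2, 0, 0, 2, 2], [1, 1, 1, 2, 0, 0, 2, 2, 1, 2, 0, 3, 3, 0, 3, 3, 1, 3, 3, 1, 1, 2, 2, 2], [1, 1, 1, 2, 0, 0, 2, 2, 1, 2, 0, 3, 0, 0, 2, 2, 0, 2, 2, 1, 2, 2, 2, 2], [1, 1, 1, 2, 0, 0, 2, 2, 0, 2, 0, 3, 0, 0, 3, 0, 2, 1, 1, 2, 2, 1, 3, 3], [1, 1, 1, 2, 0, 2, 1, 1, 3, 3, 3, 0, 2, 1, 2, 0, 0, 3, 3, 0, 0, 0, 2, 2], [1, 1, 1, 2, 0, 2, 1, 3, 1, 1, 2, 1, 2, 2, 1, 2, 1, 2, 0, 0, 3, 1, 3, 3], [1, 1, 1, 2, 0, 2, 1, 3, 1, 2, 1, 2, 0, 2, 0, 3, 1, 1, 3, 1, 3, 0, 0, 3], [1, 1, 1, 2, 0, 2, 1, 2, 0, 3, 3, 1, 2, 2, 0, 3, 3, 0, 0, 3, 3, 1, 2, 2], [1, 1, 1, 2, 0, 2, 0, 3, 0, 2, 1, 3, 3, 1, 3, 3, 3, 1,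 3, 1, 3, 3, 1, 2], [1, 1, 1, 2, 0, 2, 0, 0, 2, 0, 3, 3, 3, 1, 3, 0, 3, 1, 3, 0, 0, 2, 0, 2], [1, 1, 1, 2, 0, 2, 0, 0, 2, 2, 1, 1, 3, 3, 0, 2, 1, 1, 2, 0, 0, 2, 0, 2], [1, 1, 1, 2, 0, 2, 2, 1, 1, 1, 2, 2, 1, 2, 1, 3, 3, 0, 3, 3, 3, 0, 0, 3], [1, 1, 1, 2, 0, 2, 2, 1, 1, 2, 0, 2, 2, 2, 0, 3, 0, 2, 2, 1, 2, 0, 0, 2], [1, 1, 1, 2, 0, 2, 2, 1, 3, 3, 0, 0, 2, 1, 2, 2, 1, 1, 3, 1, 2, 0, 0, 3], [1, 1, 1, 2, 0, 2, 2, 1, 2, 1, 3, 3, 0, 0, 2, 0, 0, 2, 2, 2, 1, 2, 0, 2], [1, 1, 1, 2, 0, 2, 2, 0, 3, 3, 3, 0, 2, 0, 2, 0, 2, 2, 2, 2, 0, 3, 1, 3], [1, 1, 1, 2, 0, 2, 2, 0, 0, 2, 2, 0, 3, 0, 2, 0, 3, 3, 1, 3, 3, 3, 1, 3], [1, 1, 1, 2, 2, 1, 3, 1, 1, 2, 1, 3, 3, 1, 1,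 3, 0, 3, 1, 1, 2, 1, 1, 2], [1, 1, 1, 2, 2, 1, 3, 1, 3, 0, 3, 3, 1, 3, 1, 3, 1, 1, 3, 0, 2, 0, 2, 2], [1, 1, 1, 2, 2, 1, 3, 3, 3, 0, 2, 2, 2, 2, 0, 2, 1, 2, 1, 3, 1, 1, 2, 2], [1, 1, 1, 2, 2, 1, 2, 1, 2, 0, 3, 3, 1, 1, 2, 2, 2, 2, 0, 2, 2, 2, 1, 3], [1, 1, 1, 2, 2, 1, 2, 0, 3, 3, 1, 3, 0, 3, 0, 3, 0, 2, 1, 3, 0, 2, 0, 3], [1, 1, 1, 2, 2, 1, 2, 2, 0, 2, 0, 3, 3, 0, 2, 2, 2, 0, 3, 0, 0, 3, 0, 2], [1, 1, 1, 2, 2, 0, 3, 1, 3, 1, 3, 3, 3, 0, 2, 0, 2, 1, 3, 3, 0, 0, 0, 2], [1, 1, 1, 2, 2, 0, 3, 3, 1, 2, 1, 3, 1, 2, 0, 2, 0, 3, 3, 3, 3, 1, 1, 3], [1, 1, 1, 2, 2, 0, 3, 0, 2, 0, 0, 2, 2, 1, 2, 1, 2, 0, 0, 2, 2, 0, 3, 3], [1, 1, 1, 2, 2, 0, 0, 3, 0, 2, 0, 2,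 0, 2, 2, 0, 2, 0, 2, 2, 2, 0, 3, 3], [1, 1, 1, 2, 2, 0, 0, 2, 0, 3, 0, 0, 3, 3, 3, 3, 3, 3, 0, 0, 2, 2, 0, 2], [1, 1, 1, 2, 2, 0, 0, 2, 2, 1, 1, 2, 2, 2, 2, 1, 1, 2, 0, 3, 3, 3, 0, 2], [1, 1, 1, 2, 2, 0, 2, 1, 2, 2, 1, 3, 0, 0, 2, 2, 2, 2, 2, 1, 3, 1, 3, 3], [1, 1, 1, 2, 2, 0, 2, 0, 3, 3, 3, 3, 3, 0, 3, 1, 3, 3, 1, 2, 1, 2, 2, 2], [1, 1, 1, 2, 2, 2, 1, 1, 2, 1, 3, 0, 0, 2, 1, 3, 1, 3, 3, 3, 0, 2, 1, 3], [1, 1, 1, 2, 2, 2, 1, 3, 3, 0, 0, 2, 0, 0, 3, 0, 3, 0, 2, 2, 1, 1, 2, 2], [1, 1, 1, 2, 2, 2, 1, 3, 3, 0, 0, 2, 0, 2, 1, 2, 1, 2, 2, 2, 1, 1, 2, 2], [1, 1, 1, 2, 2, 2, 1, 2, 2, 1, 2, 1, 1, 2, 0, 3, 3, 0, 2, 2, 2, 2, 1, 3], [1, 1, 1, 2, 2, 2, 0, 3, 3,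 1, 3, 3, 3, 1, 1, 3, 3, 3, 3, 1, 1, 2, 0, 3], [1, 1, 1, 2, 2, 2, 0, 2, 2, 2, 2, 2, 1, 1, 3, 0, 3, 0, 2, 2, 2, 1, 1, 3], [1, 1, 1, 2, 2, 2, 2, 2, 1, 2, 1, 3, 0, 3, 0, 2, 0, 2, 2, 0, 0, 2, 0, 3], [1, 1, 3, 1, 1, 3, 3, 1, 1, 2, 0, 2, 2, 2, 1, 3, 1, 2, 0, 0, 3, 3, 1, 2], [1, 1, 3, 1, 1, 3, 3, 3, 1, 3, 0, 3, 3, 1, 3, 3, 0, 3, 1, 1, 3, 0, 0, 3], [1, 1, 3, 1, 1, 3, 3, 0, 2, 0, 0, 3, 3, 0, 3, 3, 3, 0, 2, 0, 3, 1, 2, 2], [1, 1, 3, 1, 1, 3, 0, 3, 3, 0, 3, 3, 1, 1, 2, 2, 1, 2, 2, 0, 0, 3, 1, 3], [1, 1, 3, 1, 1, 3, 0, 0, 2, 2, 1, 2, 2, 1, 2, 0, 0, 3, 3, 0, 3, 0, 0, 2], [1, 1, 3, 1, 1, 3, 0, 2, 2, 0, 3, 0, 0, 2, 0, 3, 3, 0, 0, 3, 0, 2, 1, 2], [1, 1, 3, 1, 1, 2,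 1, 3, 3, 1, 1, 2, 0, 2, 1, 1, 2, 0, 0, 3, 0, 2, 0, 3], [1, 1, 3, 1, 1, 2, 1, 2, 2, 0, 0, 3, 1, 3, 1, 1, 3, 3, 3, 0, 3, 0, 0, 2], [1, 1, 3, 1, 1, 2, 0, 3, 0, 3, 1, 3, 1, 3, 1, 1, 3, 3, 0, 3, 1, 2, 0, 3], [1, 1, 3, 1, 1, 2, 0, 2, 2, 1, 2, 2, 0, 3, 0, 0, 3, 1, 3, 0, 2, 2, 0, 2], [1, 1, 3, 1, 1, 2, 2, 1, 2, 1, 3, 3, 1, 2, 1, 2, 2, 2, 1, 3, 3, 3, 1, 3], [1, 1, 3, 1, 3, 1, 1, 2, 1, 3, 1, 1, 2, 2, 1, 1, 3, 0, 0, 2, 2, 0, 2, 2], [1, 1, 3, 1, 3, 1, 1, 2, 0, 2, 1, 2, 2, 0, 2, 1, 3, 3, 3, 0, 0, 3, 0, 2], [1, 1, 3, 1, 3, 1, 1, 2, 2, 2, 2, 1, 3, 0, 3, 0, 2, 1, 2, 2, 2, 0, 0, 3], [1, 1, 3, 1, 3, 1, 3, 3, 3, 3, 0, 0, 2, 1, 3, 1, 2, 0, 2, 0, 0, 3, 0, 3], [1, 1, 3,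 1, 3, 1, 3, 3, 0, 0, 2, 2, 2, 2, 2, 2, 2, 2, 1, 3, 1, 3, 3, 3], [1, 1, 3, 1, 3, 1, 3, 0, 3, 1, 3, 1, 2, 2, 2, 0, 0, 3, 0, 3, 1, 3, 3, 3], [1, 1, 3, 1, 3, 1, 2, 0, 3, 0, 0, 3, 3, 1, 1, 2, 0, 2, 2, 0, 0, 3, 1, 3], [1, 1, 3, 1, 3, 3, 1, 3, 3, 0, 0, 2, 1, 3, 0, 3, 3, 0, 0, 3, 1, 3, 1, 2], [1, 1, 3, 1, 3, 3, 1, 2, 1, 2, 1, 1, 2, 0, 3, 0, 3, 3, 3, 3, 3, 0, 0, 2], [1, 1, 3, 1, 3, 3, 1, 2, 1, 2, 1, 3, 0, 2, 0, 2, 2, 0, 0, 2, 0, 3, 1, 2], [1, 1, 3, 1, 3, 3, 1, 2, 2, 0, 2, 2, 2, 2, 2, 0, 2, 0, 3, 1, 2, 0, 2, 2], [1, 1, 3, 1, 3, 3, 1, 2, 2, 2, 2, 0, 2, 1, 2, 2, 2, 0, 3, 0, 2, 2, 1, 2], [1, 1, 3, 1, 3, 3, 3, 1, 2, 0, 2, 0, 3, 0, 3, 3, 3, 1, 2, 2, 1, 1, 2, 2],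 [1, 1, 3, 1, 3, 3, 3, 3, 3, 3, 1, 1, 2, 1, 2, 1, 1, 3, 3, 1, 3, 0, 2, 2], [1, 1, 3, 1, 3, 3, 3, 3, 3, 3, 1, 3, 0, 3, 0, 3, 1, 3, 3, 1, 3, 0, 2, 2], [1, 1, 3, 1, 3, 3, 3, 3, 3, 3, 0, 3, 1, 3, 3, 0, 2, 0, 0, 2, 0, 3, 0, 3], [1, 1, 3, 1, 3, 3, 3, 0, 3, 0, 3, 1, 2, 0, 3, 0, 3, 3, 3, 3, 3, 0, 0, 2], [1, 1, 3, 1, 3, 3, 3, 0, 3, 0, 3, 3, 0, 2, 0, 2, 2, 0, 0, 2, 0, 3, 1, 2], [1, 1, 3, 1, 3, 3, 0, 3, 1, 3, 3, 3, 0, 3, 1, 1, 3, 0, 2, 2, 1, 3, 0, 3], [1, 1, 3, 1, 3, 3, 0, 0, 3, 3, 1, 3, 1, 2, 0, 3, 0, 3, 0, 3, 3, 1, 1, 2], [1, 1, 3, 1, 3, 3, 0, 2, 1, 3, 3, 1, 1, 2, 2, 0, 0, 2, 2, 2, 0, 0, 3, 3], [1, 1, 3, 1, 3, 3, 0, 2, 2, 1, 1, 2, 0, 3, 1, 2, 0, 2, 2, 1, 1,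 3, 0, 2], [1, 1, 3, 1, 3, 0, 3, 1, 1, 2, 1, 1, 2, 1, 3, 0, 0, 3, 0, 3, 0, 3, 1, 3], [1, 1, 3, 1, 3, 0, 3, 1, 3, 1, 1, 3, 0, 2, 0, 3, 3, 3, 3, 1, 1, 3, 3, 3], [1, 1, 3, 1, 3, 0, 3, 1, 3, 0, 0, 2, 1, 3, 0, 0, 3, 0, 3, 3, 1, 2, 0, 2], [1, 1, 3, 1, 3, 0, 3, 3, 1, 3, 0, 2, 0, 3, 3, 1, 1, 2, 1, 1, 3, 0, 3, 3], [1, 1, 3, 1, 3, 0, 3, 3, 1, 2, 2, 2, 1, 2, 2, 1, 2, 0, 3, 1, 2, 2, 2, 2], [1, 1, 3, 1, 3, 0, 3, 0, 2, 0, 3, 3, 1, 3, 0, 3, 0, 2, 0, 2, 2, 0, 3, 3], [1, 1, 3, 1, 3, 0, 0, 2, 2, 1, 2, 1, 3, 3, 3, 3, 0, 2, 1, 3, 3, 3, 3, 3], [1, 1, 3, 1, 3, 0, 2, 0, 3, 3, 1, 2, 2, 0, 2, 1, 3, 0, 2, 2, 2, 2, 0, 2], [1, 1, 3, 1, 3, 0, 2, 0, 2, 2, 2, 2, 2, 1, 2, 1, 3, 0,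 3, 1, 3, 1, 3, 3], [1, 1, 3, 1, 3, 0, 2, 2, 2, 1, 3, 3, 3, 0, 0, 2, 2, 0, 0, 2, 1, 3, 3, 3], [1, 1, 3, 1, 2, 1, 1, 3, 3, 3, 0, 0, 2, 1, 2, 0, 3, 1, 2, 2, 1, 2, 1, 3], [1, 1, 3, 1, 2, 1, 1, 3, 0, 2, 0, 0, 2, 2, 1, 2, 2, 1, 2, 2, 2, 0, 2, 2], [1, 1, 3, 1, 2, 1, 3, 0, 2, 1, 3, 1, 2, 1, 2, 0, 3, 0, 2, 0, 3, 1, 3, 3], [1, 1, 3, 1, 2, 1, 2, 0, 3, 0, 3, 0, 0, 2, 1, 1, 3, 0, 2, 2, 0, 3, 0, 3], [1, 1, 3, 1, 2, 1, 2, 2, 1, 2, 1, 2, 0, 2, 1, 1, 3, 0, 2, 2, 0, 3, 0, 3], [1, 1, 3, 1, 2, 0, 3, 1, 2, 2, 2, 1, 3, 3, 1, 3, 0, 2, 0, 2, 1, 1, 2, 2], [1, 1, 3, 1, 2, 0, 3, 3, 1, 2, 0, 3, 1, 2, 2, 1, 2, 2, 1, 3, 3, 0, 2, 2], [1, 1, 3, 1, 2, 0, 3, 3, 3, 1, 2, 1, 3, 0, 3,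 1, 2, 0, 0, 2, 2, 0, 0, 3], [1, 1, 3, 1, 2, 0, 3, 0, 0, 3, 1, 2, 1, 2, 0, 3, 0, 0, 3, 1, 3, 1, 3, 3], [1, 1, 3, 1, 2, 2, 1, 1, 2, 2, 1, 2, 1, 3, 1, 2, 0, 3, 1, 1, 3, 3, 0, 2], [1, 1, 3, 1, 2, 2, 1, 3, 0, 3, 0, 2, 1, 2, 0, 3, 3, 1, 3, 3, 3, 3, 1, 2], [1, 1, 3, 1, 2, 2, 1, 2, 2, 0, 0, 3, 1, 2, 1, 2, 1, 3, 3, 3, 0, 2, 2, 2], [1, 1, 3, 1, 2, 2, 1, 2, 2, 0, 0, 3, 3, 0, 3, 0, 3, 3, 3, 3, 0, 2, 2, 2], [1, 1, 3, 1, 2, 2, 0, 2, 2, 1, 3, 0, 2, 2, 2, 2, 0, 2, 1, 2, 0, 2, 2, 2], [1, 1, 3, 1, 2, 2, 2, 0, 3, 0, 0, 2, 2, 1, 3, 1, 3, 3, 3, 3, 0, 3, 1, 3], [1, 1, 3, 1, 2, 2, 2, 0, 3, 0, 2, 0, 2, 2, 2, 0, 0, 2, 1, 2, 2, 2, 0, 3], [1, 1, 3, 1, 2, 2, 2, 0, 0, 3, 0, 3,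 0, 3, 1, 2, 2, 1, 1, 2, 0, 2, 1, 3], [1, 1, 3, 1, 2, 2, 2, 0, 0, 2, 0, 3, 1, 2, 1, 2, 2, 0, 0, 3, 1, 1, 3, 3], [1, 1, 3, 3, 1, 1, 3, 3, 3, 0, 0, 3, 1, 3, 1, 1, 2, 2, 2, 1, 3, 0, 0, 2], [1, 1, 3, 3, 1, 1, 3, 0, 2, 1, 1, 2, 1, 1, 3, 3, 1, 1, 3, 0, 2, 1, 1, 2], [1, 1, 3, 3, 1, 1, 2, 2, 2, 0, 0, 3, 3, 3, 3, 3, 0, 2, 2, 2, 0, 3, 1, 3], [1, 1, 3, 3, 1, 3, 1, 1, 2, 2, 1, 3, 1, 1, 3, 3, 1, 3, 1, 1, 2, 2, 1, 3], [1, 1, 3, 3, 1, 3, 3, 1, 2, 1, 2, 2, 0, 0, 3, 3, 3, 3, 3, 1, 2, 1, 3, 3], [1, 1, 3, 3, 1, 3, 3, 1, 2, 2, 1, 2, 2, 0, 2, 0, 3, 1, 1, 3, 0, 3, 0, 2], [1, 1, 3, 3, 1, 3, 3, 3, 3, 0, 0, 2, 1, 1, 3, 0, 3, 3, 0, 0, 3, 3, 3, 3], [1, 1, 3, 3, 1, 3, 3, 3, 0,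 0, 2, 0, 2, 1, 3, 0, 3, 3, 0, 3, 3, 0, 2, 2], [1, 1, 3, 3, 1, 3, 3, 0, 2, 0, 3, 0, 3, 3, 0, 3, 1, 3, 1, 1, 2, 2, 1, 2], [1, 1, 3, 3, 1, 3, 0, 2, 1, 3, 3, 3, 3, 1, 1, 3, 0, 0, 3, 3, 3, 0, 0, 2], [1, 1, 3, 3, 1, 2, 1, 3, 1, 2, 0, 0, 3, 1, 2, 2, 0, 2, 2, 2, 2, 0, 0, 3], [1, 1, 3, 3, 1, 2, 0, 3, 1, 2, 0, 2, 1, 3, 1, 2, 0, 0, 2, 1, 3, 3, 3, 3], [1, 1, 3, 3, 1, 2, 0, 2, 2, 2, 1, 1, 3, 3, 3, 1, 1, 2, 0, 0, 3, 3, 1, 2], [1, 1, 3, 3, 1, 2, 2, 0, 3, 0, 3, 1, 3, 3, 1, 2, 2, 0, 3, 3, 1, 1, 2, 2], [1, 1, 3, 3, 1, 2, 2, 0, 0, 3, 1, 3, 3, 0, 2, 2, 1, 3, 0, 3, 1, 3, 1, 3], [1, 1, 3, 3, 1, 2, 2, 2, 0, 2, 2, 2, 0, 0, 2, 1, 2, 0, 0, 2, 0, 2, 0, 3], [1, 1, 3, 3, 1, 2,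 2, 2, 2, 2, 1, 2, 0, 3, 1, 1, 2, 1, 3, 3, 3, 3, 3, 3], [1, 1, 3, 3, 3, 1, 2, 1, 3, 0, 0, 3, 1, 2, 1, 1, 2, 2, 1, 1, 2, 2, 1, 2], [1, 1, 3, 3, 3, 1, 2, 0, 0, 2, 0, 2, 1, 2, 2, 0, 3, 1, 2, 1, 1, 2, 1, 2], [1, 1, 3, 3, 3, 1, 2, 0, 2, 1, 2, 1, 1, 3, 0, 0, 3, 0, 2, 2, 1, 3, 0, 2], [1, 1, 3, 3, 3, 1, 2, 2, 2, 1, 2, 1, 3, 3, 3, 3, 3, 1, 2, 1, 3, 0, 2, 2], [1, 1, 3, 3, 3, 3, 1, 1, 3, 3, 3, 3, 1, 1, 3, 3, 3, 3, 1, 1, 3, 3, 3, 3], [1, 1, 3, 3, 3, 3, 3, 1, 2, 0, 3, 1, 1, 2, 1, 2, 1, 1, 2, 1, 3, 3, 3, 3], [1, 1, 3, 3, 3, 3, 3, 1, 2, 0, 3, 1, 3, 0, 3, 0, 3, 1, 2, 1, 3, 3, 3, 3], [1, 1, 3, 3, 3, 3, 0, 2, 2, 2, 2, 1, 2, 2, 2, 0, 3, 3, 1, 3, 1, 2, 2, 2], [1, 1, 3,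 3, 3, 0, 3, 3, 0, 2, 2, 0, 2, 2, 0, 3, 1, 1, 3, 0, 0, 2, 2, 2], [1, 1, 3, 3, 3, 0, 0, 2, 0, 3, 3, 1, 3, 1, 3, 3, 0, 2, 2, 1, 2, 1, 3, 3], [1, 1, 3, 3, 3, 0, 0, 2, 0, 3, 0, 3, 1, 2, 1, 3, 3, 3, 1, 1, 3, 3, 0, 3], [1, 1, 3, 3, 3, 0, 0, 2, 2, 1, 1, 3, 3, 0, 3, 0, 0, 2, 2, 1, 2, 0, 3, 3], [1, 1, 3, 3, 3, 0, 2, 1, 3, 3, 3, 3, 0, 0, 2, 0, 2, 2, 0, 2, 2, 2, 1, 2], [1, 1, 3, 3, 3, 0, 2, 1, 3, 0, 2, 2, 0, 3, 1, 3, 1, 1, 2, 0, 2, 2, 1, 3], [1, 1, 3, 3, 3, 0, 2, 0, 2, 1, 3, 0, 0, 2, 2, 2, 2, 2, 2, 2, 2, 1, 1, 2], [1, 1, 3, 3, 3, 0, 2, 2, 1, 2, 2, 2, 0, 2, 1, 1, 2, 1, 1, 3, 0, 3, 1, 3], [1, 1, 3, 3, 0, 3, 1, 1, 2, 1, 3, 0, 2, 1, 3, 0, 0, 3, 0, 0, 3, 1, 3, 3],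 [1, 1, 3, 3, 0, 3, 1, 1, 2, 1, 2, 0, 3, 0, 2, 1, 1, 2, 0, 2, 2, 2, 2, 2], [1, 1, 3, 3, 0, 3, 1, 3, 1, 3, 0, 2, 1, 2, 2, 2, 1, 2, 1, 3, 0, 2, 0, 2], [1, 1, 3, 3, 0, 3, 1, 3, 1, 2, 2, 0, 0, 2, 1, 1, 3, 0, 0, 3, 1, 3, 3, 3], [1, 1, 3, 3, 0, 3, 1, 3, 3, 0, 3, 3, 1, 1, 3, 3, 0, 3, 1, 3, 3, 0, 3, 3], [1, 1, 3, 3, 0, 3, 1, 2, 1, 3, 3, 1, 2, 0, 3, 3, 0, 3, 1, 3, 1, 2, 0, 3], [1, 1, 3, 3, 0, 3, 3, 1, 3, 1, 2, 0, 3, 1, 3, 0, 3, 3, 1, 3, 3, 3, 0, 2], [1, 1, 3, 3, 0, 3, 3, 0, 3, 3, 0, 3, 1, 1, 3, 3, 0, 3, 3, 0, 3, 3, 0, 3], [1, 1, 3, 3, 0, 0, 3, 1, 2, 2, 0, 0, 3, 0, 3, 3, 3, 1, 1, 2, 1, 2, 1, 2], [1, 1, 3, 3, 0, 0, 3, 0, 3, 1, 2, 0, 2, 0, 2, 1, 3, 1, 2, 2, 1,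 3, 1, 2], [1, 1, 3, 3, 0, 0, 3, 0, 0, 2, 2, 2, 0, 2, 2, 0, 2, 2, 1, 1, 2, 0, 0, 2], [1, 1, 3, 3, 0, 2, 1, 3, 3, 0, 3, 1, 2, 1, 3, 1, 3, 3, 1, 3, 0, 2, 0, 3], [1, 1, 3, 3, 0, 2, 1, 2, 0, 3, 1, 3, 3, 1, 2, 0, 2, 2, 1, 1, 2, 0, 2, 2], [1, 1, 3, 3, 0, 2, 0, 3, 1, 1, 3, 0, 2, 1, 3, 3, 1, 3, 1, 3, 3, 3, 3, 3], [1, 1, 3, 3, 0, 2, 0, 3, 1, 2, 0, 3, 1, 3, 0, 2, 2, 1, 1, 3, 0, 3, 0, 3], [1, 1, 3, 3, 0, 2, 0, 2, 2, 2, 2, 1, 2, 1, 1, 2, 1, 3, 1, 2, 1, 1, 2, 2], [1, 1, 3, 3, 0, 2, 2, 1, 3, 3, 3, 0, 3, 0, 0, 2, 2, 1, 2, 0, 3, 3, 0, 2], [1, 1, 3, 3, 0, 2, 2, 0, 2, 0, 2, 1, 3, 0, 2, 1, 3, 0, 2, 1, 3, 0, 0, 2], [1, 1, 3, 0, 3, 1, 3, 1, 2, 0, 3, 0, 2, 1, 2, 0, 3, 1,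 3, 0, 3, 3, 0, 3], [1, 1, 3, 0, 3, 1, 3, 3, 3, 3, 1, 2, 1, 2, 2, 2, 0, 2, 2, 0, 2, 0, 2, 2], [1, 1, 3, 0, 3, 1, 3, 3, 3, 0, 0, 3, 0, 0, 3, 0, 2, 2, 1, 2, 0, 2, 0, 3], [1, 1, 3, 0, 3, 1, 3, 3, 0, 3, 1, 3, 1, 1, 3, 0, 3, 1, 3, 3, 0, 3, 1, 3], [1, 1, 3, 0, 3, 1, 3, 0, 0, 2, 0, 3, 1, 1, 2, 1, 3, 1, 2, 0, 0, 2, 2, 2], [1, 1, 3, 0, 3, 1, 2, 1, 2, 2, 1, 1, 3, 0, 0, 3, 1, 3, 3, 1, 2, 0, 0, 3], [1, 1, 3, 0, 3, 1, 2, 2, 1, 3, 0, 0, 2, 2, 1, 1, 2, 0, 2, 2, 2, 2, 2, 2], [1, 1, 3, 0, 3, 1, 2, 2, 1, 2, 0, 0, 2, 2, 2, 2, 2, 1, 2, 0, 3, 0, 0, 3], [1, 1, 3, 0, 3, 3, 3, 1, 2, 0, 2, 0, 2, 2, 1, 3, 3, 1, 3, 3, 3, 3, 3, 3], [1, 1, 3, 0, 3, 3, 3, 3, 1, 1, 3, 0, 0, 3, 0,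 3, 1, 3, 3, 3, 3, 1, 1, 2], [1, 1, 3, 0, 3, 3, 3, 0, 2, 2, 1, 1, 3, 0, 0, 2, 1, 3, 0, 3, 0, 0, 3, 3], [1, 1, 3, 0, 3, 0, 3, 1, 2, 2, 1, 2, 0, 2, 2, 2, 0, 3, 0, 0, 3, 3, 0, 2], [1, 1, 3, 0, 3, 0, 3, 3, 3, 0, 2, 1, 1, 2, 1, 2, 2, 2, 1, 3, 3, 3, 3, 3], [1, 1, 3, 0, 3, 0, 3, 0, 3, 1, 2, 0, 2, 1, 3, 3, 0, 0, 2, 2, 1, 3, 0, 3], [1, 1, 3, 0, 3, 0, 2, 1, 3, 1, 1, 3, 0, 0, 2, 2, 2, 1, 1, 3, 0, 2, 0, 3], [1, 1, 3, 0, 3, 0, 2, 1, 3, 3, 3, 0, 3, 1, 2, 1, 3, 0, 2, 1, 1, 2, 1, 2], [1, 1, 3, 0, 3, 0, 2, 1, 3, 0, 3, 3, 3, 0, 2, 2, 2, 0, 3, 3, 1, 2, 0, 2], [1, 1, 3, 0, 3, 0, 2, 1, 2, 2, 1, 3, 0, 2, 0, 3, 0, 3, 3, 1, 2, 2, 1, 3], [1, 1, 3, 0, 3, 0, 2, 0, 2, 1, 2, 1,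 3, 0, 2, 0, 3, 1, 3, 1, 2, 0, 0, 2], [1, 1, 3, 0, 3, 0, 2, 0, 2, 0, 3, 0, 3, 0, 3, 3, 3, 3, 3, 3, 0, 3, 0, 3], [1, 1, 3, 0, 0, 3, 1, 3, 1, 3, 3, 3, 0, 0, 2, 1, 3, 0, 0, 3, 3, 3, 3, 3], [1, 1, 3, 0, 0, 3, 3, 1, 2, 0, 0, 2, 0, 2, 0, 3, 1, 3, 3, 3, 3, 3, 0, 3], [1, 1, 3, 0, 0, 3, 3, 3, 1, 2, 1, 3, 1, 3, 3, 3, 3, 0, 3, 3, 3, 0, 3, 3], [1, 1, 3, 0, 0, 3, 3, 3, 0, 2, 0, 3, 1, 3, 3, 1, 3, 1, 3, 3, 3, 3, 1, 3], [1, 1, 3, 0, 0, 3, 0, 2, 1, 3, 0, 3, 3, 1, 3, 3, 0, 0, 2, 2, 2, 1, 1, 2], [1, 1, 3, 0, 0, 3, 0, 2, 0, 2, 2, 0, 3, 3, 3, 1, 3, 3, 3, 0, 0, 2, 0, 2], [1, 1, 3, 0, 0, 2, 0, 2, 2, 2, 1, 2, 2, 2, 2, 0, 3, 1, 3, 0, 2, 0, 3, 3], [1, 1, 3, 0, 2, 1, 1, 3, 0,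 2, 2, 0, 2, 1, 2, 1, 3, 1, 3, 0, 2, 1, 3, 3], [1, 1, 3, 0, 2, 1, 1, 2, 0, 2, 0, 3, 3, 3, 3, 3, 3, 3, 0, 3, 3, 0, 0, 3], [1, 1, 3, 0, 2, 1, 3, 3, 1, 2, 0, 3, 0, 0, 2, 2, 2, 2, 2, 1, 3, 0, 0, 2], [1, 1, 3, 0, 2, 1, 3, 0, 0, 2, 1, 1, 2, 0, 2, 1, 3, 3, 3, 1, 3, 0, 2, 2], [1, 1, 3, 0, 2, 1, 2, 0, 3, 3, 3, 3, 0, 3, 1, 1, 2, 0, 3, 1, 3, 3, 1, 3], [1, 1, 3, 0, 2, 1, 2, 2, 2, 2, 2, 2, 0, 3, 0, 2, 1, 3, 3, 3, 0, 0, 2, 2], [1, 1, 3, 0, 2, 0, 3, 3, 1, 3, 3, 3, 0, 2, 2, 1, 3, 1, 3, 1, 2, 0, 0, 3], [1, 1, 3, 0, 2, 0, 3, 3, 3, 1, 2, 2, 1, 3, 3, 0, 0, 3, 0, 2, 0, 3, 1, 3], [1, 1, 3, 0, 2, 0, 3, 0, 0, 3, 0, 3, 3, 1, 1, 2, 1, 3, 3, 3, 3, 1, 2, 2], [1, 1, 3, 0, 2, 0,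 2, 1, 3, 1, 3, 3, 0, 3, 1, 2, 2, 0, 2, 1, 3, 0, 3, 3], [1, 1, 3, 0, 2, 0, 2, 1, 3, 3, 0, 2, 2, 2, 1, 3, 1, 1, 2, 2, 1, 3, 0, 3], [1, 1, 3, 0, 2, 0, 2, 2, 0, 2, 2, 0, 2, 2, 2, 1, 1, 2, 1, 3, 0, 2, 2, 2], [1, 1, 3, 0, 2, 2, 0, 3, 1, 2, 0, 3, 0, 0, 3, 0, 2, 2, 1, 2, 2, 2, 2, 2], [1, 1, 3, 0, 2, 2, 0, 2, 1, 2, 2, 2, 1, 3, 3, 1, 3, 3, 3, 3, 0, 2, 2, 2], [1, 1, 3, 0, 2, 2, 0, 2, 0, 3, 1, 2, 1, 3, 1, 3, 0, 0, 3, 3, 0, 3, 0, 2], [1, 1, 3, 0, 2, 2, 2, 0, 2, 1, 2, 1, 2, 0, 3, 0, 2, 1, 3, 3, 0, 3, 1, 3], [1, 1, 3, 0, 2, 2, 2, 2, 2, 1, 3, 3, 1, 3, 3, 1, 2, 2, 2, 2, 1, 3, 1, 2], [1, 1, 2, 1, 1, 2, 1, 1, 2, 1, 1, 2, 1, 1, 2, 1, 1, 2, 1, 1, 2, 1, 1, 2], [1, 1, 2,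 1, 1, 2, 1, 3, 3, 0, 2, 2, 2, 2, 0, 2, 2, 1, 1, 2, 2, 1, 3, 3], [1, 1, 2, 1, 1, 2, 0, 3, 0, 3, 1, 3, 3, 1, 2, 1, 2, 0, 3, 1, 3, 3, 1, 3], [1, 1, 2, 1, 1, 2, 0, 2, 0, 3, 3, 0, 0, 2, 1, 1, 2, 2, 0, 2, 0, 3, 0, 2], [1, 1, 2, 1, 3, 1, 3, 0, 0, 2, 0, 3, 3, 0, 2, 2, 0, 3, 0, 2, 0, 2, 0, 2], [1, 1, 2, 1, 3, 1, 2, 1, 2, 1, 1, 2, 2, 2, 1, 2, 1, 3, 1, 3, 0, 2, 1, 2], [1, 1, 2, 1, 3, 3, 1, 3, 1, 2, 1, 1, 2, 0, 3, 0, 3, 3, 0, 3, 3, 0, 2, 2], [1, 1, 2, 1, 3, 3, 3, 3, 1, 3, 3, 3, 3, 1, 3, 3, 0, 3, 1, 2, 2, 0, 2, 2], [1, 1, 2, 1, 3, 3, 0, 3, 0, 3, 1, 2, 2, 2, 1, 2, 1, 3, 1, 3, 0, 2, 1, 2], [1, 1, 2, 1, 3, 3, 0, 0, 3, 1, 3, 1, 2, 1, 2, 2, 2, 2, 1, 1, 2, 2, 0, 3],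 [1, 1, 2, 1, 3, 3, 0, 0, 3, 1, 2, 0, 3, 1, 3, 0, 2, 1, 1, 2, 0, 3, 1, 2], [1, 1, 2, 1, 3, 3, 0, 0, 2, 1, 3, 3, 0, 3, 1, 3, 0, 2, 0, 2, 1, 3, 1, 2], [1, 1, 2, 1, 3, 3, 0, 2, 1, 2, 0, 3, 3, 3, 0, 2, 0, 2, 2, 2, 2, 2, 1, 3], [1, 1, 2, 1, 3, 0, 3, 0, 2, 2, 2, 1, 3, 0, 3, 3, 1, 3, 1, 2, 0, 3, 1, 3], [1, 1, 2, 1, 3, 0, 2, 1, 2, 1, 3, 0, 2, 0, 3, 3, 0, 2, 1, 2, 0, 3, 3, 3], [1, 1, 2, 1, 3, 0, 2, 2, 1, 3, 1, 3, 3, 0, 2, 1, 2, 0, 3, 3, 0, 3, 0, 3], [1, 1, 2, 1, 2, 1, 3, 1, 3, 0, 3, 3, 1, 2, 0, 3, 3, 0, 3, 3, 0, 0, 2, 2], [1, 1, 2, 1, 2, 0, 2, 0, 3, 1, 3, 0, 2, 1, 2, 2, 2, 2, 0, 2, 2, 1, 3, 3], [1, 1, 2, 1, 2, 2, 0, 2, 2, 1, 2, 1, 2, 1, 3, 0, 2, 2, 2, 2, 0,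 2, 2, 2], [1, 1, 2, 1, 2, 2, 2, 1, 2, 0, 2, 1, 3, 0, 3, 0, 3, 0, 2, 2, 1, 2, 0, 2], [1, 1, 2, 1, 2, 2, 2, 1, 2, 2, 2, 2, 1, 3, 3, 1, 2, 0, 2, 0, 2, 2, 1, 3], [1, 1, 2, 1, 2, 2, 2, 2, 1, 3, 3, 0, 0, 2, 0, 3, 0, 2, 0, 3, 1, 3, 1, 3], [1, 1, 2, 1, 2, 2, 2, 2, 2, 1, 3, 0, 3, 3, 3, 0, 3, 0, 2, 2, 2, 0, 3, 3], [1, 1, 2, 0, 3, 3, 1, 3, 1, 3, 1, 2, 2, 0, 3, 1, 2, 0, 2, 0, 2, 2, 0, 2], [1, 1, 2, 0, 3, 3, 1, 3, 3, 3, 0, 0, 3, 3, 3, 1, 3, 3, 1, 3, 0, 2, 0, 3], [1, 1, 2, 0, 3, 3, 1, 2, 1, 3, 1, 3, 0, 3, 0, 3, 0, 2, 0, 3, 3, 3, 0, 3], [1, 1, 2, 0, 3, 3, 3, 1, 3, 1, 3, 0, 3, 3, 3, 0, 2, 1, 2, 1, 3, 0, 3, 3], [1, 1, 2, 0, 3, 3, 3, 3, 0, 3, 1, 3, 3, 3, 3, 3, 3, 0,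 2, 2, 1, 3, 1, 2], [1, 1, 2, 0, 3, 0, 2, 0, 3, 3, 0, 3, 1, 3, 3, 1, 2, 0, 2, 1, 3, 3, 3, 3], [1, 1, 2, 0, 2, 1, 1, 2, 2, 1, 3, 3, 3, 1, 3, 3, 3, 1, 2, 2, 2, 2, 1, 3], [1, 1, 2, 0, 2, 1, 1, 2, 2, 2, 1, 3, 3, 1, 3, 3, 0, 3, 0, 2, 1, 2, 0, 3], [1, 1, 2, 0, 2, 1, 3, 0, 3, 3, 0, 0, 3, 0, 2, 2, 0, 2, 1, 3, 3, 0, 2, 2], [1, 1, 2, 0, 2, 1, 2, 2, 1, 2, 0, 2, 1, 3, 3, 1, 2, 0, 2, 2, 2, 1, 2, 2], [1, 1, 2, 0, 2, 0, 2, 0, 3, 0, 2, 1, 2, 0, 2, 1, 3, 0, 3, 3, 3, 0, 3, 3], [1, 1, 2, 0, 2, 0, 2, 2, 2, 0, 3, 0, 2, 1, 3, 3, 3, 3, 3, 0, 3, 3, 0, 2], [1, 1, 2, 0, 2, 2, 0, 3, 3, 3, 1, 2, 1, 1, 2, 0, 2, 2, 0, 3, 3, 3, 1, 2], [1, 1, 2, 2, 1, 1, 2, 2, 1, 3, 3, 3, 0, 3, 0,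 2, 0, 3, 3, 0, 2, 2, 1, 2], [1, 1, 2, 2, 1, 3, 1, 1, 2, 2, 2, 0, 3, 1, 1, 2, 2, 0, 2, 1, 3, 1, 3, 3], [1, 1, 2, 2, 1, 2, 2, 1, 3, 0, 2, 2, 1, 2, 0, 2, 2, 1, 2, 1, 2, 0, 3, 3], [1, 1, 2, 2, 0, 3, 3, 3, 3, 3, 1, 2, 2, 2, 2, 2, 1, 3, 3, 3, 1, 3, 1, 2], [1, 1, 2, 2, 0, 2, 2, 2, 2, 1, 2, 0, 2, 1, 3, 1, 3, 0, 3, 3, 1, 2, 0, 2], [1, 1, 2, 2, 2, 1, 3, 3, 1, 3, 3, 0, 3, 1, 3, 3, 1, 3, 3, 1, 3, 3, 3, 3], [1, 1, 2, 2, 2, 1, 3, 3, 3, 3, 0, 0, 2, 2, 0, 2, 1, 3, 3, 3, 0, 3, 0, 2], [1, 1, 2, 2, 2, 0, 2, 2, 1, 3, 3, 3, 0, 2, 1, 3, 3, 0, 3, 1, 2, 1, 2, 2], [1, 1, 2, 2, 2, 2, 0, 2, 1, 2, 0, 2, 0, 3, 1, 3, 0, 3, 3, 3, 1, 3, 1, 3], [1, 1, 2, 2, 2, 2, 2, 0, 3, 3, 1, 2,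 2, 1, 3, 3, 3, 3, 3, 3, 1, 3, 3, 3], [1, 1, 2, 2, 2, 2, 2, 0, 3, 0, 3, 1, 2, 1, 3, 3, 3, 0, 3, 1, 2, 2, 0, 2], [1, 3, 1, 3, 1, 3, 0, 2, 1, 3, 1, 2, 2, 2, 1, 2, 0, 2, 1, 2, 2, 1, 2, 2], [1, 3, 1, 3, 1, 2, 1, 2, 1, 2, 0, 3, 3, 3, 1, 3, 3, 3, 3, 1, 2, 2, 1, 2], [1, 3, 1, 3, 3, 3, 3, 0, 3, 0, 2, 2, 0, 2, 2, 2, 2, 0, 3, 3, 1, 3, 3, 3], [1, 3, 1, 3, 3, 0, 3, 0, 2, 0, 2, 1, 3, 0, 2, 1, 2, 2, 2, 2, 0, 3, 0, 2], [1, 3, 1, 3, 0, 3, 3, 0, 3, 1, 3, 3, 3, 0, 3, 1, 2, 0, 2, 2, 2, 0, 3, 3], [1, 3, 1, 3, 0, 3, 3, 0, 2, 1, 2, 1, 2, 1, 3, 3, 0, 2, 1, 2, 2, 2, 0, 3], [1, 3, 1, 3, 0, 3, 0, 2, 0, 2, 2, 2, 2, 1, 2, 2, 1, 2, 1, 3, 3, 1, 3, 3], [1, 3, 1, 3, 0, 2, 2, 0, 2,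 2, 1, 2, 2, 1, 2, 2, 1, 3, 3, 3, 0, 2, 2, 2], [1, 3, 1, 2, 1, 2, 1, 3, 0, 3, 1, 3, 3, 3, 0, 3, 1, 3, 1, 2, 0, 3, 1, 2], [1, 3, 1, 2, 0, 3, 1, 2, 1, 3, 3, 0, 3, 0, 3, 3, 0, 3, 1, 3, 3, 3, 0, 3], [1, 3, 3, 1, 2, 0, 3, 0, 2, 1, 2, 2, 1, 3, 3, 1, 2, 0, 3, 0, 2, 1, 2, 2], [1, 3, 3, 1, 2, 2, 0, 3, 1, 3, 0, 3, 1, 3, 3, 1, 2, 2, 0, 3, 1, 3, 0, 3], [1, 3, 3, 1, 2, 2, 2, 0, 3, 3, 0, 2, 1, 3, 3, 1, 2, 2, 2, 0, 3, 3, 0, 2], [1, 3, 3, 3, 1, 2, 1, 2, 2, 0, 2, 2, 2, 2, 1, 2, 0, 3, 1, 3, 3, 3, 0, 2], [1, 3, 3, 3, 3, 3, 3, 3, 3, 1, 3, 3, 0, 3, 0, 2, 1, 2, 2, 1, 2, 2, 2, 2], [1, 3, 3, 3, 0, 3, 1, 2, 1, 3, 0, 2, 1, 3, 0, 3, 0, 3, 1, 3, 0, 3, 0, 2], [1, 3, 3, 0, 2, 2,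 1, 2, 1, 3, 3, 0, 2, 2, 1, 2, 1, 3, 3, 0, 2, 2, 1, 2], [2, 2, 2, 2, 2, 2, 2, 2, 2, 2, 2, 2, 2, 2, 2, 2, 2, 2, 2, 2, 2, 2, 2], [4, 4, 4, 4, 4, 4, 4, 4, 4, 4, 4], [4, 0, 5, 2, 2, 1, 1, 1, 3, 3], [4, 1, 5, 2, 2, 0, 0, 0, 3, 3], [4, 3, 3, 3, 3, 1, 2, 2, 1, 2, 5, 2, 0, 2, 1, 3, 1, 3, 0, 0, 0, 2, 0, 3], [4, 3, 0, 3, 3, 0, 2, 2, 2, 2, 5, 2, 1, 3, 1, 1, 1, 2, 0, 2, 0, 3, 1, 3], [4, 3, 0, 2, 1, 1, 2, 0, 2, 1, 3, 1, 2, 5, 2, 1, 3, 1, 3, 1, 1, 2, 2, 2], [4, 3, 0, 2, 0, 3, 1, 3, 0, 0, 3, 1, 2, 5, 3, 3, 3, 0, 0, 2, 0, 2, 0, 3], [4, 2, 2, 0, 0, 0, 2, 1, 2, 2, 5, 1, 3, 3, 3, 0, 3, 1, 2, 1, 3, 1, 1, 1, 3, 1], [4, 3, 3, 0, 3, 1, 1, 1, 3, 3, 5, 0, 2, 0, 0, 0, 2, 0,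 3, 0, 2, 1, 2, 2, 2, 0], [0, 1], [1, 0], [2, 3], [3, 2], [4, 5], [5, 4], [4, 1, 1, 3, 5, 2, 2, 1, 3, 3, 4, 1, 1, 2, 5, 2, 2, 1, 3, 3], [4, 1, 1, 3, 5, 2, 2, 0, 3, 3, 4, 0, 0, 2, 5, 2, 2, 1, 3, 3], [4, 3, 3, 3, 1, 3, 3, 0, 0, 3, 3, 5, 0, 2, 2, 1, 2, 0, 2, 2, 1, 3], [5, 1, 2, 4, 1, 5, 1, 3, 4, 1, 1, 2, 2, 0, 3, 3, 0, 2, 2, 0, 2, 0], [5, 3, 3, 1, 4, 0, 0, 5, 2, 4, 3, 0, 2, 2, 1, 3, 1, 1, 2, 1, 3, 1], [4, 0, 4, 3, 3, 4, 1, 3, 3, 5, 3, 0, 3, 3, 0, 2, 1, 1, 2, 1, 2, 2], [4, 3, 1, 2, 2, 0, 3, 5, 2, 1, 3, 3, 1, 3, 1, 2, 1, 2, 1, 3, 3, 0, 2], [5, 3, 1, 3, 4, 1, 1, 5, 1, 3, 5, 1, 2, 1, 1, 3, 3, 0, 3, 1, 2, 0, 2, 1], [5, 5, 3, 3, 0, 0, 0, 3, 1, 5, 0, 5, 3, 0,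 2, 2, 2, 1, 1, 2, 0, 0, 3], [4, 3, 1, 1, 2, 0, 0, 2, 2, 5, 1, 2, 0, 0, 2, 2, 1, 3, 3, 0, 0, 3, 1, 1, 3, 0], [4, 2, 0, 2, 0, 3, 1, 1, 2, 2, 5, 0, 2, 2, 2, 2, 2, 0, 0, 3, 0, 3, 3, 0, 3, 1], [4, 2, 2, 2, 0, 0, 0, 3, 0, 3, 5, 1, 1, 3, 3, 1, 1, 3, 1, 3, 0, 3, 0, 0, 3, 1], [4, 2, 0, 0, 3, 3, 3, 1, 3, 5, 1, 2, 2, 1, 3, 0, 2, 2, 0, 0, 3, 3, 0, 3], [4, 3, 1, 1, 1, 3, 3, 0, 3, 5, 1, 1, 3, 0, 0, 2, 0, 2, 1, 2, 2, 1, 2, 2, 1], [5, 0, 2, 1, 5, 2, 2, 0, 0, 5, 0, 2, 1, 5, 2, 2, 0, 0], [4, 3, 1, 2, 0, 2, 2, 0, 2, 1, 2, 5, 1, 1, 3, 1, 2, 2, 2, 2, 1, 3, 1, 3, 3], [4, 3, 3, 0, 0, 3, 0, 2, 1, 2, 5, 0, 2, 0, 0, 2, 0, 2, 0, 2, 2, 1, 1, 2, 1, 1], [4, 2, 2, 0, 2, 2, 1, 2,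 1, 3, 5, 0, 0, 2, 1, 1, 1, 2, 0, 3, 3, 1, 3, 1, 2, 1], [4, 2, 0, 3, 1, 2, 2, 2, 1, 2, 5, 1, 3, 3, 0, 2, 0, 2, 1, 3, 1, 3, 0, 2], [4, 3, 0, 0, 3, 1, 1, 1, 2, 2, 1, 2, 0, 2, 2, 5, 0, 0, 3, 0, 3, 0, 2, 2], [4, 2, 2, 2, 2, 1, 3, 0, 2, 2, 5, 0, 0, 2, 1, 3, 3, 0, 2, 2, 2, 1, 3, 0, 3], [4, 3, 1, 3, 1, 2, 2, 0, 3, 3, 3, 5, 0, 3, 0, 2, 1, 2, 0, 2, 2, 0, 0, 2, 0], [4, 2, 0, 2, 1, 1, 1, 2, 1, 3, 0, 3, 3, 5, 1, 3, 3, 1, 2, 1, 1, 2, 0, 3, 0], [4, 2, 1, 1, 2, 0, 0, 2, 0, 2, 5, 3, 0, 3, 1, 3, 0, 2, 2, 0, 2, 2, 1, 3, 1, 2], [4, 3, 3, 0, 3, 3, 1, 1, 1, 2, 5, 2, 0, 0, 2, 0, 0, 3, 3, 0, 2, 2, 2, 1, 1, 2], [4, 3, 0, 2, 0, 2, 0, 2, 0, 3, 3, 5, 2, 0, 0, 0, 2, 2, 1, 2, 2,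 1, 1, 3, 3], [5, 0, 2, 5, 2, 2, 1, 5, 0, 2, 0, 5, 2, 2, 0, 0, 0], [4, 3, 1, 1, 3, 3, 3, 3, 1, 1, 2, 5, 0, 2, 0, 2, 2, 0, 3, 1, 2, 0, 2, 1, 2, 2], [4, 3, 0, 3, 0, 2, 0, 3, 0, 0, 3, 5, 2, 2, 1, 3, 3, 0, 0, 3, 1, 1, 3, 1, 2, 0], [4, 3, 3, 0, 2, 0, 3, 3, 3, 3, 3, 5, 1, 2, 2, 0, 0, 0, 2, 0, 2, 1, 3, 0, 3, 3], [5, 3, 1, 5, 2, 2, 0, 5, 3, 0, 3, 5, 0, 0, 0, 3, 0, 0, 3, 1, 2, 0, 3], [5, 3, 5, 2, 2, 5, 3, 1, 4, 3, 3, 0, 2, 1, 2, 0, 3, 1, 3, 1, 1, 3, 0], [4, 3, 0, 3, 5, 0, 3, 4, 3, 5, 1, 1, 2, 2, 2, 1, 2, 0, 2, 1, 1, 3, 1, 3]]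

/-- the subgroup generator words -/
def subL : List (List ℕ) := [[0], [2]]

/-- the seed relators with twist zero -/
def seedW : List (List ℕ) := [[1, 1, 1, 1, 1, 1, 1], [1, 2, 1, 2, 1, 2, 1, 2, 1, 2], [1, 3, 1, 3, 1, 3, 1, 3, 1, 3, 1, 3, 1, 3], [1, 1, 1, 1, 1, 1, 3, 0, 3, 0, 3, 0, 3, 0, 3], [1, 1, 3, 0, 3, 3, 1, 3, 3, 1, 1, 3, 0, 3, 3, 1, 3, 3], [1, 1, 1, 1, 1, 1, 2, 0, 2, 0, 2, 0, 2, 0, 2, 0, 2, 0, 2], [1, 1, 1, 3, 3, 0, 3, 1, 3, 3, 0, 3, 0, 0, 2, 2, 0, 2, 2], [1, 3, 1, 3, 1, 2, 2, 0, 3, 0, 2, 1, 2, 1, 3, 1, 2, 2, 2], [1, 1, 1, 1, 3, 3, 1, 3, 3, 1, 1, 2, 1, 2, 2, 0, 2, 1, 2, 2], [1, 1, 1, 2, 1, 1, 2, 0, 2, 1, 3, 3, 0, 0, 2, 2, 1, 3, 0, 3], [1, 1,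 1, 2, 0, 3, 1, 1, 2, 2, 1, 1, 1, 2, 0, 3, 1, 1, 2, 2], [1, 1, 1, 2, 2, 1, 1, 3, 3, 3, 3, 0, 0, 3, 1, 2, 0, 2, 1, 2], [1, 1, 3, 3, 0, 2, 1, 1, 2, 2, 0, 2, 1, 2, 0, 2, 2, 2, 1, 2], [1, 3, 3, 3, 1, 3, 3, 3, 1, 3, 3, 3, 1, 3, 3, 3, 1, 3, 3, 3], [1, 1, 1, 1, 1, 2, 2, 0, 2, 2, 1, 2, 0, 0, 2, 2, 0, 2, 2, 1, 2], [1, 1, 1, 1, 3, 3, 0, 0, 2, 1, 3, 0, 0, 0, 3, 3, 0, 0, 2, 1, 3], [1, 1, 1, 1, 3, 0, 3, 1, 3, 0, 2, 1, 1, 2, 2, 2, 2, 0, 0, 3, 3], [1, 1, 1, 1, 2, 1, 2, 0, 3, 3, 1, 1, 2, 2, 0, 3, 1, 3, 0, 0, 3], [1, 1, 1, 3, 1, 1, 2, 0, 3, 3, 0, 2, 0, 2, 2, 0, 3, 3, 1, 2, 2], [1, 1, 1, 3, 3, 0, 3, 1, 3, 1, 2, 1, 2, 1, 2, 0, 2, 2, 0, 2, 2], [1, 1, 1, 2, 1, 2, 0, 2,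 1, 1, 3, 3, 0, 2, 0, 2, 0, 2, 1, 1, 2], [1, 1, 1, 2, 1, 2, 2, 0, 3, 3, 3, 0, 2, 2, 2, 0, 2, 0, 3, 0, 2], [1, 1, 1, 2, 0, 3, 3, 3, 1, 3, 3, 1, 2, 2, 1, 3, 0, 2, 2, 1, 2], [1, 1, 1, 2, 0, 3, 3, 0, 0, 2, 2, 1, 1, 3, 0, 3, 1, 3, 3, 0, 2], [1, 1, 3, 1, 1, 3, 3, 0, 3, 1, 3, 3, 0, 3, 3, 0, 3, 3, 1, 3, 3], [1, 1, 3, 1, 1, 2, 0, 3, 0, 0, 3, 3, 3, 1, 2, 2, 2, 0, 2, 0, 3], [1, 1, 3, 3, 1, 2, 0, 2, 2, 2, 1, 1, 2, 2, 2, 1, 3, 1, 2, 0, 3], [1, 1, 3, 3, 3, 0, 2, 2, 0, 3, 3, 3, 3, 3, 3, 0, 2, 0, 2, 2, 2], [1, 1, 3, 3, 3, 0, 2, 2, 2, 1, 3, 1, 3, 1, 3, 1, 1, 3, 3, 0, 3], [1, 1, 3, 3, 3, 0, 2, 2, 2, 2, 0, 2, 0, 2, 0, 2, 1, 3, 3, 0, 3], [1, 1, 3, 0, 3, 3, 0, 0, 3, 0,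 0, 2, 1, 3, 3, 3, 3, 0, 2, 0, 3], [1, 1, 3, 0, 3, 0, 2, 2, 0, 3, 1, 2, 2, 2, 0, 2, 2, 0, 3, 1, 3], [1, 1, 3, 0, 0, 2, 2, 2, 2, 2, 2, 1, 3, 1, 2, 0, 3, 3, 0, 2, 2], [1, 1, 2, 1, 3, 3, 0, 2, 0, 2, 0, 3, 3, 3, 0, 2, 2, 1, 2, 1, 2], [1, 1, 2, 0, 3, 3, 1, 2, 1, 3, 0, 3, 1, 2, 1, 3, 1, 3, 3, 3, 3], [1, 1, 1, 1, 1, 2, 2, 0, 2, 2, 1, 1, 1, 3, 3, 0, 3, 1, 3, 3, 0, 3], [1, 1, 1, 1, 3, 1, 2, 1, 3, 1, 3, 3, 3, 1, 2, 2, 2, 1, 3, 3, 0, 3], [1, 1, 1, 1, 3, 1, 2, 2, 0, 2, 1, 2, 0, 0, 3, 3, 1, 1, 2, 2, 1, 3], [1, 1, 1, 1, 3, 3, 1, 3, 3, 1, 3, 0, 3, 0, 3, 0, 2, 0, 2, 1, 2, 2], [1, 1, 1, 1, 3, 3, 0, 0, 2, 1, 3, 1, 1, 1, 1, 3, 3, 0, 0, 2, 1, 3], [1, 1, 1, 1, 3, 3, 0,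 2, 2, 1, 3, 3, 1, 3, 1, 2, 2, 1, 3, 0, 0, 2], [1, 1, 1, 1, 3, 0, 3, 3, 1, 2, 0, 3, 3, 0, 2, 2, 0, 2, 2, 2, 1, 3], [1, 1, 1, 1, 3, 0, 0, 3, 1, 3, 1, 3, 1, 2, 2, 0, 0, 3, 1, 3, 0, 3], [1, 1, 1, 3, 1, 3, 3, 3, 0, 2, 1, 3, 0, 0, 0, 2, 2, 2, 0, 2, 0, 3], [1, 1, 1, 3, 1, 3, 0, 3, 1, 1, 2, 0, 2, 2, 0, 2, 2, 2, 2, 0, 0, 2], [1, 1, 1, 3, 1, 2, 1, 3, 3, 1, 2, 0, 2, 2, 2, 1, 3, 3, 3, 0, 0, 2], [1, 1, 1, 3, 1, 2, 1, 3, 3, 3, 1, 2, 0, 0, 3, 0, 0, 3, 1, 2, 0, 3], [1, 1, 1, 3, 1, 2, 0, 0, 0, 2, 1, 3, 1, 2, 2, 1, 1, 3, 1, 1, 2, 2], [1, 1, 1, 3, 3, 3, 1, 3, 3, 1, 2, 0, 0, 3, 3, 3, 0, 3, 0, 0, 0, 3], [1, 1, 1, 3, 3, 3, 1, 3, 3, 3, 0, 0, 0, 3, 0, 2, 2, 2, 1, 1, 3, 3],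 [1, 1, 1, 3, 3, 3, 0, 0, 2, 2, 1, 1, 2, 0, 3, 3, 1, 2, 2, 0, 0, 3], [1, 1, 1, 3, 3, 0, 3, 3, 1, 1, 1, 2, 1, 1, 2, 1, 2, 2, 0, 0, 0, 2], [1, 1, 1, 3, 3, 0, 2, 0, 3, 0, 2, 1, 3, 0, 0, 2, 1, 3, 3, 0, 0, 3], [1, 1, 1, 3, 0, 3, 0, 0, 0, 3, 3, 1, 3, 1, 2, 1, 1, 2, 1, 2, 2, 2], [1, 1, 1, 3, 0, 3, 0, 2, 0, 2, 2, 1, 2, 1, 3, 3, 3, 3, 1, 2, 1, 2], [1, 1, 1, 3, 0, 0, 0, 3, 1, 3, 3, 0, 3, 1, 2, 0, 3, 0, 0, 2, 1, 3], [1, 1, 1, 3, 0, 0, 2, 2, 2, 2, 2, 0, 3, 0, 3, 1, 1, 2, 0, 3, 3, 3], [1, 1, 1, 3, 0, 2, 1, 1, 3, 0, 3, 3, 3, 3, 3, 3, 3, 0, 3, 1, 1, 2], [1, 1, 1, 3, 0, 2, 1, 2, 2, 2, 1, 1, 2, 1, 2, 0, 3, 3, 3, 0, 3, 3], [1, 1, 1, 2, 1, 1, 3, 1, 2, 2, 2, 1, 1, 1, 2,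 1, 1, 3, 1, 2, 2, 2], [1, 1, 1, 2, 1, 2, 1, 2, 1, 3, 1, 3, 3, 1, 1, 3, 0, 3, 3, 1, 3, 3], [1, 1, 1, 2, 0, 3, 3, 0, 3, 1, 2, 1, 1, 2, 0, 2, 2, 1, 1, 2, 0, 3], [1, 1, 1, 2, 0, 3, 0, 0, 3, 1, 2, 1, 1, 1, 2, 0, 3, 0, 0, 3, 1, 2], [1, 1, 1, 2, 2, 1, 2, 0, 3, 3, 1, 1, 2, 1, 2, 2, 1, 3, 0, 2, 0, 3], [1, 1, 3, 1, 1, 3, 1, 3, 1, 1, 3, 3, 1, 1, 2, 1, 1, 2, 2, 2, 2, 2], [1, 1, 3, 1, 1, 3, 1, 3, 0, 3, 1, 1, 2, 1, 1, 2, 1, 3, 0, 2, 1, 2], [1, 1, 3, 1, 1, 2, 1, 2, 0, 0, 3, 3, 3, 0, 2, 2, 0, 2, 2, 2, 2, 2], [1, 1, 3, 1, 3, 1, 3, 1, 3, 1, 3, 1, 3, 1, 1, 2, 1, 2, 1, 2, 1, 2], [1, 1, 3, 1, 3, 3, 1, 2, 1, 1, 2, 2, 0, 3, 3, 0, 3, 1, 1, 3, 3, 3], [1, 1, 3, 1, 3, 3, 0,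 0, 3, 3, 1, 3, 1, 2, 2, 1, 2, 1, 3, 1, 1, 2], [1, 1, 3, 1, 3, 0, 0, 3, 1, 3, 3, 0, 2, 1, 1, 3, 3, 3, 1, 1, 3, 3], [1, 1, 3, 1, 2, 2, 2, 0, 2, 1, 2, 1, 1, 2, 2, 1, 1, 2, 0, 2, 1, 3], [1, 1, 3, 3, 1, 3, 3, 1, 3, 3, 3, 3, 3, 1, 3, 0, 0, 2, 1, 3, 0, 3], [1, 1, 3, 3, 1, 2, 0, 3, 3, 1, 3, 3, 0, 2, 0, 2, 1, 1, 3, 3, 0, 2], [1, 1, 3, 3, 1, 2, 2, 2, 1, 2, 0, 0, 3, 0, 2, 0, 3, 0, 0, 2, 0, 2], [1, 1, 3, 3, 3, 3, 3, 0, 2, 0, 3, 3, 1, 2, 2, 0, 3, 3, 3, 0, 2, 2], [1, 1, 3, 3, 3, 3, 0, 0, 3, 1, 2, 0, 0, 3, 0, 3, 0, 3, 1, 1, 2, 2], [1, 1, 3, 0, 3, 0, 2, 0, 2, 2, 1, 2, 1, 3, 3, 3, 3, 3, 0, 3, 0, 3], [1, 1, 3, 0, 2, 0, 3, 1, 3, 3, 0, 2, 2, 2, 1, 2, 0, 3, 3, 0, 3, 3],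 [1, 1, 3, 0, 2, 0, 3, 3, 3, 0, 3, 1, 1, 3, 0, 2, 0, 3, 3, 3, 0, 3], [1, 1, 2, 1, 3, 0, 3, 1, 1, 2, 2, 2, 1, 1, 2, 2, 0, 3, 3, 3, 0, 2], [1, 1, 2, 1, 2, 2, 0, 3, 3, 3, 0, 3, 1, 1, 2, 0, 3, 3, 1, 2, 1, 3], [1, 1, 2, 1, 2, 2, 0, 2, 0, 3, 0, 3, 3, 0, 2, 2, 2, 2, 0, 2, 2, 2], [1, 1, 2, 1, 2, 2, 2, 1, 2, 0, 2, 1, 1, 2, 1, 2, 2, 2, 1, 2, 0, 2], [1, 1, 2, 2, 1, 1, 2, 2, 1, 2, 0, 3, 3, 3, 3, 0, 2, 1, 2, 0, 2, 2], [1, 1, 2, 2, 1, 2, 0, 2, 0, 2, 1, 3, 3, 3, 0, 3, 1, 2, 2, 2, 1, 2], [1, 1, 2, 2, 0, 3, 0, 2, 1, 3, 0, 2, 2, 0, 2, 2, 2, 0, 3, 3, 1, 3], [1, 1, 2, 2, 0, 2, 1, 3, 1, 3, 1, 1, 2, 2, 2, 2, 0, 3, 1, 2, 0, 2], [1, 1, 2, 2, 0, 2, 1, 2, 0, 2, 2, 0, 3, 0, 3,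 0, 3, 1, 3, 3, 0, 2], [1, 3, 1, 3, 0, 3, 1, 3, 1, 2, 1, 3, 0, 2, 0, 3, 0, 3, 0, 2, 2, 2], [1, 3, 1, 3, 0, 3, 1, 3, 1, 2, 1, 3, 0, 2, 2, 1, 2, 1, 2, 2, 2, 2], [1, 3, 1, 2, 2, 1, 2, 2, 2, 2, 2, 1, 3, 1, 2, 2, 1, 2, 2, 2, 2, 2], [1, 1, 1, 1, 1, 1, 3, 3, 1, 3, 3, 1, 1, 3, 0, 3, 3, 1, 3, 3, 1, 1, 3], [1, 1, 1, 1, 1, 1, 2, 2, 1, 2, 0, 0, 2, 2, 0, 2, 2, 1, 2, 0, 0, 2, 2], [1, 1, 1, 1, 1, 3, 1, 2, 0, 2, 1, 2, 1, 1, 1, 2, 2, 1, 1, 3, 3, 3, 3], [1, 1, 1, 1, 1, 3, 1, 2, 2, 0, 0, 3, 0, 3, 3, 3, 1, 3, 0, 3, 1, 3, 3], [1, 1, 1, 1, 1, 3, 3, 0, 0, 0, 3, 0, 3, 1, 3, 0, 2, 1, 1, 2, 2, 2, 2], [1, 1, 1, 1, 1, 3, 0, 3, 3, 3, 1, 3, 0, 3, 1, 3, 3, 0, 0, 3, 1, 2, 2], [1,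 1, 1, 1, 1, 3, 0, 0, 0, 2, 1, 2, 0, 3, 3, 1, 1, 2, 2, 0, 3, 1, 3], [1, 1, 1, 1, 1, 2, 1, 3, 0, 0, 0, 3, 3, 0, 0, 2, 1, 3, 0, 0, 0, 3, 3], [1, 1, 1, 1, 1, 2, 2, 1, 3, 0, 3, 1, 1, 1, 2, 1, 1, 2, 0, 2, 1, 3, 3], [1, 1, 1, 1, 1, 2, 2, 0, 2, 2, 0, 0, 0, 0, 3, 3, 0, 3, 1, 3, 3, 0, 3], [1, 1, 1, 1, 3, 1, 1, 1, 3, 3, 3, 1, 3, 3, 1, 2, 0, 0, 3, 3, 3, 0, 3], [1, 1, 1, 1, 3, 1, 1, 1, 3, 3, 0, 3, 0, 0, 3, 0, 0, 0, 2, 2, 1, 2, 2], [1, 1, 1, 1, 3, 1, 1, 3, 3, 3, 3, 1, 3, 3, 1, 3, 0, 0, 2, 1, 2, 0, 2], [1, 1, 1, 1, 3, 1, 1, 2, 2, 2, 0, 3, 3, 3, 1, 3, 0, 2, 2, 0, 3, 0, 2], [1, 1, 1, 1, 3, 1, 3, 3, 0, 3, 1, 2, 0, 3, 0, 0, 2, 1, 3, 1, 1, 1, 3], [1, 1, 1, 1, 3, 3, 1,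 3, 1, 2, 1, 1, 2, 1, 2, 2, 2, 1, 1, 1, 3, 0, 3], [1, 1, 1, 1, 3, 3, 3, 0, 3, 0, 0, 3, 0, 2, 0, 2, 2, 1, 1, 1, 2, 1, 2], [1, 1, 1, 1, 3, 3, 3, 0, 2, 0, 0, 3, 0, 0, 0, 3, 3, 3, 0, 2, 0, 0, 3], [1, 1, 1, 1, 3, 3, 0, 0, 2, 0, 0, 3, 3, 0, 2, 0, 3, 1, 1, 1, 3, 0, 2], [1, 1, 1, 1, 3, 0, 3, 0, 2, 2, 2, 2, 0, 3, 0, 3, 3, 1, 3, 1, 2, 1, 2], [1, 1, 1, 1, 3, 0, 0, 2, 1, 2, 2, 2, 2, 2, 2, 2, 1, 2, 0, 0, 3, 1, 2], [1, 1, 1, 1, 3, 0, 2, 1, 1, 2, 1, 3, 0, 0, 0, 3, 0, 2, 1, 1, 2, 1, 3], [1, 1, 1, 1, 3, 0, 2, 2, 2, 1, 1, 3, 3, 1, 1, 1, 3, 3, 3, 1, 3, 3, 3], [1, 1, 1, 1, 2, 1, 1, 1, 3, 3, 0, 3, 3, 1, 1, 1, 2, 1, 1, 2, 1, 2, 2], [1, 1, 1, 1, 2, 1, 1, 1, 2, 1, 2, 2, 2,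 1, 1, 3, 0, 2, 2, 0, 2, 2, 2], [1, 1, 1, 1, 2, 1, 1, 3, 3, 0, 2, 2, 1, 3, 0, 0, 3, 3, 1, 1, 2, 2, 2], [1, 1, 1, 1, 2, 1, 1, 2, 2, 0, 3, 1, 1, 2, 0, 3, 1, 2, 1, 3, 1, 2, 2], [1, 1, 1, 1, 2, 1, 3, 1, 3, 3, 3, 1, 1, 1, 2, 0, 3, 1, 2, 2, 2, 0, 2], [1, 1, 1, 1, 2, 1, 3, 1, 2, 0, 3, 3, 0, 3, 0, 0, 2, 2, 1, 3, 0, 3, 3], [1, 1, 1, 1, 2, 1, 3, 1, 2, 2, 1, 1, 3, 1, 1, 2, 2, 1, 1, 1, 3, 1, 2], [1, 1, 1, 1, 2, 1, 3, 0, 0, 3, 3, 1, 3, 0, 0, 3, 0, 2, 1, 2, 2, 1, 3], [1, 1, 1, 1, 2, 1, 3, 0, 2, 1, 1, 2, 1, 1, 3, 0, 2, 2, 2, 0, 3, 0, 2], [1, 1, 1, 1, 2, 0, 3, 1, 1, 2, 1, 3, 0, 2, 1, 2, 2, 0, 2, 1, 1, 1, 2], [1, 1, 1, 1, 2, 2, 1, 2, 2, 0, 0, 0, 3, 1, 1, 1, 3, 3, 0,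 3, 0, 0, 3], [1, 1, 1, 1, 2, 2, 1, 2, 2, 2, 1, 3, 0, 3, 0, 0, 3, 3, 3, 0, 3, 1, 2], [1, 1, 1, 1, 2, 2, 0, 0, 3, 3, 3, 1, 2, 1, 1, 1, 2, 2, 2, 0, 2, 2, 2], [1, 1, 1, 1, 2, 2, 0, 2, 2, 1, 2, 0, 0, 2, 2, 0, 2, 0, 3, 0, 3, 0, 3], [1, 1, 1, 1, 2, 2, 2, 1, 3, 0, 0, 2, 1, 2, 1, 3, 3, 3, 3, 3, 1, 1, 2], [1, 1, 1, 1, 2, 2, 2, 0, 2, 0, 3, 1, 1, 1, 3, 1, 3, 3, 3, 0, 2, 1, 3], [1, 1, 1, 3, 1, 1, 1, 3, 0, 0, 3, 1, 2, 2, 1, 1, 2, 1, 3, 0, 3, 3, 3], [1, 1, 1, 3, 1, 1, 3, 3, 1, 3, 3, 0, 3, 1, 1, 3, 1, 1, 1, 3, 3, 1, 3], [1, 1, 1, 3, 1, 1, 3, 3, 0, 3, 3, 3, 0, 3, 3, 3, 1, 3, 0, 2, 0, 0, 2], [1, 1, 1, 3, 1, 1, 3, 3, 0, 0, 3, 0, 0, 2, 2, 1, 2, 0, 2, 2, 0, 3, 3], [1,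 1, 1, 3, 1, 1, 2, 1, 1, 3, 0, 3, 3, 3, 1, 3, 3, 3, 0, 0, 3, 3, 3], [1, 1, 1, 3, 1, 1, 2, 1, 3, 3, 3, 1, 1, 3, 3, 0, 2, 1, 3, 0, 0, 2, 2], [1, 1, 1, 3, 1, 1, 2, 2, 1, 2, 0, 3, 0, 3, 3, 1, 1, 1, 3, 0, 3, 1, 2], [1, 1, 1, 3, 1, 1, 2, 2, 0, 3, 1, 3, 0, 3, 3, 1, 2, 1, 1, 2, 2, 2, 2], [1, 1, 1, 3, 1, 1, 2, 2, 2, 0, 2, 2, 2, 2, 2, 1, 2, 1, 1, 1, 2, 2, 2], [1, 1, 1, 3, 1, 3, 1, 1, 2, 2, 2, 1, 1, 1, 2, 2, 1, 3, 0, 0, 3, 0, 3], [1, 1, 1, 3, 1, 3, 3, 1, 2, 2, 0, 0, 2, 2, 1, 3, 3, 0, 3, 1, 2, 0, 3], [1, 1, 1, 3, 1, 3, 3, 3, 1, 1, 3, 3, 3, 0, 0, 3, 1, 1, 1, 3, 0, 2, 2], [1, 1, 1, 3, 1, 3, 3, 3, 1, 3, 1, 3, 1, 2, 1, 2, 2, 1, 3, 0, 0, 3, 3], [1, 1, 1, 3, 1, 3, 3,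 3, 1, 2, 2, 2, 2, 2, 1, 3, 0, 3, 3, 1, 3, 0, 3], [1, 1, 1, 3, 1, 3, 3, 3, 3, 0, 2, 0, 3, 3, 3, 3, 3, 3, 0, 3, 3, 0, 2], [1, 1, 1, 3, 1, 2, 1, 3, 0, 0, 3, 0, 3, 3, 0, 0, 3, 1, 2, 0, 3, 0, 2], [1, 1, 1, 3, 1, 2, 1, 2, 1, 3, 3, 1, 3, 1, 2, 0, 3, 3, 1, 3, 0, 3, 3], [1, 1, 1, 3, 1, 2, 1, 2, 1, 2, 1, 1, 3, 3, 0, 3, 0, 0, 2, 2, 0, 2, 2], [1, 1, 1, 3, 1, 2, 0, 3, 0, 0, 2, 1, 2, 0, 3, 3, 3, 0, 0, 2, 0, 3, 3], [1, 1, 1, 3, 1, 2, 0, 2, 1, 3, 0, 2, 0, 3, 3, 3, 0, 3, 3, 3, 0, 0, 2], [1, 1, 1, 3, 3, 1, 1, 2, 2, 2, 2, 1, 3, 3, 0, 2, 1, 1, 2, 0, 3, 0, 2], [1, 1, 1, 3, 3, 1, 3, 1, 1, 2, 0, 2, 2, 2, 2, 1, 2, 2, 1, 1, 2, 1, 2], [1, 1, 1, 3, 3, 1, 3, 1, 3, 0, 3, 0, 0,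 2, 0, 0, 2, 1, 1, 2, 1, 2, 2], [1, 1, 1, 3, 3, 1, 3, 3, 1, 3, 0, 0, 2, 2, 1, 1, 3, 3, 3, 1, 2, 0, 3], [1, 1, 1, 3, 3, 1, 3, 3, 0, 3, 1, 3, 0, 3, 3, 3, 3, 1, 3, 1, 1, 2, 2], [1, 1, 1, 3, 3, 1, 3, 0, 3, 3, 1, 2, 0, 3, 3, 0, 0, 3, 1, 3, 0, 0, 3], [1, 1, 1, 3, 3, 1, 2, 1, 3, 3, 1, 3, 1, 2, 1, 2, 1, 1, 2, 0, 0, 3, 3], [1, 1, 1, 3, 3, 1, 2, 1, 3, 3, 1, 3, 3, 0, 3, 0, 3, 1, 2, 0, 0, 3, 3], [1, 1, 1, 3, 3, 1, 2, 2, 0, 3, 1, 1, 2, 2, 1, 3, 3, 0, 2, 2, 1, 3, 3], [1, 1, 1, 3, 3, 1, 2, 2, 0, 3, 3, 3, 1, 2, 2, 1, 1, 1, 2, 0, 2, 1, 3], [1, 1, 1, 3, 3, 3, 3, 3, 3, 1, 3, 3, 0, 3, 1, 2, 1, 2, 2, 0, 0, 3, 3], [1, 1, 1, 3, 3, 3, 0, 3, 0, 0, 3, 0, 2, 0, 2, 2, 1, 1, 3,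 0, 3, 0, 3], [1, 1, 1, 3, 3, 3, 0, 3, 0, 2, 1, 3, 0, 0, 2, 2, 1, 3, 1, 2, 2, 0, 2], [1, 1, 1, 3, 3, 3, 0, 2, 0, 2, 1, 2, 0, 3, 0, 3, 1, 1, 2, 1, 2, 0, 3], [1, 1, 1, 3, 3, 0, 3, 3, 0, 0, 3, 1, 1, 2, 1, 2, 0, 2, 0, 2, 2, 1, 2], [1, 1, 1, 3, 3, 0, 3, 0, 3, 3, 3, 1, 3, 1, 2, 0, 3, 3, 1, 3, 0, 3, 3], [1, 1, 1, 3, 3, 0, 0, 0, 2, 0, 3, 3, 3, 1, 3, 3, 0, 3, 1, 3, 0, 0, 3], [1, 1, 1, 3, 3, 0, 2, 0, 0, 2, 2, 1, 3, 0, 2, 0, 0, 2, 1, 1, 2, 0, 3], [1, 1, 1, 3, 3, 0, 2, 2, 1, 1, 2, 2, 2, 1, 1, 3, 3, 0, 2, 2, 0, 0, 2], [1, 1, 1, 3, 0, 3, 1, 1, 3, 1, 1, 2, 1, 3, 1, 3, 3, 3, 1, 1, 2, 0, 2], [1, 1, 1, 3, 0, 3, 3, 1, 1, 3, 3, 1, 3, 1, 3, 1, 2, 0, 3, 3, 3, 0, 2], [1,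 1, 1, 3, 0, 3, 3, 3, 3, 1, 2, 2, 0, 3, 0, 0, 2, 1, 3, 0, 3, 0, 2], [1, 1, 1, 3, 0, 3, 0, 3, 0, 0, 3, 3, 1, 1, 2, 2, 0, 3, 1, 3, 0, 0, 3], [1, 1, 1, 3, 0, 3, 0, 0, 3, 0, 3, 3, 3, 1, 2, 2, 1, 2, 1, 1, 3, 0, 2], [1, 1, 1, 3, 0, 3, 0, 0, 0, 3, 1, 3, 0, 0, 0, 3, 1, 3, 3, 0, 0, 0, 3], [1, 1, 1, 3, 0, 3, 0, 2, 2, 2, 2, 0, 3, 0, 3, 3, 1, 3, 3, 0, 3, 0, 3], [1, 1, 1, 3, 0, 2, 1, 1, 2, 1, 1, 3, 1, 2, 1, 2, 0, 3, 1, 3, 0, 3, 3], [1, 1, 1, 3, 0, 2, 0, 3, 0, 3, 3, 0, 2, 0, 3, 0, 2, 2, 2, 2, 0, 0, 3], [1, 1, 1, 3, 0, 2, 0, 0, 3, 3, 3, 1, 2, 1, 2, 0, 2, 1, 1, 1, 2, 2, 2], [1, 1, 1, 3, 0, 2, 0, 0, 2, 1, 3, 1, 2, 1, 2, 0, 0, 3, 0, 0, 3, 0, 2], [1, 1, 1, 3, 0, 2, 2,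 1, 3, 3, 0, 2, 1, 3, 3, 0, 0, 3, 3, 0, 2, 0, 2], [1, 1, 1, 3, 0, 2, 2, 0, 3, 1, 2, 1, 2, 2, 2, 0, 3, 0, 0, 3, 0, 0, 2], [1, 1, 1, 3, 0, 2, 2, 2, 1, 2, 2, 2, 2, 0, 3, 0, 0, 2, 1, 1, 1, 2, 2], [1, 1, 1, 2, 1, 1, 1, 2, 1, 2, 0, 2, 1, 1, 3, 3, 3, 1, 3, 1, 3, 1, 3], [1, 1, 1, 2, 1, 1, 1, 2, 2, 1, 1, 2, 1, 3, 0, 3, 0, 2, 0, 0, 3, 3, 3], [1, 1, 1, 2, 1, 3, 1, 2, 1, 3, 3, 1, 2, 2, 2, 1, 1, 3, 3, 1, 2, 0, 3], [1, 1, 1, 2, 1, 3, 3, 1, 3, 0, 3, 1, 3, 3, 1, 2, 0, 3, 3, 0, 0, 2, 2], [1, 1, 1, 2, 1, 3, 3, 1, 2, 1, 1, 2, 2, 2, 2, 1, 1, 1, 2, 1, 3, 0, 3], [1, 1, 1, 2, 1, 3, 3, 3, 1, 3, 3, 0, 2, 0, 2, 1, 3, 1, 1, 3, 3, 1, 2], [1, 1, 1, 2, 1, 2, 1, 2, 2, 2, 0, 3, 1,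 2, 2, 2, 0, 2, 2, 0, 3, 1, 3], [1, 1, 1, 2, 1, 2, 0, 3, 3, 1, 3, 3, 1, 1, 1, 2, 0, 3, 0, 2, 2, 2, 2], [1, 1, 1, 2, 1, 2, 0, 3, 3, 0, 3, 1, 3, 0, 2, 1, 2, 2, 0, 3, 0, 2, 2], [1, 1, 1, 2, 1, 2, 0, 2, 1, 3, 1, 1, 3, 0, 0, 3, 0, 3, 3, 0, 2, 0, 2], [1, 1, 1, 2, 1, 2, 2, 1, 1, 3, 1, 1, 2, 1, 3, 3, 3, 0, 2, 0, 2, 0, 3], [1, 1, 1, 2, 0, 3, 1, 3, 3, 3, 3, 3, 3, 0, 0, 2, 1, 2, 1, 1, 2, 1, 3], [1, 1, 1, 2, 0, 3, 3, 3, 3, 3, 1, 2, 1, 2, 2, 0, 3, 0, 3, 0, 0, 3, 3], [1, 1, 1, 2, 0, 3, 3, 3, 3, 3, 1, 2, 1, 2, 2, 2, 1, 2, 1, 2, 0, 3, 3], [1, 1, 1, 2, 0, 3, 3, 0, 3, 1, 3, 3, 1, 3, 3, 3, 0, 3, 0, 2, 2, 0, 2], [1, 1, 1, 2, 0, 0, 2, 2, 1, 2, 2, 2, 0, 2, 1, 2, 2, 0, 0,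 2, 2, 2, 2], [1, 1, 1, 2, 0, 2, 1, 3, 0, 3, 1, 2, 0, 2, 1, 2, 0, 3, 3, 0, 3, 1, 3], [1, 1, 1, 2, 0, 2, 1, 3, 0, 0, 3, 3, 1, 1, 3, 1, 1, 2, 2, 0, 2, 0, 3], [1, 1, 1, 2, 0, 2, 2, 1, 1, 3, 1, 2, 1, 3, 0, 3, 3, 3, 0, 2, 2, 2, 2], [1, 1, 1, 2, 2, 1, 3, 1, 2, 0, 0, 2, 0, 2, 2, 2, 0, 3, 3, 1, 3, 0, 3], [1, 1, 1, 2, 2, 1, 2, 0, 2, 2, 2, 2, 2, 0, 2, 1, 1, 3, 1, 1, 3, 1, 2], [1, 1, 1, 2, 2, 1, 2, 2, 0, 0, 3, 3, 1, 1, 2, 0, 3, 1, 3, 3, 0, 2, 2], [1, 1, 1, 2, 2, 0, 3, 1, 2, 0, 0, 3, 3, 1, 1, 3, 0, 2, 0, 2, 2, 1, 2], [1, 1, 1, 2, 2, 0, 2, 1, 2, 2, 0, 3, 1, 3, 1, 1, 2, 1, 3, 1, 1, 2, 2], [1, 1, 1, 2, 2, 2, 1, 1, 2, 1, 3, 3, 1, 1, 2, 0, 3, 0, 0, 3, 3, 1, 3], [1,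 1, 1, 2, 2, 2, 1, 3, 1, 2, 2, 2, 2, 2, 0, 0, 2, 0, 2, 0, 3, 0, 2], [1, 1, 1, 2, 2, 2, 2, 0, 2, 0, 2, 0, 3, 1, 1, 3, 3, 0, 3, 0, 2, 1, 3], [1, 1, 3, 1, 1, 3, 3, 1, 1, 2, 1, 2, 2, 1, 3, 3, 1, 2, 0, 3, 3, 0, 3], [1, 1, 3, 1, 1, 3, 3, 1, 3, 3, 3, 3, 1, 3, 3, 0, 2, 1, 3, 0, 2, 0, 2], [1, 1, 3, 1, 1, 3, 3, 0, 2, 0, 2, 0, 0, 2, 0, 3, 3, 0, 2, 1, 2, 1, 3], [1, 1, 3, 1, 1, 2, 1, 1, 3, 0, 3, 1, 3, 0, 0, 2, 1, 3, 1, 2, 0, 2, 2], [1, 1, 3, 1, 1, 2, 1, 3, 0, 0, 2, 2, 2, 1, 1, 3, 3, 0, 0, 3, 0, 0, 2], [1, 1, 3, 1, 3, 3, 1, 1, 3, 1, 2, 0, 0, 3, 3, 3, 0, 2, 0, 2, 0, 2, 2], [1, 1, 3, 1, 3, 3, 1, 3, 3, 0, 2, 2, 2, 0, 2, 2, 2, 0, 3, 1, 2, 0, 2], [1, 1, 3, 1, 3, 3, 1,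 2, 2, 1, 3, 1, 1, 2, 0, 2, 1, 1, 2, 1, 2, 0, 2], [1, 1, 3, 1, 3, 3, 3, 0, 2, 0, 2, 1, 1, 3, 1, 2, 0, 0, 3, 1, 2, 0, 3], [1, 1, 3, 1, 3, 3, 0, 3, 1, 1, 2, 1, 2, 0, 3, 1, 3, 0, 3, 1, 3, 3, 3], [1, 1, 3, 1, 3, 3, 0, 0, 2, 0, 2, 2, 2, 0, 3, 1, 2, 2, 1, 3, 0, 2, 2], [1, 1, 3, 1, 3, 0, 3, 1, 3, 1, 2, 0, 2, 2, 1, 3, 3, 1, 1, 2, 0, 0, 3], [1, 1, 3, 1, 3, 0, 2, 2, 1, 1, 3, 0, 2, 1, 3, 1, 1, 2, 1, 2, 0, 3, 3], [1, 1, 3, 1, 2, 1, 1, 3, 1, 2, 0, 2, 1, 2, 1, 3, 0, 3, 1, 2, 0, 3, 3], [1, 1, 3, 1, 2, 1, 2, 0, 3, 1, 2, 2, 1, 3, 0, 3, 0, 0, 3, 3, 3, 1, 2], [1, 1, 3, 1, 2, 0, 2, 0, 2, 2, 2, 1, 1, 2, 2, 1, 2, 2, 1, 2, 1, 3, 3], [1, 1, 3, 1, 2, 2, 1, 1, 2, 2, 1, 3, 3,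 0, 0, 3, 3, 3, 1, 3, 0, 0, 2], [1, 1, 3, 1, 2, 2, 2, 1, 2, 2, 2, 2, 0, 2, 0, 2, 0, 3, 3, 1, 1, 3, 3], [1, 1, 3, 1, 2, 2, 2, 2, 0, 2, 1, 3, 3, 3, 3, 1, 2, 1, 2, 2, 0, 3, 3], [1, 1, 3, 3, 1, 1, 3, 3, 3, 1, 1, 3, 0, 0, 3, 3, 3, 1, 2, 2, 0, 3, 3], [1, 1, 3, 3, 1, 1, 3, 3, 0, 0, 2, 0, 2, 1, 3, 1, 3, 1, 1, 3, 3, 1, 2], [1, 1, 3, 3, 1, 1, 2, 1, 2, 0, 2, 1, 2, 2, 0, 0, 2, 1, 3, 0, 2, 1, 3], [1, 1, 3, 3, 1, 3, 1, 1, 2, 0, 2, 2, 2, 2, 1, 2, 2, 1, 3, 0, 3, 0, 3], [1, 1, 3, 3, 1, 3, 3, 3, 3, 1, 2, 0, 2, 1, 1, 2, 0, 0, 2, 1, 2, 0, 3], [1, 1, 3, 3, 1, 3, 3, 3, 0, 2, 0, 3, 3, 3, 1, 2, 1, 1, 2, 2, 0, 0, 2], [1, 1, 3, 3, 1, 3, 0, 2, 0, 2, 1, 2, 2, 0, 3, 1, 2, 0, 2,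 1, 3, 0, 2], [1, 1, 3, 3, 3, 1, 3, 3, 3, 1, 3, 0, 3, 0, 0, 3, 0, 2, 2, 2, 0, 2, 2], [1, 1, 3, 3, 3, 1, 2, 0, 3, 0, 3, 3, 0, 3, 1, 3, 1, 2, 1, 2, 0, 2, 2], [1, 1, 3, 3, 3, 1, 2, 0, 3, 0, 2, 1, 3, 1, 2, 2, 1, 2, 1, 3, 3, 3, 3], [1, 1, 3, 3, 3, 1, 2, 2, 0, 3, 3, 3, 3, 0, 3, 3, 0, 2, 1, 2, 0, 3, 3], [1, 1, 3, 3, 3, 1, 2, 2, 0, 0, 3, 3, 3, 1, 1, 2, 2, 2, 0, 0, 3, 1, 3], [1, 1, 3, 3, 3, 0, 3, 3, 3, 1, 3, 1, 2, 0, 3, 1, 1, 3, 0, 0, 3, 3, 3], [1, 1, 3, 3, 0, 2, 0, 3, 0, 2, 2, 2, 0, 3, 1, 3, 1, 2, 2, 0, 2, 0, 3], [1, 1, 3, 3, 0, 2, 0, 2, 0, 2, 1, 1, 2, 1, 1, 3, 0, 3, 0, 3, 0, 0, 2], [1, 1, 3, 3, 0, 2, 2, 2, 1, 3, 3, 3, 1, 2, 0, 0, 3, 0, 2, 2, 0, 3, 3], [1,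 1, 3, 0, 3, 1, 3, 3, 3, 1, 1, 3, 0, 3, 3, 3, 3, 3, 1, 3, 0, 0, 3], [1, 1, 3, 0, 3, 1, 3, 0, 2, 0, 3, 3, 3, 3, 3, 1, 3, 0, 3, 0, 0, 3, 3], [1, 1, 3, 0, 3, 1, 2, 0, 3, 1, 2, 1, 2, 0, 3, 3, 1, 3, 1, 3, 3, 0, 2], [1, 1, 3, 0, 3, 3, 1, 1, 2, 0, 0, 2, 1, 2, 0, 2, 1, 3, 1, 2, 0, 0, 3], [1, 1, 3, 0, 3, 0, 3, 0, 2, 0, 3, 3, 3, 0, 2, 2, 2, 0, 2, 0, 3, 0, 2], [1, 1, 3, 0, 2, 1, 3, 0, 0, 2, 1, 3, 0, 2, 2, 1, 3, 1, 2, 2, 2, 0, 2], [1, 1, 3, 0, 2, 1, 3, 0, 2, 0, 3, 3, 1, 2, 2, 1, 3, 1, 2, 0, 3, 0, 2], [1, 1, 3, 0, 2, 1, 2, 2, 2, 2, 1, 3, 3, 3, 3, 1, 2, 0, 2, 0, 3, 1, 3], [1, 1, 3, 0, 2, 2, 0, 2, 0, 3, 1, 2, 2, 1, 2, 0, 3, 3, 3, 1, 3, 0, 3], [1, 1, 2, 1, 1, 2, 0,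 3, 0, 0, 2, 1, 2, 2, 2, 0, 2, 1, 2, 0, 2, 1, 2], [1, 1, 2, 1, 1, 2, 2, 2, 2, 0, 3, 1, 3, 3, 0, 3, 0, 2, 1, 3, 3, 1, 3], [1, 1, 2, 1, 3, 1, 3, 1, 2, 2, 1, 2, 0, 3, 0, 0, 3, 0, 3, 3, 0, 0, 3], [1, 1, 2, 1, 3, 3, 1, 3, 3, 3, 1, 3, 3, 3, 0, 3, 3, 1, 3, 3, 3, 1, 2], [1, 1, 2, 1, 3, 3, 3, 1, 2, 2, 0, 2, 2, 0, 2, 2, 2, 0, 2, 1, 3, 1, 3], [1, 1, 2, 1, 3, 3, 3, 3, 1, 3, 0, 2, 0, 2, 1, 2, 2, 1, 2, 0, 3, 1, 2], [1, 1, 2, 1, 2, 1, 3, 3, 0, 2, 0, 3, 1, 2, 1, 3, 0, 3, 3, 1, 2, 0, 3], [1, 1, 2, 1, 2, 2, 2, 0, 3, 3, 0, 2, 0, 3, 1, 2, 0, 3, 1, 3, 3, 1, 2], [1, 1, 2, 0, 3, 3, 3, 1, 3, 3, 1, 2, 2, 1, 3, 0, 2, 0, 3, 0, 3, 0, 3], [1, 1, 2, 0, 3, 3, 3, 1, 2, 2, 0, 2, 1,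 2, 1, 3, 3, 0, 3, 1, 2, 2, 2], [1, 1, 2, 0, 2, 1, 3, 3, 3, 3, 0, 0, 2, 2, 2, 1, 3, 0, 2, 1, 3, 0, 2], [1, 1, 2, 0, 2, 0, 2, 1, 2, 0, 3, 3, 3, 1, 3, 0, 3, 3, 1, 2, 1, 2, 2], [1, 1, 2, 0, 2, 0, 2, 0, 3, 3, 0, 2, 2, 0, 2, 1, 3, 3, 0, 3, 1, 2, 2], [1, 1, 2, 2, 1, 3, 1, 2, 0, 3, 3, 1, 3, 3, 3, 0, 2, 0, 3, 1, 3, 1, 3], [1, 1, 2, 2, 0, 3, 3, 3, 3, 0, 2, 1, 3, 1, 2, 0, 3, 3, 1, 3, 3, 1, 3], [1, 1, 2, 2, 2, 2, 1, 2, 1, 3, 0, 3, 1, 2, 0, 2, 1, 3, 3, 3, 1, 3, 3], [1, 1, 2, 2, 2, 2, 1, 2, 2, 2, 1, 3, 1, 3, 1, 3, 0, 3, 1, 2, 2, 0, 2], [1, 3, 1, 3, 1, 3, 1, 3, 3, 3, 3, 0, 2, 0, 3, 0, 3, 1, 2, 1, 3, 3, 3], [1, 3, 1, 3, 1, 2, 2, 2, 1, 2, 1, 2, 1, 2, 2, 1, 2, 1, 3,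 1, 2, 2, 2], [1, 3, 1, 3, 3, 0, 2, 2, 0, 2, 2, 2, 2, 1, 3, 3, 3, 0, 3, 1, 3, 1, 2], [1, 3, 1, 3, 0, 2, 0, 3, 0, 2, 0, 2, 2, 1, 3, 3, 1, 2, 2, 2, 2, 1, 2], [1, 3, 1, 2, 2, 2, 1, 2, 1, 2, 0, 2, 1, 3, 0, 2, 2, 1, 2, 0, 3, 0, 2], [1, 3, 1, 2, 2, 2, 0, 3, 1, 2, 0, 2, 2, 2, 0, 3, 1, 3, 0, 3, 0, 2, 2], [3, 3, 3, 3, 3, 3, 3, 3, 3, 3, 3, 3, 3, 3, 3, 3, 3, 3, 3, 3, 3, 3, 3], [1, 1, 1, 1, 1, 1, 3, 1, 3, 3, 0, 3, 0, 0, 2, 2, 0, 2, 2, 1, 1, 1, 3, 3], [1, 1, 1, 1, 1, 1, 3, 1, 2, 1, 3, 3, 0, 2, 0, 2, 0, 3, 3, 3, 0, 2, 0, 3], [1, 1, 1, 1, 1, 1, 3, 3, 3, 0, 2, 0, 3, 0, 3, 1, 2, 1, 3, 3, 0, 2, 0, 2], [1, 1, 1, 1, 1, 1, 3, 0, 3, 1, 2, 1, 3, 3, 0, 2, 0, 2, 0, 3, 3, 3,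 0, 2], [1, 1, 1, 1, 1, 1, 3, 0, 0, 2, 2, 0, 2, 2, 1, 1, 1, 3, 3, 0, 3, 1, 3, 3], [1, 1, 1, 1, 1, 1, 3, 0, 2, 1, 2, 1, 3, 1, 2, 2, 2, 1, 3, 1, 3, 1, 2, 2], [1, 1, 1, 1, 1, 1, 2, 1, 2, 1, 3, 1, 2, 2, 2, 1, 3, 1, 3, 1, 2, 2, 0, 3], [1, 1, 1, 1, 1, 1, 2, 1, 2, 2, 0, 0, 0, 3, 3, 1, 3, 3, 1, 1, 2, 1, 2, 2], [1, 1, 1, 1, 1, 1, 2, 0, 3, 3, 3, 0, 2, 0, 3, 0, 3, 1, 2, 1, 3, 3, 0, 2], [1, 1, 1, 1, 1, 1, 2, 0, 3, 0, 3, 1, 2, 1, 3, 3, 0, 2, 0, 2, 0, 3, 3, 3], [1, 1, 1, 1, 1, 1, 2, 0, 2, 0, 3, 3, 3, 0, 2, 0, 3, 0, 3, 1, 2, 1, 3, 3], [1, 1, 1, 1, 1, 1, 2, 2, 1, 1, 1, 3, 3, 0, 3, 1, 3, 3, 0, 3, 0, 0, 2, 2], [1, 1, 1, 1, 1, 3, 1, 3, 1, 3, 1, 2, 2, 0, 0, 3, 1, 3, 0,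 3, 0, 0, 0, 3], [1, 1, 1, 1, 1, 3, 1, 3, 0, 3, 0, 0, 0, 3, 0, 0, 3, 1, 3, 1, 3, 1, 2, 2], [1, 1, 1, 1, 1, 3, 1, 2, 0, 2, 1, 2, 0, 0, 0, 0, 2, 2, 1, 1, 3, 3, 3, 3], [1, 1, 1, 1, 1, 3, 3, 1, 1, 2, 2, 1, 3, 0, 0, 0, 3, 1, 2, 2, 0, 2, 1, 2], [1, 1, 1, 1, 1, 3, 3, 1, 2, 2, 1, 3, 0, 2, 0, 3, 3, 3, 3, 3, 3, 1, 1, 2], [1, 1, 1, 1, 1, 3, 3, 3, 1, 3, 1, 2, 2, 2, 2, 2, 2, 1, 3, 3, 1, 2, 2, 2], [1, 1, 1, 1, 1, 3, 3, 3, 1, 3, 0, 2, 2, 0, 0, 2, 1, 3, 0, 2, 0, 3, 3, 3], [1, 1, 1, 1, 1, 3, 3, 3, 1, 2, 2, 2, 0, 2, 0, 3, 1, 1, 3, 1, 1, 2, 0, 3], [1, 1, 1, 1, 1, 3, 0, 0, 2, 1, 3, 3, 3, 3, 0, 2, 0, 3, 1, 1, 3, 0, 3, 3], [1, 1, 1, 1, 1, 2, 1, 3, 1, 3, 3, 3, 0, 2, 2, 2,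 1, 1, 2, 1, 3, 0, 0, 2], [1, 1, 1, 1, 1, 2, 1, 3, 1, 2, 2, 2, 2, 0, 3, 1, 1, 2, 1, 1, 2, 2, 1, 2], [1, 1, 1, 1, 1, 2, 1, 3, 3, 3, 3, 0, 2, 0, 3, 1, 1, 3, 0, 3, 3, 0, 0, 3], [1, 1, 1, 1, 1, 2, 1, 3, 0, 2, 0, 3, 3, 3, 0, 0, 3, 3, 3, 1, 3, 0, 2, 2], [1, 1, 1, 1, 1, 2, 1, 2, 2, 0, 3, 1, 3, 1, 3, 1, 3, 3, 3, 3, 1, 2, 2, 2], [1, 1, 1, 1, 1, 2, 1, 2, 2, 0, 0, 2, 0, 2, 0, 2, 0, 3, 3, 3, 1, 2, 2, 2], [1, 1, 1, 1, 1, 2, 0, 0, 0, 3, 3, 0, 2, 2, 1, 3, 3, 1, 3, 1, 2, 2, 1, 3], [1, 1, 1, 1, 1, 2, 0, 0, 2, 1, 3, 1, 3, 3, 3, 0, 2, 2, 2, 1, 1, 2, 1, 3], [1, 1, 1, 1, 1, 2, 0, 2, 1, 3, 3, 1, 3, 3, 3, 0, 2, 1, 3, 3, 1, 2, 1, 2], [1, 1, 1, 1, 1, 2, 0, 2, 0, 2, 0, 3, 3,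 3, 1, 2, 2, 2, 0, 0, 2, 1, 2, 2], [1, 1, 1, 1, 1, 2, 2, 1, 1, 3, 0, 3, 1, 3, 3, 0, 2, 1, 1, 1, 2, 0, 3, 3], [1, 1, 1, 1, 1, 2, 2, 1, 3, 0, 3, 0, 0, 0, 0, 2, 1, 1, 2, 0, 2, 1, 3, 3], [1, 1, 1, 1, 1, 2, 2, 0, 2, 2, 1, 2, 1, 1, 1, 1, 1, 2, 2, 0, 2, 2, 1, 2], [1, 1, 1, 1, 1, 2, 2, 0, 2, 2, 1, 2, 2, 1, 2, 2, 0, 2, 1, 2, 2, 0, 0, 2], [1, 1, 1, 1, 1, 2, 2, 2, 2, 0, 2, 0, 3, 0, 2, 1, 2, 0, 3, 0, 2, 2, 1, 3], [1, 1, 1, 1, 1, 2, 2, 2, 2, 2, 2, 1, 3, 1, 2, 0, 3, 3, 0, 2, 2, 1, 1, 3], [1, 1, 1, 1, 3, 1, 1, 1, 3, 3, 0, 3, 0, 0, 3, 1, 1, 1, 1, 2, 2, 1, 2, 2], [1, 1, 1, 1, 3, 1, 1, 1, 3, 0, 3, 0, 0, 0, 3, 1, 3, 0, 0, 0, 3, 1, 3, 3], [1, 1, 1, 1, 3, 1, 1, 3, 1, 2,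 0, 2, 2, 2, 1, 2, 2, 2, 1, 2, 2, 0, 0, 2], [1, 1, 1, 1, 3, 1, 1, 3, 3, 1, 2, 2, 0, 0, 3, 3, 3, 0, 0, 3, 3, 1, 2, 2], [1, 1, 1, 1, 3, 1, 1, 2, 1, 1, 2, 1, 3, 3, 3, 0, 3, 0, 2, 1, 3, 3, 1, 2], [1, 1, 1, 1, 3, 1, 1, 2, 1, 3, 3, 3, 3, 0, 3, 3, 3, 1, 2, 0, 0, 0, 3, 3], [1, 1, 1, 1, 3, 1, 1, 2, 2, 2, 1, 2, 2, 2, 1, 3, 1, 2, 0, 3, 1, 3, 0, 2], [1, 1, 1, 1, 3, 1, 3, 1, 2, 2, 1, 1, 2, 2, 0, 3, 1, 2, 2, 0, 3, 3, 1, 2], [1, 1, 1, 1, 3, 1, 3, 1, 2, 2, 1, 2, 1, 1, 2, 0, 0, 2, 0, 3, 1, 3, 0, 3], [1, 1, 1, 1, 3, 1, 3, 3, 1, 2, 1, 2, 2, 2, 0, 2, 2, 0, 2, 1, 2, 2, 1, 3], [1, 1, 1, 1, 3, 1, 3, 3, 0, 0, 0, 3, 1, 1, 1, 3, 0, 3, 0, 0, 0, 3, 1, 3], [1, 1, 1, 1, 3, 1, 3,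 3, 0, 2, 0, 3, 3, 1, 1, 2, 0, 3, 1, 2, 1, 2, 2, 2], [1, 1, 1, 1, 3, 1, 3, 0, 3, 0, 2, 2, 2, 1, 1, 3, 1, 2, 0, 0, 0, 3, 3, 3], [1, 1, 1, 1, 3, 1, 3, 0, 0, 0, 3, 1, 3, 3, 0, 0, 0, 3, 1, 1, 1, 3, 0, 3], [1, 1, 1, 1, 3, 1, 3, 0, 0, 2, 2, 2, 0, 2, 0, 3, 0, 0, 2, 0, 0, 2, 1, 2], [1, 1, 1, 1, 3, 1, 2, 1, 1, 2, 1, 1, 3, 0, 3, 0, 2, 0, 3, 1, 1, 3, 1, 2], [1, 1, 1, 1, 3, 1, 2, 1, 3, 1, 3, 1, 1, 3, 3, 3, 3, 3, 0, 2, 0, 3, 3, 3], [1, 1, 1, 1, 3, 1, 2, 1, 3, 0, 0, 3, 1, 2, 2, 0, 3, 3, 3, 3, 0, 0, 2, 2], [1, 1, 1, 1, 3, 1, 2, 1, 3, 0, 2, 1, 1, 2, 2, 1, 2, 1, 1, 2, 0, 3, 0, 2], [1, 1, 1, 1, 3, 1, 2, 1, 2, 0, 3, 1, 1, 2, 1, 3, 3, 0, 2, 2, 2, 2, 1, 2], [1, 1, 1, 1,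 3, 1, 2, 0, 0, 3, 0, 3, 3, 0, 2, 2, 2, 1, 2, 1, 1, 2, 1, 2], [1, 1, 1, 1, 3, 1, 2, 2, 1, 2, 2, 2, 2, 2, 2, 1, 3, 1, 2, 2, 2, 2, 0, 2], [1, 1, 1, 1, 3, 1, 2, 2, 2, 1, 3, 0, 2, 0, 2, 0, 2, 2, 0, 0, 2, 2, 1, 2], [1, 1, 1, 1, 3, 3, 1, 1, 2, 0, 3, 1, 2, 2, 0, 0, 2, 2, 2, 0, 3, 0, 0, 2], [1, 1, 1, 1, 3, 3, 1, 1, 2, 2, 1, 3, 0, 2, 2, 0, 2, 1, 2, 0, 2, 2, 0, 3], [1, 1, 1, 1, 3, 3, 1, 2, 1, 3, 3, 0, 3, 1, 2, 0, 2, 1, 2, 2, 1, 3, 0, 3], [1, 1, 1, 1, 3, 3, 1, 2, 0, 0, 0, 2, 1, 1, 2, 2, 2, 0, 0, 2, 2, 2, 0, 2], [1, 1, 1, 1, 3, 3, 1, 2, 2, 0, 2, 1, 3, 0, 0, 2, 2, 1, 1, 3, 3, 0, 3, 3], [1, 1, 1, 1, 3, 3, 3, 3, 1, 1, 3, 3, 0, 3, 1, 3, 3, 3, 0, 3, 3, 1, 1, 3], [1,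 1, 1, 1, 3, 3, 3, 3, 1, 2, 1, 3, 0, 0, 0, 2, 2, 0, 2, 2, 1, 3, 0, 3], [1, 1, 1, 1, 3, 3, 3, 3, 1, 2, 2, 2, 1, 2, 0, 3, 0, 2, 0, 0, 3, 3, 1, 3], [1, 1, 1, 1, 3, 3, 3, 3, 0, 0, 3, 0, 2, 2, 1, 2, 0, 2, 1, 3, 3, 0, 0, 2], [1, 1, 1, 1, 3, 3, 3, 3, 0, 0, 3, 0, 2, 2, 0, 3, 0, 0, 0, 2, 1, 2, 0, 3], [1, 1, 1, 1, 3, 3, 3, 0, 0, 0, 3, 1, 3, 0, 3, 0, 2, 2, 2, 1, 1, 3, 1, 2], [1, 1, 1, 1, 3, 3, 3, 0, 0, 0, 3, 0, 3, 3, 3, 3, 3, 1, 3, 3, 3, 0, 0, 2], [1, 1, 1, 1, 3, 3, 3, 0, 0, 2, 0, 2, 0, 0, 0, 2, 1, 2, 1, 1, 2, 0, 3, 3], [1, 1, 1, 1, 3, 3, 3, 0, 2, 0, 0, 3, 1, 1, 1, 1, 3, 3, 3, 0, 2, 0, 0, 3], [1, 1, 1, 1, 3, 3, 0, 3, 0, 0, 3, 1, 1, 3, 1, 1, 2, 1, 2, 0, 2, 0, 2,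 2], [1, 1, 1, 1, 3, 3, 0, 0, 0, 3, 1, 1, 2, 1, 3, 3, 3, 3, 0, 3, 3, 3, 1, 2], [1, 1, 1, 1, 3, 3, 0, 0, 2, 0, 3, 0, 0, 2, 0, 2, 1, 3, 3, 0, 3, 1, 3, 3], [1, 1, 1, 1, 3, 3, 0, 0, 2, 0, 2, 2, 2, 2, 1, 2, 0, 2, 1, 2, 2, 0, 2, 2], [1, 1, 1, 1, 3, 3, 0, 2, 2, 2, 1, 3, 3, 0, 2, 2, 0, 0, 0, 2, 0, 3, 1, 3], [1, 1, 1, 1, 3, 0, 3, 3, 1, 3, 1, 3, 0, 3, 0, 0, 2, 1, 1, 2, 2, 1, 2, 2], [1, 1, 1, 1, 3, 0, 3, 3, 1, 3, 1, 2, 0, 0, 2, 2, 1, 1, 3, 0, 2, 1, 3, 3], [1, 1, 1, 1, 3, 0, 3, 3, 3, 3, 3, 1, 3, 3, 3, 0, 0, 2, 0, 0, 0, 3, 3, 3], [1, 1, 1, 1, 3, 0, 3, 0, 0, 3, 3, 0, 3, 3, 3, 3, 1, 3, 0, 0, 2, 0, 2, 2], [1, 1, 1, 1, 3, 0, 0, 0, 2, 0, 2, 0, 2, 0, 2, 2, 2, 0, 0, 3,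 1, 3, 0, 3], [1, 1, 1, 1, 3, 0, 0, 0, 2, 2, 2, 1, 1, 3, 1, 2, 1, 2, 0, 3, 0, 0, 3, 3], [1, 1, 1, 1, 3, 0, 2, 1, 1, 2, 1, 3, 1, 1, 1, 1, 3, 0, 2, 1, 1, 2, 1, 3], [1, 1, 1, 1, 3, 0, 2, 1, 2, 0, 0, 0, 2, 2, 1, 2, 1, 3, 0, 3, 3, 0, 0, 2], [1, 1, 1, 1, 3, 0, 2, 0, 0, 2, 0, 0, 3, 1, 3, 3, 3, 3, 3, 1, 3, 0, 3, 3], [1, 1, 1, 1, 3, 0, 2, 2, 0, 0, 2, 0, 3, 1, 3, 1, 2, 2, 0, 2, 2, 2, 0, 3], [1, 1, 1, 1, 3, 0, 2, 2, 2, 1, 1, 3, 3, 0, 0, 0, 0, 3, 3, 3, 1, 3, 3, 3], [1, 1, 1, 1, 2, 1, 1, 1, 3, 3, 0, 3, 3, 0, 0, 0, 0, 2, 1, 1, 2, 1, 2, 2], [1, 1, 1, 1, 2, 1, 1, 1, 2, 2, 0, 2, 1, 1, 1, 2, 0, 2, 1, 1, 1, 2, 1, 2], [1, 1, 1, 1, 2, 1, 1, 3, 3, 3, 3, 1, 2, 1, 3, 1, 2,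 2, 1, 2, 1, 3, 1, 2], [1, 1, 1, 1, 2, 1, 1, 2, 0, 2, 1, 1, 2, 2, 1, 3, 0, 2, 2, 1, 2, 0, 2, 2], [1, 1, 1, 1, 2, 1, 1, 2, 0, 2, 1, 2, 2, 0, 2, 2, 2, 1, 3, 1, 1, 1, 2, 2], [1, 1, 1, 1, 2, 1, 1, 2, 2, 2, 0, 0, 2, 2, 2, 0, 2, 0, 0, 0, 3, 3, 1, 2], [1, 1, 1, 1, 2, 1, 3, 1, 3, 1, 2, 2, 2, 0, 3, 0, 0, 2, 0, 0, 3, 3, 0, 3], [1, 1, 1, 1, 2, 1, 3, 1, 3, 3, 3, 0, 0, 0, 0, 2, 0, 3, 1, 2, 2, 2, 0, 2], [1, 1, 1, 1, 2, 1, 3, 1, 3, 3, 0, 0, 2, 0, 0, 2, 2, 1, 1, 2, 0, 3, 1, 3], [1, 1, 1, 1, 2, 1, 3, 0, 3, 0, 0, 2, 1, 2, 1, 3, 0, 3, 1, 3, 1, 2, 2, 2], [1, 1, 1, 1, 2, 1, 3, 0, 0, 3, 1, 1, 3, 1, 2, 0, 3, 3, 1, 1, 3, 1, 2, 2], [1, 1, 1, 1, 2, 1, 3, 0, 2, 1, 2, 2, 0, 3,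 3, 1, 1, 3, 3, 0, 2, 2, 0, 2], [1, 1, 1, 1, 2, 1, 3, 0, 2, 2, 0, 0, 3, 3, 3, 0, 2, 2, 0, 3, 0, 2, 0, 3], [1, 1, 1, 1, 2, 1, 3, 0, 2, 2, 2, 0, 0, 3, 3, 1, 1, 2, 0, 2, 2, 0, 2, 2], [1, 1, 1, 1, 2, 1, 2, 1, 1, 2, 0, 3, 3, 0, 0, 0, 3, 3, 3, 0, 0, 2, 0, 2], [1, 1, 1, 1, 2, 1, 2, 0, 3, 0, 0, 0, 3, 3, 3, 3, 0, 0, 3, 0, 2, 2, 0, 3], [1, 1, 1, 1, 2, 1, 2, 0, 2, 2, 1, 3, 3, 3, 1, 3, 1, 1, 3, 0, 2, 0, 3, 3], [1, 1, 1, 1, 2, 1, 2, 0, 2, 2, 1, 2, 0, 3, 3, 3, 3, 3, 0, 2, 2, 2, 0, 2], [1, 1, 1, 1, 2, 0, 3, 1, 3, 0, 0, 0, 3, 3, 0, 2, 2, 2, 1, 3, 3, 0, 2, 2], [1, 1, 1, 1, 2, 0, 3, 1, 2, 1, 2, 2, 0, 0, 2, 1, 3, 1, 3, 1, 3, 3, 3, 3], [1, 1, 1, 1, 2, 0, 3, 3, 3, 1, 3,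 3, 0, 3, 1, 3, 0, 0, 3, 1, 1, 1, 3, 3], [1, 1, 1, 1, 2, 0, 3, 0, 0, 3, 0, 3, 1, 1, 2, 2, 2, 2, 2, 2, 0, 2, 1, 3], [1, 1, 1, 1, 2, 0, 0, 0, 2, 2, 2, 1, 2, 0, 3, 0, 0, 3, 3, 0, 2, 1, 1, 2], [1, 1, 1, 1, 2, 0, 0, 2, 1, 2, 2, 0, 2, 2, 0, 0, 2, 0, 0, 0, 2, 0, 2, 2], [1, 1, 1, 1, 2, 0, 2, 1, 3, 3, 1, 3, 3, 3, 0, 2, 1, 3, 3, 3, 0, 3, 0, 3], [1, 1, 1, 1, 2, 0, 2, 1, 2, 2, 1, 3, 0, 3, 1, 3, 0, 2, 1, 2, 0, 3, 1, 3], [1, 1, 1, 1, 2, 0, 2, 0, 2, 0, 2, 2, 2, 0, 0, 3, 1, 3, 0, 3, 0, 0, 0, 3], [1, 1, 1, 1, 2, 0, 2, 2, 1, 1, 2, 1, 3, 0, 0, 2, 2, 0, 3, 0, 0, 3, 3, 3], [1, 1, 1, 1, 2, 0, 2, 2, 0, 0, 0, 2, 0, 0, 2, 1, 2, 2, 0, 2, 2, 0, 0, 2], [1, 1, 1, 1, 2, 2, 1, 1,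 3, 3, 0, 3, 0, 2, 1, 2, 2, 0, 2, 2, 2, 2, 2, 2], [1, 1, 1, 1, 2, 2, 1, 1, 3, 0, 0, 3, 0, 3, 0, 2, 0, 2, 2, 0, 3, 0, 2, 2], [1, 1, 1, 1, 2, 2, 1, 1, 3, 0, 2, 1, 2, 1, 2, 2, 0, 2, 2, 0, 3, 0, 2, 2], [1, 1, 1, 1, 2, 2, 1, 1, 2, 1, 2, 1, 3, 3, 0, 3, 0, 2, 2, 2, 2, 2, 1, 3], [1, 1, 1, 1, 2, 2, 1, 1, 2, 0, 3, 3, 0, 3, 0, 2, 0, 2, 0, 2, 2, 2, 0, 2], [1, 1, 1, 1, 2, 2, 1, 3, 1, 1, 2, 2, 2, 1, 3, 0, 3, 1, 1, 2, 1, 3, 0, 2], [1, 1, 1, 1, 2, 2, 1, 3, 3, 1, 3, 0, 3, 3, 1, 1, 2, 1, 1, 2, 2, 0, 0, 2], [1, 1, 1, 1, 2, 2, 1, 2, 1, 3, 0, 3, 3, 0, 0, 2, 0, 0, 0, 3, 0, 2, 1, 2], [1, 1, 1, 1, 2, 2, 1, 2, 0, 2, 1, 3, 0, 3, 0, 2, 0, 0, 3, 0, 0, 3, 1, 2], [1, 1, 1, 1, 2,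 2, 1, 2, 0, 2, 2, 1, 3, 0, 2, 0, 2, 2, 0, 3, 0, 3, 0, 2], [1, 1, 1, 1, 2, 2, 0, 3, 3, 1, 2, 2, 0, 3, 3, 0, 0, 2, 1, 3, 3, 0, 2, 2], [1, 1, 1, 1, 2, 2, 0, 2, 2, 1, 3, 0, 3, 0, 0, 0, 3, 3, 3, 3, 1, 2, 1, 3], [1, 1, 1, 1, 2, 2, 2, 1, 1, 3, 1, 2, 1, 2, 0, 3, 0, 0, 3, 3, 0, 0, 0, 3], [1, 1, 1, 1, 2, 2, 2, 1, 1, 2, 2, 2, 0, 2, 2, 2, 1, 2, 0, 0, 3, 0, 0, 2], [1, 1, 1, 1, 2, 2, 2, 1, 2, 0, 3, 0, 0, 3, 3, 0, 2, 1, 1, 2, 0, 0, 0, 2], [1, 1, 1, 3, 1, 1, 1, 2, 1, 1, 2, 2, 1, 1, 2, 0, 0, 0, 3, 1, 1, 2, 0, 3], [1, 1, 1, 3, 1, 1, 1, 2, 0, 2, 2, 2, 0, 0, 2, 0, 0, 2, 0, 0, 3, 3, 1, 3], [1, 1, 1, 3, 1, 1, 3, 1, 3, 0, 2, 0, 0, 0, 2, 0, 0, 3, 1, 3, 1, 3, 3, 3], [1, 1,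 1, 3, 1, 1, 3, 1, 2, 1, 2, 0, 2, 2, 2, 2, 2, 0, 0, 2, 0, 2, 1, 2], [1, 1, 1, 3, 1, 1, 3, 1, 2, 0, 0, 2, 0, 0, 0, 2, 1, 2, 0, 0, 3, 1, 1, 3], [1, 1, 1, 3, 1, 1, 3, 1, 2, 0, 2, 1, 2, 1, 3, 0, 0, 0, 2, 1, 1, 2, 0, 3], [1, 1, 1, 3, 1, 1, 3, 3, 1, 2, 0, 3, 3, 1, 1, 3, 3, 3, 0, 3, 1, 1, 2, 2], [1, 1, 1, 3, 1, 1, 3, 0, 3, 3, 0, 3, 1, 3, 0, 0, 3, 3, 3, 3, 3, 0, 0, 2], [1, 1, 1, 3, 1, 1, 3, 0, 0, 3, 3, 3, 3, 0, 0, 3, 0, 0, 3, 1, 1, 3, 1, 2], [1, 1, 1, 3, 1, 1, 2, 1, 3, 1, 1, 3, 1, 3, 0, 0, 0, 2, 2, 1, 1, 2, 0, 2], [1, 1, 1, 3, 1, 1, 2, 1, 3, 0, 3, 3, 0, 2, 0, 2, 2, 0, 2, 0, 2, 2, 1, 2], [1, 1, 1, 3, 1, 1, 2, 1, 2, 2, 1, 3, 1, 2, 0, 2, 0, 0, 2, 1, 3, 3, 0, 2],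 [1, 1, 1, 3, 1, 1, 2, 0, 0, 0, 2, 1, 1, 1, 3, 1, 2, 0, 0, 3, 0, 2, 1, 3], [1, 1, 1, 3, 1, 1, 2, 2, 2, 1, 3, 3, 0, 0, 0, 3, 1, 1, 3, 1, 3, 0, 2, 2], [1, 1, 1, 3, 1, 1, 2, 2, 2, 0, 3, 0, 2, 0, 3, 0, 0, 3, 1, 2, 1, 2, 1, 3], [1, 1, 1, 3, 1, 1, 2, 2, 2, 0, 3, 0, 2, 0, 3, 0, 0, 3, 3, 0, 3, 0, 3, 3], [1, 1, 1, 3, 1, 3, 1, 1, 1, 3, 0, 3, 0, 0, 2, 2, 1, 3, 1, 1, 2, 0, 0, 3], [1, 1, 1, 3, 1, 3, 1, 1, 2, 2, 1, 1, 3, 1, 1, 1, 3, 1, 3, 3, 1, 1, 3, 3], [1, 1, 1, 3, 1, 3, 1, 3, 0, 0, 0, 3, 1, 2, 1, 3, 3, 3, 0, 0, 0, 2, 2, 2], [1, 1, 1, 3, 1, 3, 1, 2, 0, 0, 2, 0, 3, 0, 0, 3, 0, 0, 2, 0, 0, 2, 1, 3], [1, 1, 1, 3, 1, 3, 3, 1, 3, 3, 3, 1, 2, 0, 0, 0, 3, 1, 3, 1, 3,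 3, 1, 3], [1, 1, 1, 3, 1, 3, 3, 1, 3, 0, 0, 3, 3, 1, 2, 1, 3, 1, 3, 0, 2, 2, 1, 3], [1, 1, 1, 3, 1, 3, 3, 3, 1, 2, 1, 1, 3, 0, 0, 0, 2, 0, 2, 1, 2, 0, 0, 2], [1, 1, 1, 3, 1, 3, 3, 3, 0, 3, 3, 0, 2, 2, 1, 1, 3, 0, 0, 0, 3, 3, 0, 2], [1, 1, 1, 3, 1, 3, 3, 0, 0, 0, 2, 0, 0, 2, 2, 0, 3, 0, 0, 0, 2, 1, 3, 3], [1, 1, 1, 3, 1, 3, 0, 0, 3, 3, 3, 0, 3, 0, 0, 2, 1, 1, 1, 2, 1, 1, 2, 2], [1, 1, 1, 3, 1, 3, 0, 0, 3, 0, 0, 3, 3, 1, 1, 2, 2, 2, 2, 2, 0, 3, 1, 2], [1, 1, 1, 3, 1, 3, 0, 0, 3, 0, 2, 0, 2, 0, 3, 0, 3, 3, 0, 0, 2, 0, 2, 2], [1, 1, 1, 3, 1, 3, 0, 0, 2, 1, 3, 3, 1, 3, 1, 2, 1, 2, 2, 1, 1, 2, 0, 3], [1, 1, 1, 3, 1, 3, 0, 0, 2, 0, 3, 0, 3, 1, 3, 1, 3, 0,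 3, 1, 2, 1, 1, 3], [1, 1, 1, 3, 1, 3, 0, 2, 1, 3, 0, 0, 0, 2, 0, 3, 3, 3, 1, 2, 0, 3, 1, 2], [1, 1, 1, 3, 1, 3, 0, 2, 1, 2, 0, 3, 3, 3, 1, 3, 3, 3, 3, 0, 2, 0, 2, 2], [1, 1, 1, 3, 1, 3, 0, 2, 0, 3, 1, 2, 0, 2, 0, 0, 2, 1, 3, 1, 1, 2, 0, 2], [1, 1, 1, 3, 1, 3, 0, 2, 2, 1, 3, 0, 3, 3, 0, 3, 0, 2, 2, 1, 3, 1, 1, 2], [1, 1, 1, 3, 1, 2, 1, 1, 3, 0, 3, 3, 0, 2, 0, 2, 0, 3, 0, 2, 0, 3, 0, 2], [1, 1, 1, 3, 1, 2, 1, 3, 3, 1, 2, 2, 0, 2, 0, 0, 2, 2, 2, 0, 3, 1, 1, 3], [1, 1, 1, 3, 1, 2, 1, 2, 1, 2, 0, 3, 0, 0, 0, 2, 2, 1, 2, 2, 0, 0, 0, 3], [1, 1, 1, 3, 1, 2, 1, 2, 2, 1, 2, 0, 0, 2, 2, 1, 2, 0, 3, 0, 0, 3, 1, 3], [1, 1, 1, 3, 1, 2, 1, 2, 2, 0, 0, 3, 3, 3, 3,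 0, 3, 3, 1, 3, 3, 3, 1, 3], [1, 1, 1, 3, 1, 2, 0, 0, 3, 0, 3, 3, 0, 2, 2, 2, 1, 2, 1, 3, 0, 3, 0, 3], [1, 1, 1, 3, 1, 2, 0, 0, 2, 2, 2, 1, 1, 2, 2, 1, 1, 3, 0, 0, 2, 2, 0, 3], [1, 1, 1, 3, 1, 2, 0, 0, 2, 2, 2, 2, 0, 3, 0, 0, 2, 0, 2, 0, 0, 3, 3, 3], [1, 1, 1, 3, 1, 2, 0, 2, 0, 2, 2, 0, 3, 0, 3, 3, 1, 3, 3, 1, 2, 2, 0, 3], [1, 1, 1, 3, 1, 2, 0, 2, 2, 0, 3, 0, 2, 1, 3, 1, 1, 2, 0, 3, 1, 3, 0, 2], [1, 1, 1, 3, 1, 2, 2, 1, 2, 1, 1, 2, 0, 0, 2, 1, 3, 3, 0, 2, 0, 2, 0, 2], [1, 1, 1, 3, 3, 1, 1, 1, 3, 0, 0, 3, 0, 0, 2, 0, 2, 2, 1, 2, 2, 2, 0, 3], [1, 1, 1, 3, 3, 1, 1, 2, 0, 2, 1, 2, 1, 3, 1, 1, 1, 3, 0, 2, 2, 2, 1, 3], [1, 1, 1, 3, 3, 1, 3, 1, 1, 2, 1, 3,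 1, 2, 2, 0, 2, 1, 3, 0, 3, 1, 3, 3], [1, 1, 1, 3, 3, 1, 3, 0, 3, 0, 0, 2, 1, 2, 1, 1, 1, 2, 1, 1, 3, 1, 1, 2], [1, 1, 1, 3, 3, 1, 2, 1, 3, 3, 0, 3, 0, 0, 0, 2, 0, 2, 1, 3, 0, 3, 1, 2], [1, 1, 1, 3, 3, 1, 2, 0, 3, 1, 1, 3, 3, 3, 0, 0, 3, 0, 0, 2, 0, 0, 2, 2], [1, 1, 1, 3, 3, 1, 2, 2, 2, 1, 1, 3, 0, 3, 3, 1, 3, 1, 1, 3, 3, 1, 1, 2], [1, 1, 1, 3, 3, 1, 2, 2, 2, 1, 3, 3, 1, 3, 3, 3, 3, 0, 0, 3, 0, 0, 0, 3], [1, 1, 1, 3, 3, 3, 1, 1, 3, 3, 3, 3, 3, 0, 3, 1, 3, 1, 3, 3, 3, 3, 3, 3], [1, 1, 1, 3, 3, 3, 1, 1, 3, 0, 2, 0, 0, 3, 0, 3, 0, 2, 1, 1, 3, 3, 0, 2], [1, 1, 1, 3, 3, 3, 1, 1, 3, 0, 2, 0, 2, 1, 2, 1, 2, 2, 1, 1, 3, 3, 0, 2], [1, 1, 1, 3, 3, 3, 1, 3, 3,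 1, 2, 0, 0, 3, 3, 1, 2, 1, 2, 1, 2, 0, 0, 3], [1, 1, 1, 3, 3, 3, 1, 2, 1, 3, 0, 0, 3, 1, 3, 1, 3, 0, 3, 1, 2, 2, 2, 2], [1, 1, 1, 3, 3, 3, 3, 1, 2, 1, 1, 3, 1, 1, 2, 1, 3, 1, 2, 0, 0, 2, 0, 3], [1, 1, 1, 3, 3, 3, 3, 3, 3, 3, 0, 0, 2, 1, 3, 0, 0, 2, 2, 2, 2, 1, 3, 3], [1, 1, 1, 3, 3, 3, 3, 3, 0, 3, 3, 0, 2, 0, 2, 1, 3, 1, 2, 2, 2, 2, 0, 2], [1, 1, 1, 3, 3, 3, 3, 3, 0, 0, 0, 2, 0, 3, 0, 3, 1, 1, 3, 3, 1, 3, 0, 3], [1, 1, 1, 3, 3, 3, 3, 0, 3, 1, 3, 3, 1, 2, 0, 3, 3, 1, 3, 1, 1, 3, 0, 2], [1, 1, 1, 3, 3, 3, 3, 0, 2, 1, 3, 1, 3, 0, 0, 3, 3, 1, 1, 2, 1, 2, 0, 2], [1, 1, 1, 3, 3, 3, 0, 3, 1, 2, 2, 1, 1, 2, 2, 2, 2, 0, 3, 1, 3, 0, 2, 2], [1, 1, 1, 3, 3, 3,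 0, 3, 3, 1, 1, 2, 0, 0, 3, 1, 2, 2, 0, 3, 3, 3, 1, 3], [1, 1, 1, 3, 3, 3, 0, 0, 2, 1, 2, 0, 2, 2, 0, 2, 2, 0, 2, 0, 0, 3, 1, 2], [1, 1, 1, 3, 3, 3, 0, 2, 1, 3, 1, 3, 1, 3, 3, 3, 0, 2, 1, 2, 1, 3, 3, 3], [1, 1, 1, 3, 3, 0, 3, 1, 1, 3, 3, 1, 2, 0, 3, 3, 0, 3, 1, 1, 3, 1, 2, 2], [1, 1, 1, 3, 3, 0, 3, 3, 0, 2, 0, 2, 2, 1, 2, 0, 2, 2, 0, 2, 0, 3, 1, 3], [1, 1, 1, 3, 3, 0, 0, 2, 0, 2, 2, 0, 3, 0, 0, 0, 3, 3, 0, 2, 1, 3, 0, 2], [1, 1, 1, 3, 3, 0, 2, 1, 1, 3, 0, 2, 0, 2, 2, 1, 1, 1, 3, 0, 0, 2, 1, 3], [1, 1, 1, 3, 3, 0, 2, 1, 2, 2, 2, 1, 1, 1, 2, 1, 2, 2, 1, 3, 1, 2, 1, 3], [1, 1, 1, 3, 3, 0, 2, 1, 2, 2, 2, 0, 3, 1, 2, 2, 0, 3, 0, 0, 3, 3, 0, 2], [1, 1, 1,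 3, 3, 0, 2, 0, 3, 1, 2, 0, 3, 1, 3, 0, 2, 2, 1, 1, 1, 2, 1, 2], [1, 1, 1, 3, 3, 0, 2, 2, 0, 3, 3, 1, 1, 2, 1, 3, 3, 3, 3, 3, 3, 3, 1, 2], [1, 1, 1, 3, 3, 0, 2, 2, 0, 0, 2, 2, 2, 1, 1, 2, 0, 0, 3, 1, 3, 0, 3, 3], [1, 1, 1, 3, 3, 0, 2, 2, 2, 0, 2, 2, 0, 2, 1, 2, 0, 3, 1, 2, 1, 3, 3, 3], [1, 1, 1, 3, 0, 3, 1, 1, 3, 3, 3, 3, 3, 3, 3, 0, 2, 2, 1, 1, 2, 1, 1, 2], [1, 1, 1, 3, 0, 3, 1, 1, 3, 0, 0, 3, 1, 3, 3, 3, 0, 2, 1, 3, 0, 2, 0, 2], [1, 1, 1, 3, 0, 3, 1, 1, 2, 1, 2, 1, 1, 2, 2, 0, 3, 0, 3, 3, 3, 1, 1, 2], [1, 1, 1, 3, 0, 3, 1, 3, 1, 2, 1, 3, 3, 1, 1, 1, 2, 0, 2, 2, 2, 1, 3, 3], [1, 1, 1, 3, 0, 3, 1, 3, 0, 3, 0, 3, 1, 2, 2, 0, 3, 0, 3, 3, 3, 1, 1, 2],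 [1, 1, 1, 3, 0, 3, 1, 2, 0, 2, 0, 2, 2, 2, 1, 3, 3, 3, 1, 1, 3, 0, 2, 2], [1, 1, 1, 3, 0, 3, 1, 2, 2, 1, 3, 0, 3, 3, 0, 3, 1, 2, 0, 3, 3, 3, 3, 3], [1, 1, 1, 3, 0, 3, 3, 1, 2, 1, 3, 0, 2, 0, 3, 1, 3, 1, 1, 2, 2, 2, 2, 2], [1, 1, 1, 3, 0, 3, 3, 3, 3, 0, 0, 3, 3, 3, 0, 3, 1, 2, 1, 2, 0, 0, 3, 3], [1, 1, 1, 3, 0, 3, 3, 3, 0, 2, 2, 1, 2, 2, 2, 2, 0, 3, 0, 3, 0, 2, 0, 2], [1, 1, 1, 3, 0, 3, 3, 3, 0, 2, 2, 1, 2, 2, 2, 2, 2, 1, 2, 1, 2, 2, 0, 2], [1, 1, 1, 3, 0, 3, 0, 3, 1, 2, 0, 3, 3, 0, 0, 0, 3, 3, 3, 0, 0, 2, 0, 2], [1, 1, 1, 3, 0, 3, 0, 0, 3, 0, 0, 2, 2, 0, 0, 2, 2, 0, 0, 3, 1, 3, 3, 3], [1, 1, 1, 3, 0, 3, 0, 0, 0, 3, 3, 1, 3, 1, 2, 1, 3, 0, 3, 0, 3,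 0, 2, 2], [1, 1, 1, 3, 0, 3, 0, 2, 0, 2, 0, 3, 0, 3, 0, 3, 3, 3, 3, 3, 1, 2, 1, 2], [1, 1, 1, 3, 0, 0, 3, 3, 1, 1, 2, 1, 1, 2, 2, 1, 1, 1, 2, 0, 2, 0, 2, 2], [1, 1, 1, 3, 0, 0, 3, 3, 1, 2, 1, 1, 3, 3, 0, 3, 3, 1, 1, 3, 0, 2, 1, 2], [1, 1, 1, 3, 0, 0, 3, 0, 2, 2, 1, 1, 1, 2, 2, 2, 2, 2, 2, 2, 1, 2, 0, 3], [1, 1, 1, 3, 0, 0, 3, 0, 2, 2, 1, 1, 3, 1, 1, 2, 1, 1, 1, 3, 0, 2, 1, 3], [1, 1, 1, 3, 0, 0, 3, 0, 2, 2, 1, 2, 0, 2, 1, 2, 0, 2, 2, 2, 2, 2, 1, 2], [1, 1, 1, 3, 0, 0, 0, 3, 3, 3, 1, 1, 3, 3, 0, 2, 2, 0, 2, 1, 1, 2, 1, 3], [1, 1, 1, 3, 0, 0, 0, 3, 0, 2, 1, 1, 3, 1, 1, 3, 1, 1, 3, 3, 0, 3, 0, 2], [1, 1, 1, 3, 0, 0, 0, 2, 1, 3, 3, 0, 0, 0, 2, 1, 3, 3,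 3, 1, 3, 0, 0, 3], [1, 1, 1, 3, 0, 0, 2, 1, 2, 2, 0, 2, 0, 2, 2, 0, 0, 3, 3, 1, 3, 1, 1, 2], [1, 1, 1, 3, 0, 0, 2, 0, 3, 3, 3, 1, 3, 3, 0, 2, 1, 3, 1, 2, 2, 2, 0, 2], [1, 1, 1, 3, 0, 0, 2, 0, 2, 0, 2, 2, 1, 1, 1, 3, 0, 2, 0, 2, 2, 0, 3, 3], [1, 1, 1, 3, 0, 0, 2, 2, 0, 0, 3, 0, 3, 0, 0, 0, 3, 3, 3, 3, 0, 2, 1, 3], [1, 1, 1, 3, 0, 0, 2, 2, 0, 2, 1, 2, 1, 2, 0, 0, 3, 3, 3, 3, 0, 2, 1, 3], [1, 1, 1, 3, 0, 0, 2, 2, 2, 2, 2, 2, 1, 2, 1, 2, 1, 1, 1, 2, 0, 3, 3, 3], [1, 1, 1, 3, 0, 2, 1, 1, 1, 2, 0, 3, 1, 3, 0, 2, 1, 2, 0, 2, 2, 2, 2, 2], [1, 1, 1, 3, 0, 2, 1, 1, 3, 3, 0, 0, 2, 1, 3, 3, 3, 3, 0, 3, 3, 3, 3, 3], [1, 1, 1, 3, 0, 2, 1, 2, 2, 2, 1, 3, 0, 3, 0,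 3, 0, 0, 3, 3, 3, 0, 3, 3], [1, 1, 1, 3, 0, 2, 0, 2, 0, 2, 2, 0, 3, 1, 2, 2, 0, 2, 2, 0, 3, 1, 1, 3], [1, 1, 1, 3, 0, 2, 2, 0, 3, 3, 1, 3, 0, 3, 1, 2, 2, 1, 3, 3, 0, 2, 2, 2], [1, 1, 1, 3, 0, 2, 2, 2, 2, 1, 1, 3, 1, 1, 3, 1, 2, 0, 0, 3, 1, 3, 3, 3], [1, 1, 1, 3, 0, 2, 2, 2, 2, 1, 3, 0, 3, 1, 3, 0, 3, 3, 3, 1, 2, 2, 0, 3], [1, 1, 1, 2, 1, 1, 1, 2, 1, 1, 3, 3, 0, 0, 3, 0, 2, 1, 2, 2, 0, 2, 0, 2], [1, 1, 1, 2, 1, 1, 1, 2, 1, 1, 2, 0, 2, 1, 3, 1, 2, 2, 1, 3, 0, 2, 0, 3], [1, 1, 1, 2, 1, 1, 1, 2, 2, 0, 2, 1, 1, 1, 2, 0, 2, 1, 1, 3, 0, 3, 0, 3], [1, 1, 1, 2, 1, 1, 3, 3, 0, 0, 2, 0, 0, 2, 1, 2, 2, 0, 0, 3, 0, 2, 0, 2], [1, 1, 1, 2, 1, 3, 1, 1, 3, 1, 3, 3,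 3, 1, 3, 0, 2, 1, 1, 2, 1, 1, 2, 2], [1, 1, 1, 2, 1, 3, 1, 1, 2, 1, 2, 1, 3, 3, 0, 3, 1, 1, 3, 0, 0, 0, 2, 2], [1, 1, 1, 2, 1, 3, 1, 3, 0, 3, 0, 3, 3, 3, 0, 3, 1, 1, 3, 0, 0, 0, 2, 2], [1, 1, 1, 2, 1, 3, 1, 2, 2, 1, 2, 0, 2, 2, 0, 3, 3, 3, 0, 3, 3, 0, 3, 3], [1, 1, 1, 2, 1, 3, 1, 2, 2, 0, 3, 3, 0, 2, 2, 0, 3, 3, 3, 0, 3, 1, 1, 3], [1, 1, 1, 2, 1, 3, 3, 1, 1, 3, 3, 0, 2, 0, 3, 0, 3, 0, 2, 2, 1, 3, 1, 3], [1, 1, 1, 2, 1, 3, 3, 1, 1, 3, 3, 0, 2, 2, 1, 2, 1, 2, 2, 2, 1, 3, 1, 3], [1, 1, 1, 2, 1, 3, 3, 3, 3, 1, 2, 0, 2, 0, 2, 0, 3, 1, 2, 1, 2, 0, 2, 2], [1, 1, 1, 2, 1, 3, 3, 3, 3, 3, 0, 2, 1, 1, 1, 2, 1, 3, 3, 3, 3, 3, 0, 2], [1, 1, 1, 2, 1, 3, 3, 0, 3,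 1, 2, 0, 0, 3, 3, 0, 2, 0, 3, 1, 3, 0, 3, 3], [1, 1, 1, 2, 1, 3, 0, 3, 0, 2, 2, 2, 1, 2, 0, 0, 3, 1, 2, 2, 2, 0, 2, 2], [1, 1, 1, 2, 1, 3, 0, 0, 3, 1, 3, 0, 0, 3, 0, 2, 1, 1, 2, 1, 2, 1, 1, 3], [1, 1, 1, 2, 1, 3, 0, 0, 3, 1, 3, 0, 0, 3, 0, 2, 1, 3, 0, 3, 0, 3, 1, 3], [1, 1, 1, 2, 1, 3, 0, 2, 1, 3, 0, 3, 1, 2, 1, 2, 0, 2, 0, 2, 0, 0, 3, 3], [1, 1, 1, 2, 1, 3, 0, 2, 1, 2, 1, 1, 3, 0, 3, 1, 1, 3, 3, 3, 3, 1, 3, 3], [1, 1, 1, 2, 1, 3, 0, 2, 2, 1, 3, 1, 3, 3, 0, 2, 1, 2, 0, 3, 1, 2, 1, 2], [1, 1, 1, 2, 1, 2, 1, 1, 2, 2, 1, 2, 0, 2, 2, 2, 0, 3, 0, 0, 3, 3, 0, 2], [1, 1, 1, 2, 1, 2, 1, 3, 1, 1, 3, 1, 2, 1, 3, 3, 0, 0, 0, 2, 2, 1, 3, 3], [1, 1, 1, 2, 1, 2,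 1, 3, 3, 0, 2, 1, 1, 2, 1, 2, 2, 2, 1, 3, 3, 3, 3, 3], [1, 1, 1, 2, 1, 2, 1, 3, 0, 3, 0, 0, 2, 0, 3, 1, 3, 0, 0, 0, 2, 2, 0, 2], [1, 1, 1, 2, 1, 2, 1, 2, 0, 2, 0, 0, 3, 3, 3, 3, 3, 1, 3, 3, 1, 2, 2, 2], [1, 1, 1, 2, 1, 2, 1, 2, 2, 0, 2, 2, 1, 2, 1, 3, 3, 3, 3, 3, 0, 3, 0, 3], [1, 1, 1, 2, 1, 2, 0, 3, 1, 3, 3, 1, 2, 2, 0, 2, 0, 3, 3, 0, 0, 3, 3, 3], [1, 1, 1, 2, 1, 2, 0, 3, 3, 1, 1, 3, 3, 0, 0, 2, 2, 2, 1, 3, 0, 2, 1, 3], [1, 1, 1, 2, 1, 2, 0, 3, 0, 2, 1, 1, 2, 2, 1, 3, 3, 1, 1, 3, 3, 1, 3, 3], [1, 1, 1, 2, 1, 2, 0, 0, 3, 3, 3, 0, 3, 0, 0, 0, 2, 0, 0, 3, 3, 3, 1, 2], [1, 1, 1, 2, 1, 2, 0, 2, 1, 3, 0, 2, 1, 2, 1, 3, 1, 2, 2, 2, 2, 1, 1, 2], [1, 1, 1,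 2, 1, 2, 0, 2, 0, 3, 0, 2, 2, 1, 3, 3, 0, 2, 0, 3, 3, 3, 0, 3], [1, 1, 1, 2, 1, 2, 2, 0, 0, 2, 1, 2, 0, 3, 0, 0, 3, 0, 0, 3, 1, 1, 3, 3], [1, 1, 1, 2, 1, 2, 2, 0, 2, 2, 1, 3, 0, 3, 3, 1, 3, 0, 3, 1, 1, 3, 0, 2], [1, 1, 1, 2, 1, 2, 2, 2, 1, 3, 1, 2, 1, 3, 3, 0, 0, 2, 0, 2, 2, 0, 0, 2], [1, 1, 1, 2, 1, 2, 2, 2, 2, 2, 2, 1, 2, 0, 3, 3, 3, 1, 1, 3, 1, 3, 1, 2], [1, 1, 1, 2, 0, 3, 1, 1, 1, 2, 2, 0, 3, 0, 0, 2, 2, 1, 3, 0, 2, 2, 0, 3], [1, 1, 1, 2, 0, 3, 1, 3, 1, 1, 2, 1, 2, 2, 0, 0, 3, 3, 0, 3, 3, 3, 3, 3], [1, 1, 1, 2, 0, 3, 3, 3, 1, 3, 1, 3, 3, 3, 1, 3, 1, 1, 2, 2, 0, 2, 0, 2], [1, 1, 1, 2, 0, 3, 3, 0, 2, 2, 0, 0, 2, 1, 1, 2, 2, 1, 2, 2, 1, 2, 0, 2],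 [1, 1, 1, 2, 0, 3, 0, 3, 1, 3, 3, 3, 3, 0, 2, 0, 0, 2, 0, 3, 0, 0, 3, 3], [1, 1, 1, 2, 0, 3, 0, 3, 0, 0, 3, 3, 1, 1, 2, 2, 2, 2, 0, 2, 2, 2, 1, 3], [1, 1, 1, 2, 0, 3, 0, 2, 0, 3, 1, 2, 2, 0, 3, 0, 3, 3, 3, 0, 0, 2, 1, 2], [1, 1, 1, 2, 0, 3, 0, 2, 2, 1, 2, 1, 3, 3, 0, 3, 1, 2, 0, 2, 1, 1, 3, 3], [1, 1, 1, 2, 0, 3, 0, 2, 2, 2, 2, 0, 2, 1, 1, 2, 0, 2, 1, 3, 3, 0, 3, 3], [1, 1, 1, 2, 0, 0, 3, 1, 2, 2, 0, 2, 1, 3, 1, 2, 0, 3, 3, 1, 1, 2, 2, 2], [1, 1, 1, 2, 0, 0, 3, 3, 1, 3, 1, 2, 0, 2, 0, 3, 3, 3, 0, 0, 2, 2, 1, 2], [1, 1, 1, 2, 0, 0, 3, 3, 0, 0, 2, 1, 1, 2, 1, 1, 3, 1, 3, 3, 0, 2, 1, 3], [1, 1, 1, 2, 0, 0, 2, 1, 1, 3, 0, 0, 3, 0, 3, 3, 1, 1, 2, 0, 3,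 1, 1, 3], [1, 1, 1, 2, 0, 0, 2, 1, 3, 0, 0, 3, 0, 2, 0, 3, 3, 0, 2, 2, 0, 0, 2, 2], [1, 1, 1, 2, 0, 0, 2, 2, 1, 2, 0, 3, 3, 0, 3, 3, 1, 3, 3, 1, 1, 2, 2, 2], [1, 1, 1, 2, 0, 0, 2, 2, 1, 2, 0, 3, 0, 0, 2, 2, 0, 2, 2, 1, 2, 2, 2, 2], [1, 1, 1, 2, 0, 0, 2, 2, 0, 2, 0, 3, 0, 0, 3, 0, 2, 1, 1, 2, 2, 1, 3, 3], [1, 1, 1, 2, 0, 2, 1, 1, 3, 3, 3, 0, 2, 1, 2, 0, 0, 3, 3, 0, 0, 0, 2, 2], [1, 1, 1, 2, 0, 2, 1, 3, 1, 1, 2, 1, 2, 2, 1, 2, 1, 2, 0, 0, 3, 1, 3, 3], [1, 1, 1, 2, 0, 2, 1, 3, 1, 2, 1, 2, 0, 2, 0, 3, 1, 1, 3, 1, 3, 0, 0, 3], [1, 1, 1, 2, 0, 2, 1, 2, 0, 3, 3, 1, 2, 2, 0, 3, 3, 0, 0, 3, 3, 1, 2, 2], [1, 1, 1, 2, 0, 2, 0, 3, 0, 2, 1, 3, 3, 1, 3, 3, 3, 1,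 3, 1, 3, 3, 1, 2], [1, 1, 1, 2, 0, 2, 0, 0, 2, 0, 3, 3, 3, 1, 3, 0, 3, 1, 3, 0, 0, 2, 0, 2], [1, 1, 1, 2, 0, 2, 0, 0, 2, 2, 1, 1, 3, 3, 0, 2, 1, 1, 2, 0, 0, 2, 0, 2], [1, 1, 1, 2, 0, 2, 2, 1, 1, 1, 2, 2, 1, 2, 1, 3, 3, 0, 3, 3, 3, 0, 0, 3], [1, 1, 1, 2, 0, 2, 2, 1, 1, 2, 0, 2, 2, 2, 0, 3, 0, 2, 2, 1, 2, 0, 0, 2], [1, 1, 1, 2, 0, 2, 2, 1, 3, 3, 0, 0, 2, 1, 2, 2, 1, 1, 3, 1, 2, 0, 0, 3], [1, 1, 1, 2, 0, 2, 2, 1, 2, 1, 3, 3, 0, 0, 2, 0, 0, 2, 2, 2, 1, 2, 0, 2], [1, 1, 1, 2, 0, 2, 2, 0, 3, 3, 3, 0, 2, 0, 2, 0, 2, 2, 2, 2, 0, 3, 1, 3], [1, 1, 1, 2, 0, 2, 2, 0, 0, 2, 2, 0, 3, 0, 2, 0, 3, 3, 1, 3, 3, 3, 1, 3], [1, 1, 1, 2, 2, 1, 3, 1, 1, 2, 1, 3, 3, 1, 1,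 3, 0, 3, 1, 1, 2, 1, 1, 2], [1, 1, 1, 2, 2, 1, 3, 1, 3, 0, 3, 3, 1, 3, 1, 3, 1, 1, 3, 0, 2, 0, 2, 2], [1, 1, 1, 2, 2, 1, 3, 3, 3, 0, 2, 2, 2, 2, 0, 2, 1, 2, 1, 3, 1, 1, 2, 2], [1, 1, 1, 2, 2, 1, 2, 1, 2, 0, 3, 3, 1, 1, 2, 2, 2, 2, 0, 2, 2, 2, 1, 3], [1, 1, 1, 2, 2, 1, 2, 0, 3, 3, 1, 3, 0, 3, 0, 3, 0, 2, 1, 3, 0, 2, 0, 3], [1, 1, 1, 2, 2, 1, 2, 2, 0, 2, 0, 3, 3, 0, 2, 2, 2, 0, 3, 0, 0, 3, 0, 2], [1, 1, 1, 2, 2, 0, 3, 1, 3, 1, 3, 3, 3, 0, 2, 0, 2, 1, 3, 3, 0, 0, 0, 2], [1, 1, 1, 2, 2, 0, 3, 3, 1, 2, 1, 3, 1, 2, 0, 2, 0, 3, 3, 3, 3, 1, 1, 3], [1, 1, 1, 2, 2, 0, 3, 0, 2, 0, 0, 2, 2, 1, 2, 1, 2, 0, 0, 2, 2, 0, 3, 3], [1, 1, 1, 2, 2, 0, 0, 3, 0, 2, 0, 2,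 0, 2, 2, 0, 2, 0, 2, 2, 2, 0, 3, 3], [1, 1, 1, 2, 2, 0, 0, 2, 0, 3, 0, 0, 3, 3, 3, 3, 3, 3, 0, 0, 2, 2, 0, 2], [1, 1, 1, 2, 2, 0, 0, 2, 2, 1, 1, 2, 2, 2, 2, 1, 1, 2, 0, 3, 3, 3, 0, 2], [1, 1, 1, 2, 2, 0, 2, 1, 2, 2, 1, 3, 0, 0, 2, 2, 2, 2, 2, 1, 3, 1, 3, 3], [1, 1, 1, 2, 2, 0, 2, 0, 3, 3, 3, 3, 3, 0, 3, 1, 3, 3, 1, 2, 1, 2, 2, 2], [1, 1, 1, 2, 2, 2, 1, 1, 2, 1, 3, 0, 0, 2, 1, 3, 1, 3, 3, 3, 0, 2, 1, 3], [1, 1, 1, 2, 2, 2, 1, 3, 3, 0, 0, 2, 0, 0, 3, 0, 3, 0, 2, 2, 1, 1, 2, 2], [1, 1, 1, 2, 2, 2, 1, 3, 3, 0, 0, 2, 0, 2, 1, 2, 1, 2, 2, 2, 1, 1, 2, 2], [1, 1, 1, 2, 2, 2, 1, 2, 2, 1, 2, 1, 1, 2, 0, 3, 3, 0, 2, 2, 2, 2, 1, 3], [1, 1, 1, 2, 2, 2, 0, 3, 3,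 1, 3, 3, 3, 1, 1, 3, 3, 3, 3, 1, 1, 2, 0, 3], [1, 1, 1, 2, 2, 2, 0, 2, 2, 2, 2, 2, 1, 1, 3, 0, 3, 0, 2, 2, 2, 1, 1, 3], [1, 1, 1, 2, 2, 2, 2, 2, 1, 2, 1, 3, 0, 3, 0, 2, 0, 2, 2, 0, 0, 2, 0, 3], [1, 1, 3, 1, 1, 3, 3, 1, 1, 2, 0, 2, 2, 2, 1, 3, 1, 2, 0, 0, 3, 3, 1, 2], [1, 1, 3, 1, 1, 3, 3, 3, 1, 3, 0, 3, 3, 1, 3, 3, 0, 3, 1, 1, 3, 0, 0, 3], [1, 1, 3, 1, 1, 3, 3, 0, 2, 0, 0, 3, 3, 0, 3, 3, 3, 0, 2, 0, 3, 1, 2, 2], [1, 1, 3, 1, 1, 3, 0, 3, 3, 0, 3, 3, 1, 1, 2, 2, 1, 2, 2, 0, 0, 3, 1, 3], [1, 1, 3, 1, 1, 3, 0, 0, 2, 2, 1, 2, 2, 1, 2, 0, 0, 3, 3, 0, 3, 0, 0, 2], [1, 1, 3, 1, 1, 3, 0, 2, 2, 0, 3, 0, 0, 2, 0, 3, 3, 0, 0, 3, 0, 2, 1, 2], [1, 1, 3, 1, 1, 2,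 1, 3, 3, 1, 1, 2, 0, 2, 1, 1, 2, 0, 0, 3, 0, 2, 0, 3], [1, 1, 3, 1, 1, 2, 1, 2, 2, 0, 0, 3, 1, 3, 1, 1, 3, 3, 3, 0, 3, 0, 0, 2], [1, 1, 3, 1, 1, 2, 0, 3, 0, 3, 1, 3, 1, 3, 1, 1, 3, 3, 0, 3, 1, 2, 0, 3], [1, 1, 3, 1, 1, 2, 0, 2, 2, 1, 2, 2, 0, 3, 0, 0, 3, 1, 3, 0, 2, 2, 0, 2], [1, 1, 3, 1, 1, 2, 2, 1, 2, 1, 3, 3, 1, 2, 1, 2, 2, 2, 1, 3, 3, 3, 1, 3], [1, 1, 3, 1, 3, 1, 1, 2, 1, 3, 1, 1, 2, 2, 1, 1, 3, 0, 0, 2, 2, 0, 2, 2], [1, 1, 3, 1, 3, 1, 1, 2, 0, 2, 1, 2, 2, 0, 2, 1, 3, 3, 3, 0, 0, 3, 0, 2], [1, 1, 3, 1, 3, 1, 1, 2, 2, 2, 2, 1, 3, 0, 3, 0, 2, 1, 2, 2, 2, 0, 0, 3], [1, 1, 3, 1, 3, 1, 3, 3, 3, 3, 0, 0, 2, 1, 3, 1, 2, 0, 2, 0, 0, 3, 0, 3], [1, 1, 3,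 1, 3, 1, 3, 3, 0, 0, 2, 2, 2, 2, 2, 2, 2, 2, 1, 3, 1, 3, 3, 3], [1, 1, 3, 1, 3, 1, 3, 0, 3, 1, 3, 1, 2, 2, 2, 0, 0, 3, 0, 3, 1, 3, 3, 3], [1, 1, 3, 1, 3, 1, 2, 0, 3, 0, 0, 3, 3, 1, 1, 2, 0, 2, 2, 0, 0, 3, 1, 3], [1, 1, 3, 1, 3, 3, 1, 3, 3, 0, 0, 2, 1, 3, 0, 3, 3, 0, 0, 3, 1, 3, 1, 2], [1, 1, 3, 1, 3, 3, 1, 2, 1, 2, 1, 1, 2, 0, 3, 0, 3, 3, 3, 3, 3, 0, 0, 2], [1, 1, 3, 1, 3, 3, 1, 2, 1, 2, 1, 3, 0, 2, 0, 2, 2, 0, 0, 2, 0, 3, 1, 2], [1, 1, 3, 1, 3, 3, 1, 2, 2, 0, 2, 2, 2, 2, 2, 0, 2, 0, 3, 1, 2, 0, 2, 2], [1, 1, 3, 1, 3, 3, 1, 2, 2, 2, 2, 0, 2, 1, 2, 2, 2, 0, 3, 0, 2, 2, 1, 2], [1, 1, 3, 1, 3, 3, 3, 1, 2, 0, 2, 0, 3, 0, 3, 3, 3, 1, 2, 2, 1, 1, 2, 2],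 [1, 1, 3, 1, 3, 3, 3, 3, 3, 3, 1, 1, 2, 1, 2, 1, 1, 3, 3, 1, 3, 0, 2, 2], [1, 1, 3, 1, 3, 3, 3, 3, 3, 3, 1, 3, 0, 3, 0, 3, 1, 3, 3, 1, 3, 0, 2, 2], [1, 1, 3, 1, 3, 3, 3, 3, 3, 3, 0, 3, 1, 3, 3, 0, 2, 0, 0, 2, 0, 3, 0, 3], [1, 1, 3, 1, 3, 3, 3, 0, 3, 0, 3, 1, 2, 0, 3, 0, 3, 3, 3, 3, 3, 0, 0, 2], [1, 1, 3, 1, 3, 3, 3, 0, 3, 0, 3, 3, 0, 2, 0, 2, 2, 0, 0, 2, 0, 3, 1, 2], [1, 1, 3, 1, 3, 3, 0, 3, 1, 3, 3, 3, 0, 3, 1, 1, 3, 0, 2, 2, 1, 3, 0, 3], [1, 1, 3, 1, 3, 3, 0, 0, 3, 3, 1, 3, 1, 2, 0, 3, 0, 3, 0, 3, 3, 1, 1, 2], [1, 1, 3, 1, 3, 3, 0, 2, 1, 3, 3, 1, 1, 2, 2, 0, 0, 2, 2, 2, 0, 0, 3, 3], [1, 1, 3, 1, 3, 3, 0, 2, 2, 1, 1, 2, 0, 3, 1, 2, 0, 2, 2, 1, 1,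 3, 0, 2], [1, 1, 3, 1, 3, 0, 3, 1, 1, 2, 1, 1, 2, 1, 3, 0, 0, 3, 0, 3, 0, 3, 1, 3], [1, 1, 3, 1, 3, 0, 3, 1, 3, 1, 1, 3, 0, 2, 0, 3, 3, 3, 3, 1, 1, 3, 3, 3], [1, 1, 3, 1, 3, 0, 3, 1, 3, 0, 0, 2, 1, 3, 0, 0, 3, 0, 3, 3, 1, 2, 0, 2], [1, 1, 3, 1, 3, 0, 3, 3, 1, 3, 0, 2, 0, 3, 3, 1, 1, 2, 1, 1, 3, 0, 3, 3], [1, 1, 3, 1, 3, 0, 3, 3, 1, 2, 2, 2, 1, 2, 2, 1, 2, 0, 3, 1, 2, 2, 2, 2], [1, 1, 3, 1, 3, 0, 3, 0, 2, 0, 3, 3, 1, 3, 0, 3, 0, 2, 0, 2, 2, 0, 3, 3], [1, 1, 3, 1, 3, 0, 0, 2, 2, 1, 2, 1, 3, 3, 3, 3, 0, 2, 1, 3, 3, 3, 3, 3], [1, 1, 3, 1, 3, 0, 2, 0, 3, 3, 1, 2, 2, 0, 2, 1, 3, 0, 2, 2, 2, 2, 0, 2], [1, 1, 3, 1, 3, 0, 2, 0, 2, 2, 2, 2, 2, 1, 2, 1, 3, 0,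 3, 1, 3, 1, 3, 3], [1, 1, 3, 1, 3, 0, 2, 2, 2, 1, 3, 3, 3, 0, 0, 2, 2, 0, 0, 2, 1, 3, 3, 3], [1, 1, 3, 1, 2, 1, 1, 3, 3, 3, 0, 0, 2, 1, 2, 0, 3, 1, 2, 2, 1, 2, 1, 3], [1, 1, 3, 1, 2, 1, 1, 3, 0, 2, 0, 0, 2, 2, 1, 2, 2, 1, 2, 2, 2, 0, 2, 2], [1, 1, 3, 1, 2, 1, 3, 0, 2, 1, 3, 1, 2, 1, 2, 0, 3, 0, 2, 0, 3, 1, 3, 3], [1, 1, 3, 1, 2, 1, 2, 0, 3, 0, 3, 0, 0, 2, 1, 1, 3, 0, 2, 2, 0, 3, 0, 3], [1, 1, 3, 1, 2, 1, 2, 2, 1, 2, 1, 2, 0, 2, 1, 1, 3, 0, 2, 2, 0, 3, 0, 3], [1, 1, 3, 1, 2, 0, 3, 1, 2, 2, 2, 1, 3, 3, 1, 3, 0, 2, 0, 2, 1, 1, 2, 2], [1, 1, 3, 1, 2, 0, 3, 3, 1, 2, 0, 3, 1, 2, 2, 1, 2, 2, 1, 3, 3, 0, 2, 2], [1, 1, 3, 1, 2, 0, 3, 3, 3, 1, 2, 1, 3, 0, 3,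 1, 2, 0, 0, 2, 2, 0, 0, 3], [1, 1, 3, 1, 2, 0, 3, 0, 0, 3, 1, 2, 1, 2, 0, 3, 0, 0, 3, 1, 3, 1, 3, 3], [1, 1, 3, 1, 2, 2, 1, 1, 2, 2, 1, 2, 1, 3, 1, 2, 0, 3, 1, 1, 3, 3, 0, 2], [1, 1, 3, 1, 2, 2, 1, 3, 0, 3, 0, 2, 1, 2, 0, 3, 3, 1, 3, 3, 3, 3, 1, 2], [1, 1, 3, 1, 2, 2, 1, 2, 2, 0, 0, 3, 1, 2, 1, 2, 1, 3, 3, 3, 0, 2, 2, 2], [1, 1, 3, 1, 2, 2, 1, 2, 2, 0, 0, 3, 3, 0, 3, 0, 3, 3, 3, 3, 0, 2, 2, 2], [1, 1, 3, 1, 2, 2, 0, 2, 2, 1, 3, 0, 2, 2, 2, 2, 0, 2, 1, 2, 0, 2, 2, 2], [1, 1, 3, 1, 2, 2, 2, 0, 3, 0, 0, 2, 2, 1, 3, 1, 3, 3, 3, 3, 0, 3, 1, 3], [1, 1, 3, 1, 2, 2, 2, 0, 3, 0, 2, 0, 2, 2, 2, 0, 0, 2, 1, 2, 2, 2, 0, 3], [1, 1, 3, 1, 2, 2, 2, 0, 0, 3, 0, 3,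 0, 3, 1, 2, 2, 1, 1, 2, 0, 2, 1, 3], [1, 1, 3, 1, 2, 2, 2, 0, 0, 2, 0, 3, 1, 2, 1, 2, 2, 0, 0, 3, 1, 1, 3, 3], [1, 1, 3, 3, 1, 1, 3, 3, 3, 0, 0, 3, 1, 3, 1, 1, 2, 2, 2, 1, 3, 0, 0, 2], [1, 1, 3, 3, 1, 1, 3, 0, 2, 1, 1, 2, 1, 1, 3, 3, 1, 1, 3, 0, 2, 1, 1, 2], [1, 1, 3, 3, 1, 1, 2, 2, 2, 0, 0, 3, 3, 3, 3, 3, 0, 2, 2, 2, 0, 3, 1, 3], [1, 1, 3, 3, 1, 3, 1, 1, 2, 2, 1, 3, 1, 1, 3, 3, 1, 3, 1, 1, 2, 2, 1, 3], [1, 1, 3, 3, 1, 3, 3, 1, 2, 1, 2, 2, 0, 0, 3, 3, 3, 3, 3, 1, 2, 1, 3, 3], [1, 1, 3, 3, 1, 3, 3, 1, 2, 2, 1, 2, 2, 0, 2, 0, 3, 1, 1, 3, 0, 3, 0, 2], [1, 1, 3, 3, 1, 3, 3, 3, 3, 0, 0, 2, 1, 1, 3, 0, 3, 3, 0, 0, 3, 3, 3, 3], [1, 1, 3, 3, 1, 3, 3, 3, 0,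 0, 2, 0, 2, 1, 3, 0, 3, 3, 0, 3, 3, 0, 2, 2], [1, 1, 3, 3, 1, 3, 3, 0, 2, 0, 3, 0, 3, 3, 0, 3, 1, 3, 1, 1, 2, 2, 1, 2], [1, 1, 3, 3, 1, 3, 0, 2, 1, 3, 3, 3, 3, 1, 1, 3, 0, 0, 3, 3, 3, 0, 0, 2], [1, 1, 3, 3, 1, 2, 1, 3, 1, 2, 0, 0, 3, 1, 2, 2, 0, 2, 2, 2, 2, 0, 0, 3], [1, 1, 3, 3, 1, 2, 0, 3, 1, 2, 0, 2, 1, 3, 1, 2, 0, 0, 2, 1, 3, 3, 3, 3], [1, 1, 3, 3, 1, 2, 0, 2, 2, 2, 1, 1, 3, 3, 3, 1, 1, 2, 0, 0, 3, 3, 1, 2], [1, 1, 3, 3, 1, 2, 2, 0, 3, 0, 3, 1, 3, 3, 1, 2, 2, 0, 3, 3, 1, 1, 2, 2], [1, 1, 3, 3, 1, 2, 2, 0, 0, 3, 1, 3, 3, 0, 2, 2, 1, 3, 0, 3, 1, 3, 1, 3], [1, 1, 3, 3, 1, 2, 2, 2, 0, 2, 2, 2, 0, 0, 2, 1, 2, 0, 0, 2, 0, 2, 0, 3], [1, 1, 3, 3, 1, 2,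 2, 2, 2, 2, 1, 2, 0, 3, 1, 1, 2, 1, 3, 3, 3, 3, 3, 3], [1, 1, 3, 3, 3, 1, 2, 1, 3, 0, 0, 3, 1, 2, 1, 1, 2, 2, 1, 1, 2, 2, 1, 2], [1, 1, 3, 3, 3, 1, 2, 0, 0, 2, 0, 2, 1, 2, 2, 0, 3, 1, 2, 1, 1, 2, 1, 2], [1, 1, 3, 3, 3, 1, 2, 0, 2, 1, 2, 1, 1, 3, 0, 0, 3, 0, 2, 2, 1, 3, 0, 2], [1, 1, 3, 3, 3, 1, 2, 2, 2, 1, 2, 1, 3, 3, 3, 3, 3, 1, 2, 1, 3, 0, 2, 2], [1, 1, 3, 3, 3, 3, 1, 1, 3, 3, 3, 3, 1, 1, 3, 3, 3, 3, 1, 1, 3, 3, 3, 3], [1, 1, 3, 3, 3, 3, 3, 1, 2, 0, 3, 1, 1, 2, 1, 2, 1, 1, 2, 1, 3, 3, 3, 3], [1, 1, 3, 3, 3, 3, 3, 1, 2, 0, 3, 1, 3, 0, 3, 0, 3, 1, 2, 1, 3, 3, 3, 3], [1, 1, 3, 3, 3, 3, 0, 2, 2, 2, 2, 1, 2, 2, 2, 0, 3, 3, 1, 3, 1, 2, 2, 2], [1, 1, 3,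 3, 3, 0, 3, 3, 0, 2, 2, 0, 2, 2, 0, 3, 1, 1, 3, 0, 0, 2, 2, 2], [1, 1, 3, 3, 3, 0, 0, 2, 0, 3, 3, 1, 3, 1, 3, 3, 0, 2, 2, 1, 2, 1, 3, 3], [1, 1, 3, 3, 3, 0, 0, 2, 0, 3, 0, 3, 1, 2, 1, 3, 3, 3, 1, 1, 3, 3, 0, 3], [1, 1, 3, 3, 3, 0, 0, 2, 2, 1, 1, 3, 3, 0, 3, 0, 0, 2, 2, 1, 2, 0, 3, 3], [1, 1, 3, 3, 3, 0, 2, 1, 3, 3, 3, 3, 0, 0, 2, 0, 2, 2, 0, 2, 2, 2, 1, 2], [1, 1, 3, 3, 3, 0, 2, 1, 3, 0, 2, 2, 0, 3, 1, 3, 1, 1, 2, 0, 2, 2, 1, 3], [1, 1, 3, 3, 3, 0, 2, 0, 2, 1, 3, 0, 0, 2, 2, 2, 2, 2, 2, 2, 2, 1, 1, 2], [1, 1, 3, 3, 3, 0, 2, 2, 1, 2, 2, 2, 0, 2, 1, 1, 2, 1, 1, 3, 0, 3, 1, 3], [1, 1, 3, 3, 0, 3, 1, 1, 2, 1, 3, 0, 2, 1, 3, 0, 0, 3, 0, 0, 3, 1, 3, 3],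 [1, 1, 3, 3, 0, 3, 1, 1, 2, 1, 2, 0, 3, 0, 2, 1, 1, 2, 0, 2, 2, 2, 2, 2], [1, 1, 3, 3, 0, 3, 1, 3, 1, 3, 0, 2, 1, 2, 2, 2, 1, 2, 1, 3, 0, 2, 0, 2], [1, 1, 3, 3, 0, 3, 1, 3, 1, 2, 2, 0, 0, 2, 1, 1, 3, 0, 0, 3, 1, 3, 3, 3], [1, 1, 3, 3, 0, 3, 1, 3, 3, 0, 3, 3, 1, 1, 3, 3, 0, 3, 1, 3, 3, 0, 3, 3], [1, 1, 3, 3, 0, 3, 1, 2, 1, 3, 3, 1, 2, 0, 3, 3, 0, 3, 1, 3, 1, 2, 0, 3], [1, 1, 3, 3, 0, 3, 3, 1, 3, 1, 2, 0, 3, 1, 3, 0, 3, 3, 1, 3, 3, 3, 0, 2], [1, 1, 3, 3, 0, 3, 3, 0, 3, 3, 0, 3, 1, 1, 3, 3, 0, 3, 3, 0, 3, 3, 0, 3], [1, 1, 3, 3, 0, 0, 3, 1, 2, 2, 0, 0, 3, 0, 3, 3, 3, 1, 1, 2, 1, 2, 1, 2], [1, 1, 3, 3, 0, 0, 3, 0, 3, 1, 2, 0, 2, 0, 2, 1, 3, 1, 2, 2, 1,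 3, 1, 2], [1, 1, 3, 3, 0, 0, 3, 0, 0, 2, 2, 2, 0, 2, 2, 0, 2, 2, 1, 1, 2, 0, 0, 2], [1, 1, 3, 3, 0, 2, 1, 3, 3, 0, 3, 1, 2, 1, 3, 1, 3, 3, 1, 3, 0, 2, 0, 3], [1, 1, 3, 3, 0, 2, 1, 2, 0, 3, 1, 3, 3, 1, 2, 0, 2, 2, 1, 1, 2, 0, 2, 2], [1, 1, 3, 3, 0, 2, 0, 3, 1, 1, 3, 0, 2, 1, 3, 3, 1, 3, 1, 3, 3, 3, 3, 3], [1, 1, 3, 3, 0, 2, 0, 3, 1, 2, 0, 3, 1, 3, 0, 2, 2, 1, 1, 3, 0, 3, 0, 3], [1, 1, 3, 3, 0, 2, 0, 2, 2, 2, 2, 1, 2, 1, 1, 2, 1, 3, 1, 2, 1, 1, 2, 2], [1, 1, 3, 3, 0, 2, 2, 1, 3, 3, 3, 0, 3, 0, 0, 2, 2, 1, 2, 0, 3, 3, 0, 2], [1, 1, 3, 3, 0, 2, 2, 0, 2, 0, 2, 1, 3, 0, 2, 1, 3, 0, 2, 1, 3, 0, 0, 2], [1, 1, 3, 0, 3, 1, 3, 1, 2, 0, 3, 0, 2, 1, 2, 0, 3, 1,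 3, 0, 3, 3, 0, 3], [1, 1, 3, 0, 3, 1, 3, 3, 3, 3, 1, 2, 1, 2, 2, 2, 0, 2, 2, 0, 2, 0, 2, 2], [1, 1, 3, 0, 3, 1, 3, 3, 3, 0, 0, 3, 0, 0, 3, 0, 2, 2, 1, 2, 0, 2, 0, 3], [1, 1, 3, 0, 3, 1, 3, 3, 0, 3, 1, 3, 1, 1, 3, 0, 3, 1, 3, 3, 0, 3, 1, 3], [1, 1, 3, 0, 3, 1, 3, 0, 0, 2, 0, 3, 1, 1, 2, 1, 3, 1, 2, 0, 0, 2, 2, 2], [1, 1, 3, 0, 3, 1, 2, 1, 2, 2, 1, 1, 3, 0, 0, 3, 1, 3, 3, 1, 2, 0, 0, 3], [1, 1, 3, 0, 3, 1, 2, 2, 1, 3, 0, 0, 2, 2, 1, 1, 2, 0, 2, 2, 2, 2, 2, 2], [1, 1, 3, 0, 3, 1, 2, 2, 1, 2, 0, 0, 2, 2, 2, 2, 2, 1, 2, 0, 3, 0, 0, 3], [1, 1, 3, 0, 3, 3, 3, 1, 2, 0, 2, 0, 2, 2, 1, 3, 3, 1, 3, 3, 3, 3, 3, 3], [1, 1, 3, 0, 3, 3, 3, 3, 1, 1, 3, 0, 0, 3, 0,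 3, 1, 3, 3, 3, 3, 1, 1, 2], [1, 1, 3, 0, 3, 3, 3, 0, 2, 2, 1, 1, 3, 0, 0, 2, 1, 3, 0, 3, 0, 0, 3, 3], [1, 1, 3, 0, 3, 0, 3, 1, 2, 2, 1, 2, 0, 2, 2, 2, 0, 3, 0, 0, 3, 3, 0, 2], [1, 1, 3, 0, 3, 0, 3, 3, 3, 0, 2, 1, 1, 2, 1, 2, 2, 2, 1, 3, 3, 3, 3, 3], [1, 1, 3, 0, 3, 0, 3, 0, 3, 1, 2, 0, 2, 1, 3, 3, 0, 0, 2, 2, 1, 3, 0, 3], [1, 1, 3, 0, 3, 0, 2, 1, 3, 1, 1, 3, 0, 0, 2, 2, 2, 1, 1, 3, 0, 2, 0, 3], [1, 1, 3, 0, 3, 0, 2, 1, 3, 3, 3, 0, 3, 1, 2, 1, 3, 0, 2, 1, 1, 2, 1, 2], [1, 1, 3, 0, 3, 0, 2, 1, 3, 0, 3, 3, 3, 0, 2, 2, 2, 0, 3, 3, 1, 2, 0, 2], [1, 1, 3, 0, 3, 0, 2, 1, 2, 2, 1, 3, 0, 2, 0, 3, 0, 3, 3, 1, 2, 2, 1, 3], [1, 1, 3, 0, 3, 0, 2, 0, 2, 1, 2, 1,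 3, 0, 2, 0, 3, 1, 3, 1, 2, 0, 0, 2], [1, 1, 3, 0, 3, 0, 2, 0, 2, 0, 3, 0, 3, 0, 3, 3, 3, 3, 3, 3, 0, 3, 0, 3], [1, 1, 3, 0, 0, 3, 1, 3, 1, 3, 3, 3, 0, 0, 2, 1, 3, 0, 0, 3, 3, 3, 3, 3], [1, 1, 3, 0, 0, 3, 3, 1, 2, 0, 0, 2, 0, 2, 0, 3, 1, 3, 3, 3, 3, 3, 0, 3], [1, 1, 3, 0, 0, 3, 3, 3, 1, 2, 1, 3, 1, 3, 3, 3, 3, 0, 3, 3, 3, 0, 3, 3], [1, 1, 3, 0, 0, 3, 3, 3, 0, 2, 0, 3, 1, 3, 3, 1, 3, 1, 3, 3, 3, 3, 1, 3], [1, 1, 3, 0, 0, 3, 0, 2, 1, 3, 0, 3, 3, 1, 3, 3, 0, 0, 2, 2, 2, 1, 1, 2], [1, 1, 3, 0, 0, 3, 0, 2, 0, 2, 2, 0, 3, 3, 3, 1, 3, 3, 3, 0, 0, 2, 0, 2], [1, 1, 3, 0, 0, 2, 0, 2, 2, 2, 1, 2, 2, 2, 2, 0, 3, 1, 3, 0, 2, 0, 3, 3], [1, 1, 3, 0, 2, 1, 1, 3, 0,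 2, 2, 0, 2, 1, 2, 1, 3, 1, 3, 0, 2, 1, 3, 3], [1, 1, 3, 0, 2, 1, 1, 2, 0, 2, 0, 3, 3, 3, 3, 3, 3, 3, 0, 3, 3, 0, 0, 3], [1, 1, 3, 0, 2, 1, 3, 3, 1, 2, 0, 3, 0, 0, 2, 2, 2, 2, 2, 1, 3, 0, 0, 2], [1, 1, 3, 0, 2, 1, 3, 0, 0, 2, 1, 1, 2, 0, 2, 1, 3, 3, 3, 1, 3, 0, 2, 2], [1, 1, 3, 0, 2, 1, 2, 0, 3, 3, 3, 3, 0, 3, 1, 1, 2, 0, 3, 1, 3, 3, 1, 3], [1, 1, 3, 0, 2, 1, 2, 2, 2, 2, 2, 2, 0, 3, 0, 2, 1, 3, 3, 3, 0, 0, 2, 2], [1, 1, 3, 0, 2, 0, 3, 3, 1, 3, 3, 3, 0, 2, 2, 1, 3, 1, 3, 1, 2, 0, 0, 3], [1, 1, 3, 0, 2, 0, 3, 3, 3, 1, 2, 2, 1, 3, 3, 0, 0, 3, 0, 2, 0, 3, 1, 3], [1, 1, 3, 0, 2, 0, 3, 0, 0, 3, 0, 3, 3, 1, 1, 2, 1, 3, 3, 3, 3, 1, 2, 2], [1, 1, 3, 0, 2, 0,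 2, 1, 3, 1, 3, 3, 0, 3, 1, 2, 2, 0, 2, 1, 3, 0, 3, 3], [1, 1, 3, 0, 2, 0, 2, 1, 3, 3, 0, 2, 2, 2, 1, 3, 1, 1, 2, 2, 1, 3, 0, 3], [1, 1, 3, 0, 2, 0, 2, 2, 0, 2, 2, 0, 2, 2, 2, 1, 1, 2, 1, 3, 0, 2, 2, 2], [1, 1, 3, 0, 2, 2, 0, 3, 1, 2, 0, 3, 0, 0, 3, 0, 2, 2, 1, 2, 2, 2, 2, 2], [1, 1, 3, 0, 2, 2, 0, 2, 1, 2, 2, 2, 1, 3, 3, 1, 3, 3, 3, 3, 0, 2, 2, 2], [1, 1, 3, 0, 2, 2, 0, 2, 0, 3, 1, 2, 1, 3, 1, 3, 0, 0, 3, 3, 0, 3, 0, 2], [1, 1, 3, 0, 2, 2, 2, 0, 2, 1, 2, 1, 2, 0, 3, 0, 2, 1, 3, 3, 0, 3, 1, 3], [1, 1, 3, 0, 2, 2, 2, 2, 2, 1, 3, 3, 1, 3, 3, 1, 2, 2, 2, 2, 1, 3, 1, 2], [1, 1, 2, 1, 1, 2, 1, 1, 2, 1, 1, 2, 1, 1, 2, 1, 1, 2, 1, 1, 2, 1, 1, 2], [1, 1, 2,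 1, 1, 2, 1, 3, 3, 0, 2, 2, 2, 2, 0, 2, 2, 1, 1, 2, 2, 1, 3, 3], [1, 1, 2, 1, 1, 2, 0, 3, 0, 3, 1, 3, 3, 1, 2, 1, 2, 0, 3, 1, 3, 3, 1, 3], [1, 1, 2, 1, 1, 2, 0, 2, 0, 3, 3, 0, 0, 2, 1, 1, 2, 2, 0, 2, 0, 3, 0, 2], [1, 1, 2, 1, 3, 1, 3, 0, 0, 2, 0, 3, 3, 0, 2, 2, 0, 3, 0, 2, 0, 2, 0, 2], [1, 1, 2, 1, 3, 1, 2, 1, 2, 1, 1, 2, 2, 2, 1, 2, 1, 3, 1, 3, 0, 2, 1, 2], [1, 1, 2, 1, 3, 3, 1, 3, 1, 2, 1, 1, 2, 0, 3, 0, 3, 3, 0, 3, 3, 0, 2, 2], [1, 1, 2, 1, 3, 3, 3, 3, 1, 3, 3, 3, 3, 1, 3, 3, 0, 3, 1, 2, 2, 0, 2, 2], [1, 1, 2, 1, 3, 3, 0, 3, 0, 3, 1, 2, 2, 2, 1, 2, 1, 3, 1, 3, 0, 2, 1, 2], [1, 1, 2, 1, 3, 3, 0, 0, 3, 1, 3, 1, 2, 1, 2, 2, 2, 2, 1, 1, 2, 2, 0, 3],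 [1, 1, 2, 1, 3, 3, 0, 0, 3, 1, 2, 0, 3, 1, 3, 0, 2, 1, 1, 2, 0, 3, 1, 2], [1, 1, 2, 1, 3, 3, 0, 0, 2, 1, 3, 3, 0, 3, 1, 3, 0, 2, 0, 2, 1, 3, 1, 2], [1, 1, 2, 1, 3, 3, 0, 2, 1, 2, 0, 3, 3, 3, 0, 2, 0, 2, 2, 2, 2, 2, 1, 3], [1, 1, 2, 1, 3, 0, 3, 0, 2, 2, 2, 1, 3, 0, 3, 3, 1, 3, 1, 2, 0, 3, 1, 3], [1, 1, 2, 1, 3, 0, 2, 1, 2, 1, 3, 0, 2, 0, 3, 3, 0, 2, 1, 2, 0, 3, 3, 3], [1, 1, 2, 1, 3, 0, 2, 2, 1, 3, 1, 3, 3, 0, 2, 1, 2, 0, 3, 3, 0, 3, 0, 3], [1, 1, 2, 1, 2, 1, 3, 1, 3, 0, 3, 3, 1, 2, 0, 3, 3, 0, 3, 3, 0, 0, 2, 2], [1, 1, 2, 1, 2, 0, 2, 0, 3, 1, 3, 0, 2, 1, 2, 2, 2, 2, 0, 2, 2, 1, 3, 3], [1, 1, 2, 1, 2, 2, 0, 2, 2, 1, 2, 1, 2, 1, 3, 0, 2, 2, 2, 2, 0,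 2, 2, 2], [1, 1, 2, 1, 2, 2, 2, 1, 2, 0, 2, 1, 3, 0, 3, 0, 3, 0, 2, 2, 1, 2, 0, 2], [1, 1, 2, 1, 2, 2, 2, 1, 2, 2, 2, 2, 1, 3, 3, 1, 2, 0, 2, 0, 2, 2, 1, 3], [1, 1, 2, 1, 2, 2, 2, 2, 1, 3, 3, 0, 0, 2, 0, 3, 0, 2, 0, 3, 1, 3, 1, 3], [1, 1, 2, 1, 2, 2, 2, 2, 2, 1, 3, 0, 3, 3, 3, 0, 3, 0, 2, 2, 2, 0, 3, 3], [1, 1, 2, 0, 3, 3, 1, 3, 1, 3, 1, 2, 2, 0, 3, 1, 2, 0, 2, 0, 2, 2, 0, 2], [1, 1, 2, 0, 3, 3, 1, 3, 3, 3, 0, 0, 3, 3, 3, 1, 3, 3, 1, 3, 0, 2, 0, 3], [1, 1, 2, 0, 3, 3, 1, 2, 1, 3, 1, 3, 0, 3, 0, 3, 0, 2, 0, 3, 3, 3, 0, 3], [1, 1, 2, 0, 3, 3, 3, 1, 3, 1, 3, 0, 3, 3, 3, 0, 2, 1, 2, 1, 3, 0, 3, 3], [1, 1, 2, 0, 3, 3, 3, 3, 0, 3, 1, 3, 3, 3, 3, 3, 3, 0,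 2, 2, 1, 3, 1, 2], [1, 1, 2, 0, 3, 0, 2, 0, 3, 3, 0, 3, 1, 3, 3, 1, 2, 0, 2, 1, 3, 3, 3, 3], [1, 1, 2, 0, 2, 1, 1, 2, 2, 1, 3, 3, 3, 1, 3, 3, 3, 1, 2, 2, 2, 2, 1, 3], [1, 1, 2, 0, 2, 1, 1, 2, 2, 2, 1, 3, 3, 1, 3, 3, 0, 3, 0, 2, 1, 2, 0, 3], [1, 1, 2, 0, 2, 1, 3, 0, 3, 3, 0, 0, 3, 0, 2, 2, 0, 2, 1, 3, 3, 0, 2, 2], [1, 1, 2, 0, 2, 1, 2, 2, 1, 2, 0, 2, 1, 3, 3, 1, 2, 0, 2, 2, 2, 1, 2, 2], [1, 1, 2, 0, 2, 0, 2, 0, 3, 0, 2, 1, 2, 0, 2, 1, 3, 0, 3, 3, 3, 0, 3, 3], [1, 1, 2, 0, 2, 0, 2, 2, 2, 0, 3, 0, 2, 1, 3, 3, 3, 3, 3, 0, 3, 3, 0, 2], [1, 1, 2, 0, 2, 2, 0, 3, 3, 3, 1, 2, 1, 1, 2, 0, 2, 2, 0, 3, 3, 3, 1, 2], [1, 1, 2, 2, 1, 1, 2, 2, 1, 3, 3, 3, 0, 3, 0,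 2, 0, 3, 3, 0, 2, 2, 1, 2], [1, 1, 2, 2, 1, 3, 1, 1, 2, 2, 2, 0, 3, 1, 1, 2, 2, 0, 2, 1, 3, 1, 3, 3], [1, 1, 2, 2, 1, 2, 2, 1, 3, 0, 2, 2, 1, 2, 0, 2, 2, 1, 2, 1, 2, 0, 3, 3], [1, 1, 2, 2, 0, 3, 3, 3, 3, 3, 1, 2, 2, 2, 2, 2, 1, 3, 3, 3, 1, 3, 1, 2], [1, 1, 2, 2, 0, 2, 2, 2, 2, 1, 2, 0, 2, 1, 3, 1, 3, 0, 3, 3, 1, 2, 0, 2], [1, 1, 2, 2, 2, 1, 3, 3, 1, 3, 3, 0, 3, 1, 3, 3, 1, 3, 3, 1, 3, 3, 3, 3], [1, 1, 2, 2, 2, 1, 3, 3, 3, 3, 0, 0, 2, 2, 0, 2, 1, 3, 3, 3, 0, 3, 0, 2], [1, 1, 2, 2, 2, 0, 2, 2, 1, 3, 3, 3, 0, 2, 1, 3, 3, 0, 3, 1, 2, 1, 2, 2], [1, 1, 2, 2, 2, 2, 0, 2, 1, 2, 0, 2, 0, 3, 1, 3, 0, 3, 3, 3, 1, 3, 1, 3], [1, 1, 2, 2, 2, 2, 2, 0, 3, 3, 1, 2,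 2, 1, 3, 3, 3, 3, 3, 3, 1, 3, 3, 3], [1, 1, 2, 2, 2, 2, 2, 0, 3, 0, 3, 1, 2, 1, 3, 3, 3, 0, 3, 1, 2, 2, 0, 2], [1, 3, 1, 3, 1, 3, 0, 2, 1, 3, 1, 2, 2, 2, 1, 2, 0, 2, 1, 2, 2, 1, 2, 2], [1, 3, 1, 3, 1, 2, 1, 2, 1, 2, 0, 3, 3, 3, 1, 3, 3, 3, 3, 1, 2, 2, 1, 2], [1, 3, 1, 3, 3, 3, 3, 0, 3, 0, 2, 2, 0, 2, 2, 2, 2, 0, 3, 3, 1, 3, 3, 3], [1, 3, 1, 3, 3, 0, 3, 0, 2, 0, 2, 1, 3, 0, 2, 1, 2, 2, 2, 2, 0, 3, 0, 2], [1, 3, 1, 3, 0, 3, 3, 0, 3, 1, 3, 3, 3, 0, 3, 1, 2, 0, 2, 2, 2, 0, 3, 3], [1, 3, 1, 3, 0, 3, 3, 0, 2, 1, 2, 1, 2, 1, 3, 3, 0, 2, 1, 2, 2, 2, 0, 3], [1, 3, 1, 3, 0, 3, 0, 2, 0, 2, 2, 2, 2, 1, 2, 2, 1, 2, 1, 3, 3, 1, 3, 3], [1, 3, 1, 3, 0, 2, 2, 0, 2,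 2, 1, 2, 2, 1, 2, 2, 1, 3, 3, 3, 0, 2, 2, 2], [1, 3, 1, 2, 1, 2, 1, 3, 0, 3, 1, 3, 3, 3, 0, 3, 1, 3, 1, 2, 0, 3, 1, 2], [1, 3, 1, 2, 0, 3, 1, 2, 1, 3, 3, 0, 3, 0, 3, 3, 0, 3, 1, 3, 3, 3, 0, 3], [1, 3, 3, 1, 2, 0, 3, 0, 2, 1, 2, 2, 1, 3, 3, 1, 2, 0, 3, 0, 2, 1, 2, 2], [1, 3, 3, 1, 2, 2, 0, 3, 1, 3, 0, 3, 1, 3, 3, 1, 2, 2, 0, 3, 1, 3, 0, 3], [1, 3, 3, 1, 2, 2, 2, 0, 3, 3, 0, 2, 1, 3, 3, 1, 2, 2, 2, 0, 3, 3, 0, 2], [1, 3, 3, 3, 1, 2, 1, 2, 2, 0, 2, 2, 2, 2, 1, 2, 0, 3, 1, 3, 3, 3, 0, 2], [1, 3, 3, 3, 3, 3, 3, 3, 3, 1, 3, 3, 0, 3, 0, 2, 1, 2, 2, 1, 2, 2, 2, 2], [1, 3, 3, 3, 0, 3, 1, 2, 1, 3, 0, 2, 1, 3, 0, 3, 0, 3, 1, 3, 0, 3, 0, 2], [1, 3, 3, 0, 2, 2,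 1, 2, 1, 3, 3, 0, 2, 2, 1, 2, 1, 3, 3, 0, 2, 2, 1, 2], [2, 2, 2, 2, 2, 2, 2, 2, 2, 2, 2, 2, 2, 2, 2, 2, 2, 2, 2, 2, 2, 2, 2], [4, 4, 4, 4, 4, 4, 4, 4, 4, 4, 4], [4, 0, 5, 2, 2, 1, 1, 1, 3, 3], [4, 1, 5, 2, 2, 0, 0, 0, 3, 3], [4, 3, 3, 3, 3, 1, 2, 2, 1, 2, 5, 2, 0, 2, 1, 3, 1, 3, 0, 0, 0, 2, 0, 3], [4, 3, 0, 3, 3, 0, 2, 2, 2, 2, 5, 2, 1, 3, 1, 1, 1, 2, 0, 2, 0, 3, 1, 3], [4, 3, 0, 2, 1, 1, 2, 0, 2, 1, 3, 1, 2, 5, 2, 1, 3, 1, 3, 1, 1, 2, 2, 2], [4, 3, 0, 2, 0, 3, 1, 3, 0, 0, 3, 1, 2, 5, 3, 3, 3, 0, 0, 2, 0, 2, 0, 3], [4, 2, 2, 0, 0, 0, 2, 1, 2, 2, 5, 1, 3, 3, 3, 0, 3, 1, 2, 1, 3, 1, 1, 1, 3, 1], [4, 3, 3, 0, 3, 1, 1, 1, 3, 3, 5, 0, 2, 0, 0, 0, 2, 0,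 3, 0, 2, 1, 2, 2, 2, 0], [0, 1], [1, 0], [2, 3], [3, 2], [4, 5], [5, 4]]

/-- the seed relators with their twists -/
def seedL : List (List ℕ × List ℕ) :=
  seedW.map (fun w => (w, List.replicate 9 0)) ++ [([4, 1, 1, 3, 5, 2, 2, 1, 3, 3, 4, 1, 1, 2, 5, 2, 2, 1, 3, 3], [1, 0, 0, 0, 0, 0, 0, 0, 0]), ([4, 1, 1, 3, 5, 2, 2, 0, 3, 3, 4, 0, 0, 2, 5, 2, 2, 1, 3, 3], [0, 1, 0, 0, 0, 0, 0, 0, 0]), ([4, 3, 3, 3, 1, 3, 3, 0, 0, 3, 3, 5, 0, 2, 2, 1, 2, 0, 2, 2, 1, 3], [0, 0, 1, 0, 0, 0, 0, 0, 0]), ([5, 1, 2, 4, 1, 5, 1, 3, 4, 1, 1, 2, 2, 0, 3, 3, 0, 2, 2, 0, 2, 0], [0, 0, 0, 1, 0, 0, 0, 0, 0]), ([5, 3, 3, 1, 4, 0, 0, 5, 2, 4, 3, 0, 2, 2, 1, 3, 1, 1, 2, 1, 3, 1],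 [0, 0, 0, 0, 1, 0, 0, 0, 0]), ([4, 0, 4, 3, 3, 4, 1, 3, 3, 5, 3, 0, 3, 3, 0, 2, 1, 1, 2, 1, 2, 2], [0, 0, 0, 0, 0, 1, 0, 0, 0]), ([4, 3, 1, 2, 2, 0, 3, 5, 2, 1, 3, 3, 1, 3, 1, 2, 1, 2, 1, 3, 3, 0, 2], [0, 0, 0, 0, 0, 0, 1, 0, 0]), ([5, 3, 1, 3, 4, 1, 1, 5, 1, 3, 5, 1, 2, 1, 1, 3, 3, 0, 3, 1, 2, 0, 2, 1], [0, 0, 0, 0, 0, 0, 0, 1, 0]), ([5, 5, 3, 3, 0, 0, 0, 3, 1, 5, 0, 5, 3, 0, 2, 2, 2, 1, 1, 2, 0, 0, 3], [0, 0, 0, 0, 0, 0, 0, 0, 1])]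

/-- boolean form of `words_mem` -/
noncomputable def wordsChk : Bool :=
  lall (fun v : List ℕ × Bool => cond v.2 (lmem v.1 relL) (lmem v.1 subL)) words.toList

theorem wordsChk_ok : wordsChk = true := by
  decide +kernel

theorem words_mem : ∀ v ∈ words.toList, (v.2 = true → v.1 ∈ relL) ∧ (v.2 = false → v.1 ∈ subL) := by
  intro v hv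
  have h := forall_of_all wordsChk_ok v hv
  rcases v with ⟨w, r⟩
  cases r
  · exact ⟨fun h' => absurd h' (by simp), fun _ => (lmem_iff _ _).1 h⟩
  · exact ⟨fun _ => (lmem_iff _ _).1 h, fun h' => absurd h' (by simp)⟩

/-- the seed words are in the seed list -/
noncomputable def seedChk (w : ℕ) : Bool :=
  match WT.get words w with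
  | some (wd, true) => decide ((wd, Ev w) ∈ seedL)
  | _ => true

/-- boolean form of `seedChk` -/
noncomputable def seedChkB (w : ℕ) : Bool :=
  match WT.get words w with
  | some (wd, true) => pmem (wd, Ev w) seedL
  | _ => true

theorem seedChkB_ok : nall seedChkB 861 = true := by
  decide +kernel

theorem seed_mem : ∀ w < 861, seedChk w = true := by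
  intro w hw
  have h := forall_lt_of_all seedChkB_ok w hw
  unfold seedChkB at h
  unfold seedChk
  rcases hget : WT.get words w with _ | ⟨wd, r⟩
  · rfl
  · cases r
    · rfl
    · rw [hget] at h
      exact decide_eq_true ((pmem_iff _ _).1 h)

end Cfsg.Agent.Lib.H27.Co3M.C
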